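import Groth.Agent.LimLib.RelApprox
import Mathlib.AlgebraicGeometry.IdealSheaf.Functorial

/-!
# Ideal sheaves of finite type and closed immersions of finite presentation

* `fg_ker_ideal`, `lfp_of_fg_ker`: a closed immersion is locally of finite presentation iff its
  ideal is of finite type.
* `exists_iSup_fg_eq`: on a qcqs scheme every quasi-coherent ideal is a directed supremum of ideals
  of finite type.
* `idealDiagram`, `isLimitIdealCone`: subschemes of a directed family of ideals.
-/

set_option backward.isDefEq.respectTransparency false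
set_option backward.defeqAttrib.useBackward true

universe u

open CategoryTheory Limits AlgebraicGeometry TopologicalSpace Opposite

namespace Groth.Agent.LimLib

/-- The ideal of a closed immersion of finite presentation is of finite type. -/
lemma fg_ker_ideal {X Y : Scheme.{u}} (f : X ⟶ Y) [IsClosedImmersion f]
    [LocallyOfFinitePresentation f] (U : Y.affineOpens) : (f.ker.ideal U).FG := by
  rw [Scheme.Hom.ker_apply]
  have hfp := f.finitePresentation_appLE U.2 (V := f ⁻¹ᵁ U.1) (U.2.preimage f) le_rfl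
  rw [← Scheme.Hom.app_eq_appLE] at hfp
  let _ := (f.app U.1).hom.toAlgebra
  have : Algebra.FinitePresentation Γ(Y, U.1) Γ(X, f ⁻¹ᵁ U.1) := hfp
  exact Algebra.FinitePresentation.ker_fG_of_surjective
    (Algebra.ofId Γ(Y, U.1) Γ(X, f ⁻¹ᵁ U.1)) (f.app_surjective U.1 U.2)

/-- A closed immersion with ideal of finite type is locally of finite presentation. -/
lemma lfp_of_fg_ker {X Y : Scheme.{u}} (f : X ⟶ Y) [IsClosedImmersion f]
    (h : ∀ U : Y.affineOpens, (f.ker.ideal U).FG) : LocallyOfFinitePresentation f := by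
  refine (IsZariskiLocalAtTarget.iff_of_iSup_eq_top (P := @LocallyOfFinitePresentation)
    (fun U : Y.affineOpens => U.1) (iSup_affineOpens_eq_top Y)).mpr fun U => ?_
  have : IsAffine (U.1 : Scheme.{u}) := U.2
  have : IsAffine ((f ⁻¹ᵁ U.1 : X.Opens) : Scheme.{u}) := U.2.preimage f
  rw [HasRingHomProperty.iff_of_isAffine (P := @LocallyOfFinitePresentation),
    morphismRestrict_appTop]
  apply RingHom.finitePresentation_respectsIso.1
    _ ((X.presheaf.mapIso (eqToIso (image_morphismRestrict_preimage f U.1 ⊤)).op).commRingCatIsoToRingEquiv)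
  have hU : U.1.ι ''ᵁ ⊤ = U.1 := by simp
  refine RingHom.FinitePresentation.of_surjective _
    (f.app_surjective _ (by rw [hU]; exact U.2)) ?_
  have e := h ⟨U.1.ι ''ᵁ ⊤, by rw [hU]; exact U.2⟩
  rw [Scheme.Hom.ker_apply] at e
  exact e

instance {X Y : Scheme.{u}} (J : Y.IdealSheafData) (f : X ⟶ Y)
    [LocallyOfFinitePresentation J.subschemeι] :
    LocallyOfFinitePresentation (J.comap f).subschemeι := by
  rw [← Scheme.IdealSheafData.comapIso_hom_fst]
  infer_instance

lemma lfp_subschemeι_iff {Y : Scheme.{u}} (J : Y.IdealSheafData) :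
    LocallyOfFinitePresentation J.subschemeι ↔ ∀ U : Y.affineOpens, (J.ideal U).FG := by
  constructor
  · intro _ U
    simpa using fg_ker_ideal J.subschemeι U
  · intro h
    exact lfp_of_fg_ker _ (by simpa using h)

lemma appLE_mem_ideal_congr {X Y : Scheme.{u}} (K : X.IdealSheafData) (f : X ⟶ Y) {W : Y.Opens}
    {U U' : X.affineOpens} (h : U = U') (e : U.1 ≤ f ⁻¹ᵁ W) (e' : U'.1 ≤ f ⁻¹ᵁ W) (t : Γ(Y, W)) :
    f.appLE W U.1 e t ∈ K.ideal U ↔ f.appLE W U'.1 e' t ∈ K.ideal U' := by
  subst h
  rfl

/-- An ideal on a limit is the union of the pullbacks of its images at the stages. -/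
lemma iSup_comap_map_eq {I : Type u} [SmallCategory I] [IsCofiltered I] {D : I ⥤ Scheme.{u}}
    {c : Cone D} (hc : IsLimit c) [∀ (i j : I) (f : i ⟶ j), IsAffineHom (D.map f)]
    [∀ i, QuasiSeparatedSpace (D.obj i)] (K : c.pt.IdealSheafData) :
    ⨆ i, (K.map (c.π.app i)).comap (c.π.app i) = K := by
  refine le_antisymm (iSup_le fun i => Scheme.IdealSheafData.comap_map_le K (c.π.app i)) ?_
  have haff : ∀ i, IsAffineHom (c.π.app i) := fun i => isAffineHom_π_app _ _ hc i
  let U : (Σ i : I, (D.obj i).affineOpens) → c.pt.affineOpens :=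
    fun x => ⟨c.π.app x.1 ⁻¹ᵁ x.2.1, (x.2.2.preimage (c.π.app x.1))⟩
  refine Scheme.IdealSheafData.le_of_iSup_eq_top U ?_ ?_
  · refine top_le_iff.mp fun x _ => ?_
    obtain ⟨_, ⟨_, ⟨i, V, hV, rfl⟩, rfl⟩, hx, -⟩ :=
      (isBasis_preimage_isAffineOpen D c hc).exists_subset_of_mem_open (Set.mem_univ x) isOpen_univ
    exact Opens.mem_iSup.mpr ⟨⟨i, ⟨_, hV⟩⟩, hx⟩
  · rintro ⟨i, V⟩ a ha
    obtain ⟨j, f, hle, t, ht⟩ := exists_appLE_eq hc V.2.isCompact (V := c.π.app i ⁻¹ᵁ V.1) rfl a
    have heq : c.π.app j ⁻¹ᵁ (D.map f ⁻¹ᵁ V.1) = c.π.app i ⁻¹ᵁ V.1 := congr($(c.w f) ⁻¹ᵁ V.1)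
    let W : (D.obj j).affineOpens := ⟨D.map f ⁻¹ᵁ V.1, V.2.preimage _⟩
    have hsame : (⟨c.π.app j ⁻¹ᵁ W.1, W.2.preimage (c.π.app j)⟩ : c.pt.affineOpens) = U ⟨i, V⟩ :=
      Subtype.ext heq
    rw [Scheme.IdealSheafData.ideal_iSup, iSup_apply]
    refine Submodule.mem_iSup_of_mem j ?_
    have hmem : t ∈ (K.map (c.π.app j)).ideal W := by
      rw [Scheme.IdealSheafData.ideal_map_of_isAffineHom, Ideal.mem_comap]
      have h₁ := (appLE_mem_ideal_congr K (c.π.app j) (W := W.1) hsame.symm hle le_rfl t).mp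
        (ht ▸ ha)
      rw [← Scheme.Hom.app_eq_appLE] at h₁
      exact h₁
    have h₂ : t ∈ (((K.map (c.π.app j)).comap (c.π.app j)).map (c.π.app j)).ideal W :=
      Scheme.IdealSheafData.le_map_comap (K.map (c.π.app j)) (c.π.app j) W hmem
    rw [Scheme.IdealSheafData.ideal_map_of_isAffineHom, Ideal.mem_comap] at h₂
    have h₃ := (appLE_mem_ideal_congr ((K.map (c.π.app j)).comap (c.π.app j)) (c.π.app j)
      (W := W.1) hsame.symm hle le_rfl t).mpr (by rw [← Scheme.Hom.app_eq_appLE]; exact h₂)
    rw [← ht]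
    exact h₃

/-- Quasi-coherent ideals on a qcqs scheme are directed unions of ideals of finite type. -/
theorem exists_iSup_fg_eq {Y : Scheme.{u}} [CompactSpace Y] [QuasiSeparatedSpace Y]
    (K : Y.IdealSheafData) :
    ∃ (J : Type u) (_ : Preorder J) (_ : IsDirectedOrder J) (_ : Nonempty J)
      (F : J →o Y.IdealSheafData), (∀ j U, ((F j).ideal U).FG) ∧ ⨆ j, F j = K := by
  obtain ⟨Q⟩ := nonempty_ftSystem Y
  let F : Q.J → Y.IdealSheafData := fun b => (K.map (Q.π.app (op b))).comap (Q.π.app (op b))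
  have hF : Monotone F := by
    intro b b' h
    have e : Q.π.app (op b) = Q.π.app (op b') ≫ Q.D.map (homOfLE h).op := by
      simpa using Q.π.naturality (homOfLE h).op
    show (K.map (Q.π.app (op b))).comap (Q.π.app (op b)) ≤ _
    rw [e, Scheme.IdealSheafData.comap_comp, Scheme.IdealSheafData.map_comp]
    exact Scheme.IdealSheafData.comap_mono _ (Scheme.IdealSheafData.comap_map_le _ _)
  refine ⟨Q.J, inferInstance, inferInstance, inferInstance, ⟨F, hF⟩, fun b => ?_, ?_⟩
  · refine (lfp_subschemeι_iff _).mp ?_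
    have : LocallyOfFinitePresentation (K.map (Q.π.app (op b))).subschemeι := inferInstance
    exact inferInstanceAs
      (LocallyOfFinitePresentation ((K.map (Q.π.app (op b))).comap (Q.π.app (op b))).subschemeι)
  · rw [← iSup_comap_map_eq Q.isLimit.some K]
    exact Function.Surjective.iSup_congr (fun b => op b) (fun b => ⟨b.unop, rfl⟩) fun b => rfl

section diagram

variable {Y : Scheme.{u}} {J : Type u} [Preorder J] (F : J →o Y.IdealSheafData)

/-- The closed subschemes of a monotone family of ideals. -/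
noncomputable def idealDiagram : Jᵒᵖ ⥤ Over Y where
  obj j := Over.mk (F j.unop).subschemeι
  map {i j} h := Over.homMk (Scheme.IdealSheafData.inclusion (F.mono h.unop.le))
    (Scheme.IdealSheafData.inclusion_subschemeι _)
  map_id j := by ext1; exact Scheme.IdealSheafData.inclusion_id _
  map_comp {i j k} a b := by ext1; exact (Scheme.IdealSheafData.inclusion_comp _ _).symm

instance {i j : Jᵒᵖ} (h : i ⟶ j) : IsClosedImmersion ((idealDiagram F).map h).left := by
  show IsClosedImmersion (Scheme.IdealSheafData.inclusion (F.mono h.unop.le))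
  infer_instance

variable {X : Scheme.{u}} (ι : X ⟶ Y) [IsClosedImmersion ι] (hι : ⨆ j, F j = ι.ker)

/-- The cone with vertex a closed subscheme. -/
noncomputable def idealCone : Cone (idealDiagram F) where
  pt := Over.mk ι
  π :=
    { app := fun j => Over.homMk (IsClosedImmersion.lift (F j.unop).subschemeι ι (by
        rw [Scheme.IdealSheafData.ker_subschemeι, ← hι]; exact le_iSup F j.unop))
        (IsClosedImmersion.lift_fac _ _ _)
      naturality := fun i j h => by
        ext1
        show 𝟙 X ≫ _ = _ ≫ Scheme.IdealSheafData.inclusion _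
        rw [← cancel_mono (F j.unop).subschemeι]
        simp }

instance (j : Jᵒᵖ) : IsClosedImmersion ((idealCone F ι hι).π.app j).left := by
  have : IsClosedImmersion (((idealCone F ι hι).π.app j).left ≫ (F j.unop).subschemeι) := by
    show IsClosedImmersion (IsClosedImmersion.lift _ _ _ ≫ _)
    rw [IsClosedImmersion.lift_fac]
    infer_instance
  exact IsClosedImmersion.of_comp _ (F j.unop).subschemeι

/-- A closed subscheme is the limit of the subschemes of ideals with union its ideal. -/
noncomputable def isLimitIdealCone : IsLimit (idealCone F ι hι) := by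
  refine Nonempty.some ⟨IsLimit.ofExistsUnique fun T => ?_⟩
  have hle : ι.ker ≤ T.pt.hom.ker := by
    rw [← hι]
    refine iSup_le fun j => ?_
    have e : (T.π.app (op j)).left ≫ (F j).subschemeι = T.pt.hom := Over.w (T.π.app (op j))
    rw [← e]
    exact (Scheme.IdealSheafData.ker_subschemeι (F j)).ge.trans
      (Scheme.Hom.le_ker_comp (T.π.app (op j)).left (F j).subschemeι)
  refine ⟨Over.homMk (IsClosedImmersion.lift ι T.pt.hom hle) (IsClosedImmersion.lift_fac _ _ _),
    fun j => ?_, fun m hm => ?_⟩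
  · ext1
    rw [← cancel_mono (F j.unop).subschemeι]
    have e : (T.π.app j).left ≫ (F j.unop).subschemeι = T.pt.hom := Over.w (T.π.app j)
    simp [idealCone, e]
  · ext1
    rw [← cancel_mono ι]
    exact (Over.w m).trans (IsClosedImmersion.lift_fac _ _ hle).symm

end diagram

end Groth.Agent.LimLib
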