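import Groth.Agent.LimLib.Sections
import Mathlib.AlgebraicGeometry.Morphisms.Etale
import Mathlib.AlgebraicGeometry.Morphisms.Immersion

/-!
# Descent of standard properties along limits with affine transition maps
-/

set_option backward.isDefEq.respectTransparency false
set_option backward.defeqAttrib.useBackward true

universe u

open CategoryTheory Limits AlgebraicGeometry

namespace Groth.Agent.LimLib

theorem descends_isAffineHom : Descends.{u} @IsAffineHom ⊤ :=
  Descends.of_affine descendsAffine_isAffineHom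

theorem descends_isClosedImmersion : Descends.{u} @IsClosedImmersion @LocallyOfFiniteType :=
  Descends.of_affine descendsAffine_isClosedImmersion

theorem descends_isFinite : Descends.{u} @IsFinite @LocallyOfFiniteType :=
  Descends.of_affine descendsAffine_isFinite

section diagonal

variable {A S X X₀ : Scheme.{u}} {f₀ : X₀ ⟶ S} {a : A ⟶ S} {q : X ⟶ X₀} {f : X ⟶ A}

lemma isPullback_map_diag (h : IsPullback q f f₀ a) :
    IsPullback (pullback.map f f f₀ f₀ q q a h.w.symm h.w.symm) (pullback.fst f f ≫ f)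
      (pullback.fst f₀ f₀ ≫ f₀) a := by
  have e₁ : IsPullback (pullback.map f f f₀ f₀ q q a h.w.symm h.w.symm) (pullback.fst f f)
      (pullback.fst f₀ f₀) q := by
    have o := (IsPullback.of_hasPullback f f).flip.paste_horiz h
    rw [← h.w] at o
    exact IsPullback.of_right (by simpa using o) (by simp) (IsPullback.of_hasPullback f₀ f₀).flip
  exact e₁.paste_vert h

lemma isPullback_diagonal (h : IsPullback q f f₀ a) :
    IsPullback q (pullback.diagonal f) (pullback.diagonal f₀)
      (pullback.map f f f₀ f₀ q q a h.w.symm h.w.symm) := by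
  refine IsPullback.of_bot ?_ (by ext <;> simp) (isPullback_map_diag h)
  simpa using h

end diagonal

/-- If `P` descends, then so does "the diagonal satisfies `P`". -/
theorem Descends.diagonal {P R Q : MorphismProperty Scheme.{u}} [P.IsStableUnderBaseChange]
    [R.IsStableUnderBaseChange] (h : Descends P R)
    (hR : ∀ {X Y : Scheme.{u}} (f : X ⟶ Y), Q f → R (pullback.diagonal f)) :
    Descends P.diagonal Q := by
  intro I _ _ D c hc hD hqc hqs i X₀ f₀ _ _ hQ X q f hf hP
  have : QuasiSeparatedSpace ↑(pullback f₀ f₀) :=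
    quasiSeparatedSpace_of_quasiSeparated (pullback.fst f₀ f₀)
  obtain ⟨j, φ, Xj, Yj, fj, gj, pY, pX, hYj, hXj, hPj⟩ :=
    h.exists_stage hc (pullback.diagonal f₀) (isPullback_map_diag hf) (isPullback_diagonal hf)
      (hR _ hQ) hP
  have e := isPullback_map_diag (IsPullback.of_hasPullback f₀ (D.map φ))
  exact ⟨j, φ, show P (pullback.diagonal _) from property_of_factor (P := P) hXj
    (isPullback_diagonal (IsPullback.of_hasPullback f₀ (D.map φ)))
    (hYj.lift _ _ e.w) (hYj.lift_fst _ _ e.w) hPj⟩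

theorem descends_isSeparated : Descends.{u} @IsSeparated ⊤ := by
  rw [IsSeparated.isSeparated_eq_diagonal_isClosedImmersion]
  exact descends_isClosedImmersion.diagonal fun f _ => inferInstance

/-- The diagonal of a morphism locally of finite type is locally of finite presentation. -/
lemma locallyOfFinitePresentation_diagonal {X Y : Scheme.{u}} (f : X ⟶ Y)
    [LocallyOfFiniteType f] : LocallyOfFinitePresentation (pullback.diagonal f) := by
  wlog hX : (∃ S, X = Spec S) ∧ ∃ R, Y = Spec R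
  · let 𝒰Y := Y.affineCover
    let 𝒰X (j : (Y.affineCover.pullback₁ f).I₀) :
        ((Y.affineCover.pullback₁ f).X j).OpenCover := Scheme.affineCover _
    have hR : MorphismProperty.RespectsRight @LocallyOfFinitePresentation.{u} @IsOpenImmersion :=
      ⟨fun i hi f hf => by have := hi; have := hf; exact MorphismProperty.comp_mem _ f i hf inferInstance⟩
    apply IsZariskiLocalAtTarget.of_range_subset_iSup _
      (Scheme.Pullback.range_diagonal_subset_diagonalCoverDiagonalRange f 𝒰Y 𝒰X)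
    intro ⟨i, j⟩
    rw [MorphismProperty.arrow_mk_iso_iff (P := @LocallyOfFinitePresentation)
      (Scheme.Pullback.diagonalRestrictIsoDiagonal f 𝒰Y 𝒰X i j)]
    have hfin : LocallyOfFiniteType ((𝒰X i).f j ≫ pullback.snd f (𝒰Y.f i)) :=
      MorphismProperty.comp_mem _ _ _ inferInstance (MorphismProperty.pullback_snd _ _ inferInstance)
    exact @this _ _ _ hfin ⟨⟨_, rfl⟩, ⟨_, rfl⟩⟩
  obtain ⟨⟨S, rfl⟩, R, rfl⟩ := hX
  obtain ⟨f, rfl⟩ := Spec.map_surjective f
  rename_i hf
  rw [HasRingHomProperty.Spec_iff (P := @LocallyOfFiniteType)] at hf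
  algebraize [f.hom]
  rw [show f = CommRingCat.ofHom (algebraMap R S) from rfl, diagonal_SpecMap R S,
    MorphismProperty.cancel_right_of_respectsIso (P := @LocallyOfFinitePresentation),
    LocallyOfFinitePresentation.SpecMap_iff]
  exact RingHom.FinitePresentation.of_surjective _ (fun x ↦ ⟨1 ⊗ₜ x, by simp⟩)
    (KaehlerDifferential.ideal_fg R S)

instance hasOfPostcomp_lfp :
    MorphismProperty.HasOfPostcompProperty @LocallyOfFinitePresentation.{u} @LocallyOfFiniteType := by
  have : MorphismProperty.IsMultiplicative @LocallyOfFinitePresentation.{u} :=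
    { id_mem := fun X => inferInstance }
  rw [MorphismProperty.hasOfPostcompProperty_iff_le_diagonal]
  exact fun _ _ f hf => by have := hf; exact locallyOfFinitePresentation_diagonal f

section iso

/-- Isomorphisms descend for morphisms locally of finite presentation. -/
theorem descends_isIso :
    Descends.{u} (MorphismProperty.isomorphisms Scheme.{u}) @LocallyOfFinitePresentation := by
  intro I _ _ D c hc hD hqc hqs i X₀ f₀ _ _ hQ X q f hf hP
  have : IsIso f := hP
  have : LocallyOfFinitePresentation f₀ := hQ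
  have (j k : Over i) (a : j ⟶ k) : IsAffineHom ((Over.forget i ⋙ D).map a) := hD _ _ _
  have (j : Over i) : CompactSpace ((Over.forget i ⋙ D).obj j) := hqc _
  have (j : Over i) : QuasiSeparatedSpace ((Over.forget i ⋙ D).obj j) := hqs _
  -- a section over some stage
  let t : Over.forget i ⋙ D ⟶ (Functor.const (Over i)).obj (D.obj i) :=
    { app := fun j => D.map j.hom
      naturality := fun j k a => by simp [← D.map_comp] }
  obtain ⟨j, s, hs₁, hs₂⟩ := Scheme.exists_π_app_comp_eq_of_locallyOfFinitePresentation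
    (Over.forget i ⋙ D) t f₀ _ ((Functor.Initial.isLimitWhiskerEquiv (Over.forget i) c).symm hc)
    (inv f ≫ q) (by ext k; simp [t, hf.w])
  change c.π.app j.left ≫ s = inv f ≫ q at hs₁
  change s ≫ f₀ = D.map j.hom at hs₂
  -- the two maps agree on a finer stage
  let t' : bcDiag D i f₀ ⟶ (Functor.const (Over i)).obj (D.obj i) :=
    bcι D i f₀ ≫ t
  obtain ⟨k, ψ, hk⟩ := Scheme.exists_hom_comp_eq_comp_of_locallyOfFiniteType
    (bcDiag D i f₀) t' f₀ _ (isLimitBcCone hc hf) (i := j)
    (pullback.fst f₀ (D.map j.hom)) (pullback.snd f₀ (D.map j.hom) ≫ s)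
    (by simp [t', t, pullback.condition]) (by simp [t', t, hs₂])
    (by
      simp only [bcCone_π_app, pullback.lift_fst]
      erw [pullback.lift_snd_assoc]
      rw [Category.assoc, hs₁, IsIso.hom_inv_id_assoc])
  refine ⟨k.left, k.hom, ⟨pullback.lift (D.map ψ.left ≫ s) (𝟙 _) ?_, ?_, ?_⟩⟩
  · simp [hs₂, ← D.map_comp]
  · apply pullback.hom_ext
    · simpa using hk.symm
    · simp
  · simp

end iso

section open_

variable {I : Type u} [SmallCategory I] [IsCofiltered I] {D : I ⥤ Scheme.{u}} {c : Cone D}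
  (hc : IsLimit c) [∀ (i j : I) (a : i ⟶ j), IsAffineHom (D.map a)] [∀ i, CompactSpace (D.obj i)]
  [∀ i, QuasiSeparatedSpace (D.obj i)] {i : I} {X₀ X : Scheme.{u}} {f₀ : X₀ ⟶ D.obj i}
  [CompactSpace X₀] [QuasiSeparatedSpace X₀] {q : X ⟶ X₀} {f : X ⟶ c.pt}
  (hf : IsPullback q f f₀ (c.π.app i)) {P Q P' : MorphismProperty Scheme.{u}}

include hc hf in
/-- If the image of `f` lies in a quasi-compact open over which `f` has a descending property `P`,
then a base change of `f₀` is a morphism with `P` followed by an open immersion. -/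
lemma exists_stage_openComp [P.IsStableUnderBaseChange] [Q.IsStableUnderBaseChange]
    [P'.RespectsIso]
    (hP' : ∀ {U V W : Scheme.{u}} (a : U ⟶ V) (b : V ⟶ W) [IsOpenImmersion b], P a → P' (a ≫ b))
    (h : Descends P Q) (hQ : Q f₀) (W : c.pt.Opens) (hW : IsCompact (W : Set c.pt))
    (hfW : f ⁻¹ᵁ W = ⊤) (hP : P (f ∣_ W)) :
    ∃ (j : I) (φ : j ⟶ i), P' (pullback.snd f₀ (D.map φ)) := by
  obtain ⟨j₁, V, hVc, hV⟩ := exists_preimage_eq D c hc W hW
  obtain ⟨j₂, a₁, a₂, -⟩ := IsCofilteredOrEmpty.cone_objs j₁ i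
  have : CompactSpace ↑(pullback f₀ (D.map a₂)) :=
    QuasiCompact.compactSpace_of_compactSpace (pullback.fst f₀ _)
  have : QuasiSeparatedSpace ↑(pullback f₀ (D.map a₂)) :=
    quasiSeparatedSpace_of_quasiSeparated (pullback.fst f₀ _)
  let q₂ : X ⟶ pullback f₀ (D.map a₂) := pullback.lift q (f ≫ c.π.app j₂) (by simp [hf.w])
  have hf₂ : IsPullback q₂ f (pullback.snd f₀ (D.map a₂)) (c.π.app j₂) :=
    IsPullback.of_right (by simpa [q₂] using hf) (by simp [q₂]) (IsPullback.of_hasPullback _ _)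
  set U₂ := D.map a₁ ⁻¹ᵁ V
  have hU₂c : IsCompact (U₂ : Set (D.obj j₂)) :=
    QuasiCompact.isCompact_preimage (f := D.map a₁) _ V.2 hVc
  have hU₂ : c.π.app j₂ ⁻¹ᵁ U₂ = W := by
    rw [← Scheme.Hom.comp_preimage, c.w, hV]
  -- shrink so that the source maps into the open
  obtain ⟨k, ψ, hk⟩ := exists_map_eq_top _ _ (isLimitBcCone hc hf₂) (i := Over.mk (𝟙 j₂))
    (pullback.snd (pullback.snd f₀ (D.map a₂)) (D.map (𝟙 j₂)) ⁻¹ᵁ (D.map (𝟙 j₂) ⁻¹ᵁ U₂)) (by
      rw [← Scheme.Hom.comp_preimage]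
      simp [← Scheme.Hom.comp_preimage, hU₂, hfW])
  let X₁ := pullback f₀ (D.map (k.hom ≫ a₂))
  let f₁ : X₁ ⟶ D.obj k.left := pullback.snd _ _
  let U₁ := D.map k.hom ⁻¹ᵁ U₂
  have hU₁c : IsCompact (U₁ : Set (D.obj k.left)) :=
    QuasiCompact.isCompact_preimage (f := D.map k.hom) _ U₂.2 hU₂c
  have hU₁ : c.π.app k.left ⁻¹ᵁ U₁ = W := by
    rw [← Scheme.Hom.comp_preimage, c.w, hU₂]
  have hf₁U : f₁ ⁻¹ᵁ U₁ = ⊤ := by
    let e : X₁ ⟶ pullback (pullback.snd f₀ (D.map a₂)) (D.map k.hom) :=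
      pullback.lift (pullback.lift (pullback.fst _ _) (pullback.snd _ _ ≫ D.map k.hom)
        (by simp [X₁, pullback.condition])) (pullback.snd _ _) (by simp [X₁])
    have := congrArg (e ⁻¹ᵁ ·) hk
    simp only [← Scheme.Hom.comp_preimage] at this
    rw [Scheme.Hom.preimage_top] at this
    rw [← this]
    simp only [U₁, ← Scheme.Hom.comp_preimage]
    congr 1
    simp [e, f₁, X₁, show ψ.left = k.hom by simpa using Over.w ψ]
  have : CompactSpace X₁ := QuasiCompact.compactSpace_of_compactSpace (pullback.fst f₀ _)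
  have : QuasiSeparatedSpace X₁ := quasiSeparatedSpace_of_quasiSeparated (pullback.fst f₀ _)
  let q₁ : X ⟶ X₁ := pullback.lift q (f ≫ c.π.app k.left) (by simp [hf.w])
  have hf₁ : IsPullback q₁ f f₁ (c.π.app k.left) :=
    IsPullback.of_right (by simpa [q₁] using hf) (by simp [q₁, f₁]) (IsPullback.of_hasPullback _ _)
  have : CompactSpace (U₁ : Scheme.{u}) := isCompact_iff_compactSpace.mp hU₁c
  have : QuasiSeparatedSpace (U₁ : Scheme.{u}) := quasiSeparatedSpace_of_quasiSeparated U₁.ι
  have hU₁sq : IsPullback ((c.π.app k.left) ∣_ U₁) (c.π.app k.left ⁻¹ᵁ U₁).ι U₁.ι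
      (c.π.app k.left) :=
    isPullback_morphismRestrict _ _
  let g₁ : X₁ ⟶ U₁ := IsOpenImmersion.lift U₁.ι f₁ (by
    rintro _ ⟨x, rfl⟩
    simpa using hf₁U.ge (Set.mem_univ x))
  have hg₁ : IsPullback (𝟙 X₁) g₁ f₁ U₁.ι :=
    (IsOpenImmersion.isPullback g₁ (𝟙 X₁) U₁.ι f₁ (by simp [g₁]) (by simp [hf₁U, Scheme.Hom.opensRange_of_isIso])).flip
  have hQ₁ : Q g₁ := Q.of_isPullback hg₁ (Q.pullback_snd _ _ hQ)
  subst hU₁
  have hr := isPullback_morphismRestrict f (c.π.app k.left ⁻¹ᵁ U₁)
  have hq : IsPullback ((f ⁻¹ᵁ c.π.app k.left ⁻¹ᵁ U₁).ι ≫ q₁)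
      (f ∣_ (c.π.app k.left ⁻¹ᵁ U₁)) g₁ ((c.π.app k.left) ∣_ U₁) := by
    refine IsPullback.of_right ?_ ?_ hg₁
    · rw [Category.comp_id, morphismRestrict_ι]
      exact hr.flip.paste_horiz hf₁
    · rw [← cancel_mono U₁.ι]
      simp [g₁, hf₁.w]
  obtain ⟨l, φ, Xl, Yl, fl, gl, pY, pX, hYl, hXl, hPl⟩ :=
    h.exists_stage hc g₁ hU₁sq hq hQ₁ hP
  have : IsOpenImmersion gl :=
    MorphismProperty.of_isPullback (P := @IsOpenImmersion) hYl (inferInstanceAs (IsOpenImmersion U₁.ι))
  have hsq : IsPullback pX (fl ≫ gl) f₁ (D.map φ) := by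
    simpa [g₁] using hXl.paste_vert hYl
  have hsq' := hsq.paste_horiz (IsPullback.of_hasPullback f₀ (D.map (k.hom ≫ a₂)))
  rw [← D.map_comp] at hsq'
  refine ⟨l, φ ≫ k.hom ≫ a₂, ?_⟩
  rw [← hsq'.isoPullback_inv_snd, P'.cancel_left_of_respectsIso]
  exact hP' fl gl hPl

end open_

end Groth.Agent.LimLib
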