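import Groth.Agent.LimLib.Props
import Mathlib.RingTheory.Smooth.NoetherianDescent

/-!
# Descent of open immersions, immersions, unramified, smooth and etale morphisms
-/

set_option backward.isDefEq.respectTransparency false
set_option backward.defeqAttrib.useBackward true

universe u

open CategoryTheory Limits AlgebraicGeometry

namespace Groth.Agent.LimLib

theorem descends_isOpenImmersion :
    Descends.{u} @IsOpenImmersion @LocallyOfFinitePresentation := by
  intro I _ _ D c hc hD hqc hqs i X₀ f₀ _ _ hQ X q f hf hP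
  have : IsOpenImmersion f := hP
  have : CompactSpace X := Scheme.compactSpace_of_isLimit _ _ (isLimitBcCone hc hf)
  refine exists_stage_openComp hc hf (P := MorphismProperty.isomorphisms Scheme.{u})
    (fun a b _ ha => by have : IsIso a := ha; infer_instance) descends_isIso hQ f.opensRange
    (by simpa using isCompact_range f.continuous) (Scheme.Hom.preimage_opensRange f) ?_
  refine isIso_of_isOpenImmersion_of_opensRange_eq_top _ (top_le_iff.mp ?_)
  rintro ⟨_, x, rfl⟩ -
  exact ⟨⟨x, ⟨x, rfl⟩⟩, Subtype.ext (by simp)⟩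

theorem descends_formallyUnramified :
    Descends.{u} @FormallyUnramified @LocallyOfFiniteType := by
  intro I _ _ D c hc hD hqc hqs i X₀ f₀ hc₁ hc₂ hQ X q f hf hP
  have : FormallyUnramified f := hP
  have : LocallyOfFiniteType f₀ := hQ
  have : LocallyOfFiniteType f :=
    MorphismProperty.of_isPullback (P := @LocallyOfFiniteType) hf hQ
  obtain ⟨j, φ, hj⟩ := (descends_isOpenImmersion.diagonal (Q := @LocallyOfFiniteType)
    (fun f hf => by have := hf; exact locallyOfFinitePresentation_diagonal f))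
    D c hc hD hqc hqs i X₀ f₀ hc₁ hc₂ hQ X q f hf
    (show IsOpenImmersion (pullback.diagonal f) from inferInstance)
  have : IsOpenImmersion (pullback.diagonal (pullback.snd f₀ (D.map φ))) := hj
  exact ⟨j, φ, inferInstance⟩

/-- A compact subset of an open subset of a scheme lies in a quasi-compact open inside it. -/
lemma exists_isCompact_opens_between {X : Scheme.{u}} {K : Set X} (hK : IsCompact K)
    (U : X.Opens) (hKU : K ⊆ U) :
    ∃ W : X.Opens, IsCompact (W : Set X) ∧ K ⊆ W ∧ W ≤ U := by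
  have h (x : K) : ∃ V : X.Opens, IsAffineOpen V ∧ (x : X) ∈ V ∧ V ≤ U := by
    obtain ⟨V, hV, hxV, hVU⟩ :=
      TopologicalSpace.Opens.isBasis_iff_nbhd.mp X.isBasis_affineOpens (U := U) (hKU x.2)
    exact ⟨V, hV, hxV, hVU⟩
  choose V hV hxV hVU using h
  obtain ⟨t, ht⟩ := hK.elim_finite_subcover (fun x : K => (V x : Set X)) (fun x => (V x).2)
    (fun x hx => Set.mem_iUnion.mpr ⟨⟨x, hx⟩, hxV _⟩)
  refine ⟨t.sup V, ?_, fun x hx => ?_, Finset.sup_le fun x _ => hVU x⟩
  · rw [Finset.sup_eq_iSup]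
    simp only [TopologicalSpace.Opens.coe_iSup]
    exact t.finite_toSet.isCompact_biUnion fun x _ => (hV x).isCompact
  · obtain ⟨a, ha, hxa⟩ := Set.mem_iUnion₂.mp (ht hx)
    exact SetLike.le_def.mp (Finset.le_sup ha) hxa

theorem descends_isImmersion :
    Descends.{u} @IsImmersion @LocallyOfFiniteType := by
  intro I _ _ D c hc hD hqc hqs i X₀ f₀ _ _ hQ X q f hf hP
  have : IsImmersion f := hP
  have : CompactSpace X := Scheme.compactSpace_of_isLimit _ _ (isLimitBcCone hc hf)
  obtain ⟨W, hWc, hKW, hWU⟩ := exists_isCompact_opens_between (isCompact_range f.continuous)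
    f.coborderRange subset_coborder
  refine exists_stage_openComp hc hf (P := @IsClosedImmersion)
    (fun a b _ ha => by have : IsClosedImmersion a := ha; infer_instance)
    descends_isClosedImmersion hQ W hWc (top_le_iff.mp fun x _ => hKW ⟨x, rfl⟩) ?_
  have : IsImmersion (f ∣_ W) := inferInstance
  refine IsClosedImmersion.of_isPreimmersion _ ?_
  have h₁ : IsClosed (Subtype.val ⁻¹' Set.range f : Set (coborder (Set.range f))) :=
    isClosed_preimage_val_coborder
  have h₂ : Continuous fun x : W => (⟨x.1, hWU x.2⟩ : coborder (Set.range f)) :=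
    continuous_subtype_val.subtype_mk _
  suffices e : Set.range (f ∣_ W) = (fun x : (W : Scheme.{u}) =>
      (⟨x.1, hWU x.2⟩ : coborder (Set.range f))) ⁻¹' (Subtype.val ⁻¹' Set.range f) by
    rw [e]; exact h₁.preimage h₂
  ext x
  constructor
  · rintro ⟨y, rfl⟩
    exact ⟨y.1, by simp⟩
  · rintro ⟨y, hy⟩
    exact ⟨⟨y, show f y ∈ W from (show f y = x.1 from hy) ▸ x.2⟩, Subtype.ext (by simpa using hy)⟩

/-- To descend a property local on the source one may assume that the source is affine. -/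
theorem DescendsAffine.of_source {P Q : MorphismProperty Scheme.{u}} [IsZariskiLocalAtSource P]
    [P.IsStableUnderBaseChange]
    (hQc : ∀ {U V W : Scheme.{u}} (a : U ⟶ V) [IsOpenImmersion a] (b : V ⟶ W), Q b → Q (a ≫ b))
    (h : ∀ {I : Type u} [SmallCategory I] [IsCofiltered I] (D : I ⥤ Scheme.{u}) (c : Cone D),
      IsLimit c → ∀ [∀ i, IsAffine (D.obj i)] (i : I) (X₀ : Scheme.{u}) [IsAffine X₀]
      (f₀ : X₀ ⟶ D.obj i), Q f₀ → ∀ (X : Scheme.{u}) (q : X ⟶ X₀) (f : X ⟶ c.pt),
      IsPullback q f f₀ (c.π.app i) → P f →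
      ∃ (j : I) (φ : j ⟶ i), P (pullback.snd f₀ (D.map φ))) :
    DescendsAffine P Q := by
  intro I _ _ D c hc hD i X₀ f₀ _ _ hQ X q f hf hP
  let 𝒰 := X₀.affineCover.finiteSubcover
  have (a : 𝒰.I₀) : IsAffine (𝒰.X a) := inferInstanceAs (IsAffine (Spec _))
  have key (a : 𝒰.I₀) := h D c hc i (𝒰.X a) (𝒰.f a ≫ f₀) (hQc _ _ hQ) _
    (pullback.fst (𝒰.f a) q) (pullback.snd (𝒰.f a) q ≫ f)
    ((IsPullback.of_hasPullback (𝒰.f a) q).paste_vert hf) (IsZariskiLocalAtSource.comp hP _)
  choose j φ hj using key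
  obtain ⟨k, φ₀, ψ, hψ⟩ := IsCofiltered.wideCospan φ
  refine ⟨k, φ₀, IsZariskiLocalAtSource.of_openCover (P := P)
    (𝒰.pullback₁ (pullback.fst f₀ (D.map φ₀))) fun a => ?_⟩
  refine property_of_factor (IsPullback.of_hasPullback _ _) (qb := pullback.snd _ _) ?_
    (D.map (ψ a)) (by rw [← D.map_comp, hψ]) (hj a)
  exact ((IsPullback.of_hasPullback _ _).flip.paste_vert (IsPullback.of_hasPullback f₀ (D.map φ₀)))

/-- If two morphisms of finite presentation become isomorphic on the limit, then a property of one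
passes to a base change of the other. -/
theorem exists_stage_of_iso {I : Type u} [SmallCategory I] [IsCofiltered I] {D : I ⥤ Scheme.{u}}
    {c : Cone D} (hc : IsLimit c) [∀ (i j : I) (a : i ⟶ j), IsAffineHom (D.map a)]
    [∀ i, CompactSpace (D.obj i)] [∀ i, QuasiSeparatedSpace (D.obj i)] {i : I}
    {P : MorphismProperty Scheme.{u}} [P.IsStableUnderBaseChange]
    {X₁ X₂ X : Scheme.{u}} (f₁ : X₁ ⟶ D.obj i) (f₂ : X₂ ⟶ D.obj i)
    [CompactSpace X₁] [QuasiSeparatedSpace X₁] [CompactSpace X₂] [QuasiSeparatedSpace X₂]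
    [LocallyOfFinitePresentation f₁] [LocallyOfFinitePresentation f₂]
    {f : X ⟶ c.pt} {q₁ : X ⟶ X₁} {q₂ : X ⟶ X₂} (h₁ : IsPullback q₁ f f₁ (c.π.app i))
    (h₂ : IsPullback q₂ f f₂ (c.π.app i)) (hP : P f₁) :
    ∃ (j : I) (φ : j ⟶ i), P (pullback.snd f₂ (D.map φ)) := by
  let t' : bcDiag D i f₂ ⟶ (Functor.const (Over i)).obj (D.obj i) :=
    { app := fun j => pullback.fst f₂ (D.map j.hom) ≫ f₂
      naturality := fun j k a => by simp }
  obtain ⟨j, s, hs₁, hs₂⟩ := Scheme.exists_π_app_comp_eq_of_locallyOfFinitePresentation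
    (bcDiag D i f₂) t' f₁ _ (isLimitBcCone hc h₂) q₁ (by ext k; simp [t', h₁.w, h₂.w])
  change pullback.lift q₂ (f ≫ c.π.app j.left) _ ≫ s = q₁ at hs₁
  change s ≫ f₁ = pullback.fst f₂ (D.map j.hom) ≫ f₂ at hs₂
  have : CompactSpace ↑(pullback f₁ (D.map j.hom)) :=
    QuasiCompact.compactSpace_of_compactSpace (pullback.fst f₁ _)
  have : QuasiSeparatedSpace ↑(pullback f₁ (D.map j.hom)) :=
    quasiSeparatedSpace_of_quasiSeparated (pullback.fst f₁ _)
  have : CompactSpace ↑(pullback f₂ (D.map j.hom)) :=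
    QuasiCompact.compactSpace_of_compactSpace (pullback.fst f₂ _)
  have : QuasiSeparatedSpace ↑(pullback f₂ (D.map j.hom)) :=
    quasiSeparatedSpace_of_quasiSeparated (pullback.fst f₂ _)
  -- the morphism between the two base changes
  let h : pullback f₂ (D.map j.hom) ⟶ pullback f₁ (D.map j.hom) :=
    pullback.lift s (pullback.snd _ _) (by rw [hs₂, pullback.condition])
  let m₁ : X ⟶ pullback f₁ (D.map j.hom) := pullback.lift q₁ (f ≫ c.π.app j.left) (by simp [h₁.w])
  let m₂ : X ⟶ pullback f₂ (D.map j.hom) := pullback.lift q₂ (f ≫ c.π.app j.left) (by simp [h₂.w])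
  have hY : IsPullback m₁ f (pullback.snd f₁ (D.map j.hom)) (c.π.app j.left) :=
    IsPullback.of_right (by simpa [m₁] using h₁) (by simp [m₁]) (IsPullback.of_hasPullback _ _)
  have hY₂ : IsPullback m₂ f (pullback.snd f₂ (D.map j.hom)) (c.π.app j.left) :=
    IsPullback.of_right (by simpa [m₂] using h₂) (by simp [m₂]) (IsPullback.of_hasPullback _ _)
  have hm : m₂ ≫ h = m₁ := by
    apply pullback.hom_ext
    · simpa [m₁, m₂, h] using hs₁
    · simp [m₁, m₂, h]
  have hX : IsPullback m₂ (𝟙 X) h m₁ := by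
    refine IsPullback.of_bot ?_ (by simp [hm]) hY
    simpa [h] using hY₂
  have : LocallyOfFinitePresentation (pullback.snd f₁ (D.map j.hom)) := inferInstance
  have hlft : LocallyOfFiniteType (pullback.snd f₁ (D.map j.hom)) := inferInstance
  have hlfp : LocallyOfFinitePresentation h :=
    MorphismProperty.of_postcomp (W' := @LocallyOfFiniteType) @LocallyOfFinitePresentation h
      (pullback.snd f₁ (D.map j.hom)) hlft (by simpa [h] using
        (inferInstance : LocallyOfFinitePresentation (pullback.snd f₂ (D.map j.hom))))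
  obtain ⟨l, φ, Xl, Yl, fl, gl, pY, pX, hYl, hXl, hPl⟩ :=
    descends_isIso.exists_stage hc h hY hX hlfp (show IsIso (𝟙 X) from inferInstance)
  have : IsIso fl := hPl
  have hgl : P gl := P.of_isPullback hYl (P.pullback_snd _ _ hP)
  have hsq : IsPullback pX (fl ≫ gl) (pullback.snd f₂ (D.map j.hom)) (D.map φ) := by
    simpa [h] using hXl.paste_vert hYl
  have hsq' := hsq.paste_horiz (IsPullback.of_hasPullback f₂ (D.map j.hom))
  rw [← D.map_comp] at hsq'
  refine ⟨l, φ ≫ j.hom, ?_⟩
  rw [← hsq'.isoPullback_inv_snd, P.cancel_left_of_respectsIso, P.cancel_left_of_respectsIso]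
  exact hgl

/-- A smooth morphism of affine schemes comes from one over an affine scheme of finite type over
`ℤ`. -/
lemma exists_smooth_model {X S : Scheme.{u}} [IsAffine X] [IsAffine S] (f : X ⟶ S) [Smooth f] :
    ∃ (T T₁ : Scheme.{u}) (h : T₁ ⟶ T) (b : S ⟶ T) (m : X ⟶ T₁),
      IsAffine T ∧ IsAffine T₁ ∧ Smooth h ∧
      LocallyOfFinitePresentation (specULiftZIsTerminal.from T) ∧ IsPullback m f h b := by
  have hs : f.appTop.hom.Smooth := HasRingHomProperty.appTop (P := @Smooth) f inferInstance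
  algebraize [f.appTop.hom]
  let _ : Algebra (ULift.{u} ℤ) Γ(S, ⊤) :=
    ((Int.castRingHom Γ(S, ⊤)).comp ULift.ringEquiv.toRingHom).toAlgebra
  obtain ⟨A₀, B₀, _, _, hfg, hsm, ⟨e⟩⟩ :=
    Algebra.Smooth.exists_subalgebra_fg (ULift.{u} ℤ) Γ(S, ⊤) Γ(X, ⊤)
  let T := Spec (CommRingCat.of A₀)
  let T₁ := Spec (CommRingCat.of B₀)
  let h : T₁ ⟶ T := Spec.map (CommRingCat.ofHom (algebraMap A₀ B₀))
  let bT : S ⟶ T := S.isoSpec.hom ≫ Spec.map (CommRingCat.ofHom (algebraMap A₀ Γ(S, ⊤)))
  have hh : Smooth h := (HasRingHomProperty.Spec_iff (P := @Smooth)).mpr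
    (RingHom.smooth_algebraMap.mpr hsm)
  have hT : LocallyOfFinitePresentation (specULiftZIsTerminal.from T) := by
    rw [show specULiftZIsTerminal.from T =
      Spec.map (CommRingCat.ofHom (algebraMap (ULift.{u} ℤ) A₀)) from
      specULiftZIsTerminal.hom_ext _ _, LocallyOfFinitePresentation.SpecMap_iff]
    have hft : Algebra.FiniteType (ULift.{u} ℤ) A₀ := (Subalgebra.fg_iff_finiteType A₀).mp hfg
    have : IsNoetherianRing (ULift.{u} ℤ) :=
      isNoetherianRing_of_ringEquiv ℤ ULift.ringEquiv.symm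
    exact RingHom.finitePresentation_algebraMap.mpr (Algebra.FinitePresentation.of_finiteType.mp hft)
  have hp := IsPullback.of_hasPullback
    (Spec.map (CommRingCat.ofHom (algebraMap A₀ Γ(S, ⊤))))
    (Spec.map (CommRingCat.ofHom (algebraMap A₀ B₀)))
  let i : X ≅ pullback (Spec.map (CommRingCat.ofHom (algebraMap A₀ Γ(S, ⊤))))
      (Spec.map (CommRingCat.ofHom (algebraMap A₀ B₀))) :=
    X.isoSpec ≪≫ Scheme.Spec.mapIso e.symm.toRingEquiv.toCommRingCatIso.op ≪≫
      (pullbackSpecIso A₀ Γ(S, ⊤) B₀).symm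
  refine ⟨T, T₁, h, bT, i.hom ≫ pullback.snd _ _, inferInstance, inferInstance, hh, hT, ?_⟩
  refine hp.flip.of_iso i.symm (Iso.refl _) S.isoSpec.symm (Iso.refl _) (by simp [T₁]) ?_
    (by simp [h, T₁, T]) (by simp [bT, T])
  rw [← cancel_epi i.hom]
  simp only [Iso.symm_hom, Iso.hom_inv_id_assoc]
  rw [← Category.assoc, Iso.comp_inv_eq, ← Scheme.isoSpec_hom_naturality]
  simp only [i, Iso.trans_hom, Iso.symm_hom, Functor.mapIso_hom, Scheme.Spec_map,
    Category.assoc, pullbackSpecIso_inv_fst]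
  congr 1
  rw [← Spec.map_comp]
  congr 1
  ext r
  exact (e.symm.commutes r)

theorem descendsAffine_smooth : DescendsAffine.{u} @Smooth @LocallyOfFinitePresentation := by
  refine DescendsAffine.of_source
    (fun a _ b hb => by have : LocallyOfFinitePresentation b := hb; infer_instance) ?_
  intro I _ _ D c hc _ i X₀ _ f₀ hQ X q f hf hP
  have : Smooth f := hP
  have : LocallyOfFinitePresentation f₀ := hQ
  have : IsAffine c.pt := Scheme.isAffine_of_isLimit _ hc
  have : IsAffine X := IsAffine.of_isPullback hf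
  obtain ⟨T, T₁, h, b, m, _, _, hh, hT, hsq⟩ := exists_smooth_model f
  let t : D ⟶ (Functor.const I).obj (Spec (CommRingCat.of (ULift.{u} ℤ))) :=
    { app := fun j => specULiftZIsTerminal.from _
      naturality := fun _ _ _ => specULiftZIsTerminal.hom_ext _ _ }
  obtain ⟨j₁, b₁, hb₁, -⟩ := Scheme.exists_π_app_comp_eq_of_locallyOfFinitePresentation
    D t (specULiftZIsTerminal.from T) _ hc b (by ext; exact specULiftZIsTerminal.hom_ext _ _)
  obtain ⟨j, a₁, a₂, -⟩ := IsCofilteredOrEmpty.cone_objs j₁ i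
  have : IsAffine (pullback h (D.map a₁ ≫ b₁)) := inferInstance
  have : Smooth (pullback.snd h (D.map a₁ ≫ b₁)) := MorphismProperty.pullback_snd _ _ hh
  have h₁ : IsPullback (pullback.lift m (f ≫ c.π.app j) (by simp [hsq.w, hb₁])) f
      (pullback.snd h (D.map a₁ ≫ b₁)) (c.π.app j) :=
    IsPullback.of_right (by simpa [hb₁] using hsq) (by simp) (IsPullback.of_hasPullback _ _)
  have h₂ : IsPullback (pullback.lift q (f ≫ c.π.app j) (by simp [hf.w])) f
      (pullback.snd f₀ (D.map a₂)) (c.π.app j) :=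
    IsPullback.of_right (by simpa using hf) (by simp) (IsPullback.of_hasPullback _ _)
  obtain ⟨k, φ, hk⟩ := exists_stage_of_iso hc (pullback.snd h (D.map a₁ ≫ b₁))
    (pullback.snd f₀ (D.map a₂)) h₁ h₂ (P := @Smooth) inferInstance
  have hsq' := (IsPullback.of_hasPullback (pullback.snd f₀ (D.map a₂)) (D.map φ)).paste_horiz
    (IsPullback.of_hasPullback f₀ (D.map a₂))
  rw [← D.map_comp] at hsq'
  exact ⟨k, φ ≫ a₂, property_of_factor hsq' (IsPullback.of_hasPullback _ _) (𝟙 _) (by simp) hk⟩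

theorem descends_smooth : Descends.{u} @Smooth @LocallyOfFinitePresentation :=
  Descends.of_affine descendsAffine_smooth

theorem descends_etale : Descends.{u} @Etale @LocallyOfFinitePresentation := by
  intro I _ _ D c hc hD hqc hqs i X₀ f₀ hc₁ hc₂ hQ X q f hf hP
  have : Etale f := hP
  have : LocallyOfFinitePresentation f₀ := hQ
  obtain ⟨j₁, φ₁, h₁⟩ := descends_smooth D c hc hD hqc hqs i X₀ f₀ hc₁ hc₂ hQ X q f hf
    (show Smooth f from inferInstance)
  obtain ⟨j₂, φ₂, h₂⟩ := descends_formallyUnramified D c hc hD hqc hqs i X₀ f₀ hc₁ hc₂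
    (show LocallyOfFiniteType f₀ from inferInstance) X q f hf
    (show FormallyUnramified f from inferInstance)
  obtain ⟨k, a₁, a₂, e⟩ := IsCofiltered.cospan φ₁ φ₂
  have e₁ : Smooth (pullback.snd f₀ (D.map (a₁ ≫ φ₁))) :=
    property_of_factor (P := @Smooth) (IsPullback.of_hasPullback _ _) (IsPullback.of_hasPullback _ _)
      (D.map a₁) (by simp) h₁
  have e₂ : FormallyUnramified (pullback.snd f₀ (D.map (a₁ ≫ φ₁))) :=
    property_of_factor (P := @FormallyUnramified) (IsPullback.of_hasPullback _ _)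
      (IsPullback.of_hasPullback _ _) (D.map a₂) (by rw [← D.map_comp, e]) h₂
  exact ⟨k, a₁ ≫ φ₁, Etale.of_formallyUnramified_of_flat _⟩

end Groth.Agent.LimLib
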