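import Groth.Agent.LimLib.Model
import Mathlib.Algebra.Category.Ring.FilteredColimits

/-!
# An algebra as the filtered colimit of its finitely generated subalgebras

`fgDiagram R A : (Finset A)ᵒᵖ ⥤ Scheme` sends `s` to `Spec R[s]`, with limit cone
`fgCone R A` of vertex `Spec A`.
-/

set_option backward.isDefEq.respectTransparency false
set_option backward.defeqAttrib.useBackward true

universe v u

open CategoryTheory Limits AlgebraicGeometry Opposite

namespace Groth.Agent.LimLib

variable (R : Type v) [CommRing R] (A : Type u) [CommRing A] [Algebra R A]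

instance : IsDirectedOrder (Finset A) := by classical infer_instance

/-- The inclusion of `R[s]` into `R[t]` for `s ⊆ t`. -/
noncomputable abbrev fgIncl {s t : Finset A} (h : s ≤ t) :
    Algebra.adjoin R (s : Set A) →ₐ[R] Algebra.adjoin R (t : Set A) :=
  Subalgebra.inclusion (Algebra.adjoin_mono (Finset.coe_subset.mpr h))

/-- The finitely generated subalgebras of `A`. -/
noncomputable def fgRings : Finset A ⥤ CommRingCat.{u} where
  obj s := CommRingCat.of (Algebra.adjoin R (s : Set A))
  map {s t} h := CommRingCat.ofHom (fgIncl R A h.le).toRingHom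
  map_id s := rfl
  map_comp _ _ := rfl

/-- `A` as a cocone under its finitely generated subalgebras. -/
noncomputable def fgCocone : Cocone (fgRings R A) where
  pt := CommRingCat.of A
  ι :=
    { app := fun s => CommRingCat.ofHom (Algebra.adjoin R (s : Set A)).val.toRingHom
      naturality := fun _ _ _ => rfl }

/-- `A` is the colimit of its finitely generated subalgebras. -/
noncomputable def isColimitFgCocone : IsColimit (fgCocone R A) := by
  classical
  have : PreservesColimit (fgRings R A) (forget CommRingCat.{u}) := inferInstance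
  have : ReflectsColimit (fgRings R A) (forget CommRingCat.{u}) :=
    reflectsColimit_of_reflectsIsomorphisms _ _
  refine isColimitOfReflects (forget CommRingCat.{u}) ?_
  refine Types.FilteredColimit.isColimitOf _ _ (fun a => ?_) fun s t x y h => ?_
  · exact ⟨{a}, ⟨a, Algebra.subset_adjoin (by simp)⟩, rfl⟩
  · exact ⟨s ∪ t, homOfLE Finset.subset_union_left, homOfLE Finset.subset_union_right,
      Subtype.ext h⟩

/-- The system of the spectra of the finitely generated subalgebras of `A`. -/
noncomputable def fgDiagram : (Finset A)ᵒᵖ ⥤ Scheme.{u} := (fgRings R A).op ⋙ Scheme.Spec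

/-- `Spec A` over the spectra of its finitely generated subalgebras. -/
noncomputable def fgCone : Cone (fgDiagram R A) := Scheme.Spec.mapCone (fgCocone R A).op

/-- `Spec A` is the limit of the spectra of the finitely generated subalgebras of `A`. -/
noncomputable def isLimitFgCone : IsLimit (fgCone R A) :=
  isLimitOfPreserves Scheme.Spec (isColimitFgCocone R A).op

instance isAffine_fgDiagram (i : (Finset A)ᵒᵖ) : IsAffine ((fgDiagram R A).obj i) :=
  inferInstanceAs (IsAffine (Spec _))

instance isAffineHom_fgDiagram {i j : (Finset A)ᵒᵖ} (f : i ⟶ j) :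
    IsAffineHom ((fgDiagram R A).map f) := inferInstance

/-- A scheme of finite presentation over `A` is defined over a finitely generated subalgebra. -/
theorem exists_fg_model {X : Scheme.{u}} (f : X ⟶ Spec (CommRingCat.of A))
    [LocallyOfFinitePresentation f] [QuasiCompact f] [QuasiSeparated f] :
    ∃ A₀ : Subalgebra R A, A₀.FG ∧ ∃ (X₀ : Scheme.{u}) (f₀ : X₀ ⟶ Spec (CommRingCat.of A₀))
      (g : X ⟶ X₀), LocallyOfFinitePresentation f₀ ∧ QuasiCompact f₀ ∧ QuasiSeparated f₀ ∧
      IsPullback g f f₀ (Spec.map (CommRingCat.ofHom A₀.val.toRingHom)) := by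
  classical
  have : CompactSpace X := QuasiCompact.compactSpace_of_compactSpace f
  have : QuasiSeparatedSpace X := quasiSeparatedSpace_of_quasiSeparated f
  obtain ⟨i, X₀, f₀, g, h₁, h₂, h₃, h⟩ := hasModel (isLimitFgCone R A) (X := X) f
  exact ⟨Algebra.adjoin R (i.unop : Set A), ⟨i.unop, rfl⟩, X₀, f₀, g, h₁,
    quasiCompact_of_compactSpace f₀, QuasiSeparated.of_quasiSeparatedSpace f₀, h⟩

end Groth.Agent.LimLib
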