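import Groth.Agent.LimLib.Glue
import Mathlib.AlgebraicGeometry.AffineTransitionLimit

/-!
# Limits of schemes are local; sections on opens of a limit

* `exists_appLE_eq`: a section of the limit over the preimage of a compact open comes from a stage.
* `exists_glueTwo`, `hom_ext_two`: gluing along a pullback square of two open immersions.
* `isLimitOfSubsystems`: a cone is limiting if it is so on a family of open subsystems covering.
-/

set_option backward.isDefEq.respectTransparency false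
set_option backward.defeqAttrib.useBackward true

universe u

open CategoryTheory Limits AlgebraicGeometry TopologicalSpace

namespace Groth.Agent.LimLib

section sections

variable {I : Type u} [SmallCategory I] [IsCofiltered I] {D : I ⥤ Scheme.{u}} {c : Cone D}

/-- A section of the limit over the preimage of a compact open comes from a finite stage. -/
lemma exists_appLE_eq (hc : IsLimit c) [∀ (i j : I) (f : i ⟶ j), IsAffineHom (D.map f)]
    [∀ i, QuasiSeparatedSpace (D.obj i)] {i : I} {U : (D.obj i).Opens}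
    (hU : IsCompact (U : Set (D.obj i))) {V : c.pt.Opens} (hV : c.π.app i ⁻¹ᵁ U = V)
    (s : Γ(c.pt, V)) :
    ∃ (j : I) (f : j ⟶ i) (h : V ≤ c.π.app j ⁻¹ᵁ (D.map f ⁻¹ᵁ U))
      (t : Γ(D.obj j, D.map f ⁻¹ᵁ U)),
      (c.π.app j).appLE (D.map f ⁻¹ᵁ U) V h t = s := by
  subst hV
  have (j : Over i) : CompactSpace ↥((opensDiagram D i U).obj j) :=
    isCompact_iff_compactSpace.mp (QuasiCompact.isCompact_preimage (f := D.map j.hom) _ U.2 hU)
  have (j : Over i) : QuasiSeparatedSpace ↥((opensDiagram D i U).obj j) :=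
    quasiSeparatedSpace_of_quasiSeparated (D.map j.hom ⁻¹ᵁ U).ι
  obtain ⟨j, t, ht⟩ := exists_appTop_π_eq_of_isLimit _ _ (isLimitOpensCone D c hc i U)
    ((c.π.app i ⁻¹ᵁ U).topIso.inv s)
  obtain ⟨t, rfl⟩ := (D.map j.hom ⁻¹ᵁ U).topIso.symm.commRingCatIsoToRingEquiv.surjective t
  have h : c.π.app j.left ⁻¹ᵁ D.map j.hom ⁻¹ᵁ U = c.π.app i ⁻¹ᵁ U := congr($(c.w j.hom) ⁻¹ᵁ U)
  refine ⟨j.left, j.hom, h.ge, t, ?_⟩
  symm
  convert!
    show s = ((Scheme.Opens.topIso _).inv ≫ ((opensCone D c i U).π.app j).appTop ≫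
        (Scheme.Opens.topIso _).hom) t from
      (c.π.app i ⁻¹ᵁ U).topIso.commRingCatIsoToRingEquiv.symm_apply_eq.mp ht using 3
  simp [Scheme.Hom.app_eq_appLE, Scheme.Hom.resLE_appLE]

end sections

section two

variable {W X₁ X₂ S T : Scheme.{u}} {w₁ : W ⟶ X₁} {w₂ : W ⟶ X₂} {j₁ : X₁ ⟶ S} {j₂ : X₂ ⟶ S}
  [IsOpenImmersion j₁] [IsOpenImmersion j₂]

/-- The cover of a scheme by two open subschemes. -/
noncomputable def twoCover (j₁ : X₁ ⟶ S) (j₂ : X₂ ⟶ S) [IsOpenImmersion j₁] [IsOpenImmersion j₂]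
    (hcov : j₁.opensRange ⊔ j₂.opensRange = ⊤) : S.OpenCover :=
  Scheme.Cover.mkOfCovers Bool (fun x => match x with | true => X₁ | false => X₂)
    (fun x => match x with | true => j₁ | false => j₂)
    (fun y => by
      rcases Opens.mem_sup.mp (hcov.ge (Set.mem_univ y)) with ⟨z, hz⟩ | ⟨z, hz⟩
      · exact ⟨true, z, hz⟩
      · exact ⟨false, z, hz⟩)
    (fun x => by cases x <;> assumption)

/-- Morphisms out of a scheme covered by two opens are determined on the two opens. -/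
lemma hom_ext_two (hcov : j₁.opensRange ⊔ j₂.opensRange = ⊤) {g g' : S ⟶ T}
    (h₁ : j₁ ≫ g = j₁ ≫ g') (h₂ : j₂ ≫ g = j₂ ≫ g') : g = g' :=
  (twoCover j₁ j₂ hcov).hom_ext _ _ fun x => by cases x <;> assumption

/-- Morphisms on two opens agreeing on their intersection glue. -/
lemma exists_glueTwo (hcov : j₁.opensRange ⊔ j₂.opensRange = ⊤) (hW : IsPullback w₁ w₂ j₁ j₂)
    (a : X₁ ⟶ T) (b : X₂ ⟶ T) (h : w₁ ≫ a = w₂ ≫ b) :
    ∃ g : S ⟶ T, j₁ ≫ g = a ∧ j₂ ≫ g = b := by
  have key : pullback.fst j₁ j₂ ≫ a = pullback.snd j₁ j₂ ≫ b := by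
    rw [← cancel_epi hW.isoPullback.hom, IsPullback.isoPullback_hom_fst_assoc,
      IsPullback.isoPullback_hom_snd_assoc, h]
  let m : ∀ x, (twoCover j₁ j₂ hcov).X x ⟶ T := fun x => match x with | true => a | false => b
  refine ⟨(twoCover j₁ j₂ hcov).glueMorphisms m ?_, (twoCover j₁ j₂ hcov).ι_glueMorphisms m _ true,
    (twoCover j₁ j₂ hcov).ι_glueMorphisms m _ false⟩
  intro x y
  rcases x with _ | _ <;> rcases y with _ | _ <;>
    simp only [twoCover, Scheme.Cover.mkOfCovers, m]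
  · have : pullback.fst j₂ j₂ = pullback.snd j₂ j₂ := by rw [← cancel_mono j₂, pullback.condition]
    rw [this]
  · rw [← cancel_epi (pullbackSymmetry j₁ j₂).hom]
    simp [key]
  · exact key
  · have : pullback.fst j₁ j₁ = pullback.snd j₁ j₁ := by rw [← cancel_mono j₁, pullback.condition]
    rw [this]

end two

section subsystems

variable {I : Type u} [SmallCategory I] [IsCofiltered I] {D : I ⥤ Scheme.{u}}

/-- A cone is limiting if there is a family of open subsystems, each limiting, which covers the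
system at some stage. -/
lemma nonempty_isLimit_of_subsystems (c : Cone D) {ι : Type*} (E : ι → I ⥤ Scheme.{u})
    (ε : ∀ a, E a ⟶ D) [∀ a j, IsOpenImmersion ((ε a).app j)]
    (hε : ∀ a {j k : I} (φ : j ⟶ k),
      D.map φ ⁻¹ᵁ ((ε a).app k).opensRange = ((ε a).app j).opensRange)
    (e : ∀ a, Cone (E a)) (he : ∀ a, IsLimit (e a)) (m : ∀ a, (e a).pt ⟶ c.pt)
    [∀ a, IsOpenImmersion (m a)]
    (hm : ∀ a j, m a ≫ c.π.app j = (e a).π.app j ≫ (ε a).app j)
    (hmrange : ∀ a j, c.π.app j ⁻¹ᵁ ((ε a).app j).opensRange = (m a).opensRange)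
    (j₀ : I) (hcov : ⨆ a, ((ε a).app j₀).opensRange = ⊤) : Nonempty (IsLimit c) := by
  -- uniqueness of maps landing in one member
  have huniq : ∀ {Z : Scheme.{u}} (a : ι) (g g' : Z ⟶ c.pt),
      (∀ j, g ≫ c.π.app j = g' ≫ c.π.app j) →
      (∀ z, (g ≫ c.π.app j₀) z ∈ ((ε a).app j₀).opensRange) → g = g' := by
    intro Z a g g' h hz
    have hr : ∀ (h' : Z ⟶ c.pt), (∀ z, (h' ≫ c.π.app j₀) z ∈ ((ε a).app j₀).opensRange) →
        Set.range h' ⊆ Set.range (m a) := by
      rintro h' hz' _ ⟨z, rfl⟩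
      exact (hmrange a j₀).le (show h' z ∈ c.π.app j₀ ⁻¹ᵁ ((ε a).app j₀).opensRange from hz' z)
    let l := IsOpenImmersion.lift (m a) g (hr g hz)
    let l' := IsOpenImmersion.lift (m a) g' (hr g' (fun z => h j₀ ▸ hz z))
    have hl : l = l' := (he a).hom_ext fun j => by
      rw [← cancel_mono ((ε a).app j), Category.assoc, Category.assoc, ← hm,
        IsOpenImmersion.lift_fac_assoc, IsOpenImmersion.lift_fac_assoc, h]
    rw [← IsOpenImmersion.lift_fac (m a) g (hr g hz),
      ← IsOpenImmersion.lift_fac (m a) g' (hr g' (fun z => h j₀ ▸ hz z))]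
    exact congrArg (· ≫ m a) hl
  refine ⟨IsLimit.ofExistsUnique fun T => ?_⟩
  let O : ι → T.pt.Opens := fun a => T.π.app j₀ ⁻¹ᵁ ((ε a).app j₀).opensRange
  have hO : ⨆ a, O a = ⊤ := by rw [← Scheme.Hom.preimage_iSup, hcov, Scheme.Hom.preimage_top]
  have hOj : ∀ a j, T.π.app j ⁻¹ᵁ ((ε a).app j).opensRange = O a := by
    intro a j
    obtain ⟨k, f, g, -⟩ := IsCofilteredOrEmpty.cone_objs j j₀
    simp only [O, ← T.w f, ← T.w g, Scheme.Hom.comp_preimage, hε]
  have hrange : ∀ a j, Set.range ((O a).ι ≫ T.π.app j) ⊆ Set.range ((ε a).app j) := by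
    rintro a j _ ⟨z, rfl⟩
    exact (hOj a j).ge z.2
  let Ta : ∀ a, Cone (E a) := fun a =>
    { pt := O a
      π :=
        { app := fun j => IsOpenImmersion.lift ((ε a).app j) ((O a).ι ≫ T.π.app j) (hrange a j)
          naturality := fun j k φ => by
            rw [← cancel_mono ((ε a).app k)]
            simp } }
  obtain ⟨u, hu⟩ : ∃ u : ∀ a, (O a : Scheme.{u}) ⟶ c.pt,
      ∀ a j, u a ≫ c.π.app j = (O a).ι ≫ T.π.app j :=
    ⟨fun a => (he a).lift (Ta a) ≫ m a, fun a j => by simp [hm, Ta]⟩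
  let 𝒰 := Scheme.openCoverOfIsOpenCover T.pt O hO
  have hcompat : ∀ a b : ι,
      pullback.fst (𝒰.f a) (𝒰.f b) ≫ u a = pullback.snd (𝒰.f a) (𝒰.f b) ≫ u b := by
    intro a b
    refine huniq a _ _ (fun j => ?_) fun z => ?_
    · rw [Category.assoc, Category.assoc, hu, hu]
      exact pullback.condition_assoc _
    · rw [Category.assoc, hu, Scheme.Hom.comp_apply]
      exact (pullback.fst (𝒰.f a) (𝒰.f b) z).2
  refine ⟨𝒰.glueMorphisms u hcompat, fun j => ?_, fun g hg => ?_⟩
  · refine 𝒰.hom_ext _ _ fun a => ?_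
    rw [Scheme.Cover.ι_glueMorphisms_assoc]
    exact hu a j
  · refine 𝒰.hom_ext _ _ fun a => ?_
    rw [Scheme.Cover.ι_glueMorphisms]
    refine huniq a _ _ (fun j => ?_) fun z => ?_
    · rw [Category.assoc, hg, hu]; rfl
    · rw [Category.assoc, hg]; exact z.2

end subsystems

end Groth.Agent.LimLib
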