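import Groth.Agent.LimLib.Valuative
import Groth.Agent.LimLib.Props
import Groth.Agent.LimLib.OpensLimit
import Mathlib.CategoryTheory.Presentable.Directed
import Mathlib.CategoryTheory.Limits.Connected
import Mathlib.AlgebraicGeometry.Morphisms.Proper

/-!
# Universal closedness and properness descend along limits

* `descends_universallyClosed`, `descends_isProper`;
* `eventually_isProper_of_fixed_source`: a proper map to a limit is eventually proper to a stage;
* `eventually_isProper_of_isClosedImmersion`: systems with closed immersions over a fixed base.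
-/

set_option backward.isDefEq.respectTransparency false
set_option backward.defeqAttrib.useBackward true
set_option autoImplicit false

universe u

open CategoryTheory Limits AlgebraicGeometry TopologicalSpace Opposite

namespace Groth.Agent.LimLib

/-- If the limit of `e : E ⟶ D` is universally closed, some stage over `i₀` is universally
closed. -/
theorem exists_universallyClosed_stage {I : Type u} [SmallCategory I] [IsCofiltered I]
    (D E : I ⥤ Scheme.{u}) [∀ (i j : I) (a : i ⟶ j), IsAffineHom (D.map a)]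
    [∀ (i j : I) (a : i ⟶ j), IsAffineHom (E.map a)]
    (cD : Cone D) (hD : IsLimit cD) (cE : Cone E) (hE : IsLimit cE) (e : E ⟶ D)
    (f : cE.pt ⟶ cD.pt) (hw : ∀ j, cE.π.app j ≫ e.app j = f ≫ cD.π.app j) [UniversallyClosed f]
    [∀ i, CompactSpace (D.obj i)] [∀ i, QuasiCompact (e.app i)]
    [∀ i, LocallyOfFiniteType (e.app i)] (i₀ : I)
    (hlift : ∀ (j i : I) (a : j ⟶ i) (R : Type u) [CommRing R] [IsDomain R] [ValuationRing R]
      (K : Type u) [Field K] [Algebra R K] [IsFractionRing R K]
      (x : Spec (CommRingCat.of K) ⟶ E.obj j) (d : Spec (CommRingCat.of R) ⟶ D.obj j)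
      (l₀ : Spec (CommRingCat.of R) ⟶ E.obj i),
      x ≫ e.app j = Spec.map (CommRingCat.ofHom (algebraMap R K)) ≫ d →
      x ≫ E.map a = Spec.map (CommRingCat.ofHom (algebraMap R K)) ≫ l₀ →
      l₀ ≫ e.app i = d ≫ D.map a →
      ∃ l : Spec (CommRingCat.of R) ⟶ E.obj j,
        Spec.map (CommRingCat.ofHom (algebraMap R K)) ≫ l = x ∧ l ≫ e.app j = d) :
    ∃ (j : I) (_ : j ⟶ i₀), UniversallyClosed (e.app j) := by
  obtain ⟨α, _, _, _, F, _⟩ := IsFiltered.exists_directed Iᵒᵖ
  obtain ⟨b⟩ := (Functor.Final.out (F := F) (op i₀)).is_nonempty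
  have (i j : αᵒᵖ) (a : i ⟶ j) : IsAffineHom ((F.leftOp ⋙ D).map a) :=
    inferInstanceAs (IsAffineHom (D.map _))
  have (i j : αᵒᵖ) (a : i ⟶ j) : IsAffineHom ((F.leftOp ⋙ E).map a) :=
    inferInstanceAs (IsAffineHom (E.map _))
  have : F.leftOp.Initial := Functor.initial_of_final_op _ |> fun h => h
  have : CompactSpace ((F.leftOp ⋙ D).obj (op b.right)) :=
    inferInstanceAs (CompactSpace (D.obj _))
  have : QuasiCompact ((Functor.whiskerLeft F.leftOp e).app (op b.right)) :=
    inferInstanceAs (QuasiCompact (e.app _))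
  have : LocallyOfFiniteType ((Functor.whiskerLeft F.leftOp e).app (op b.right)) :=
    inferInstanceAs (LocallyOfFiniteType (e.app _))
  have : UniversallyClosed (show (cE.whisker F.leftOp).pt ⟶ (cD.whisker F.leftOp).pt from f) :=
    ‹UniversallyClosed f›
  obtain ⟨j, hj, hex⟩ := exists_existence_stage (F.leftOp ⋙ D) (F.leftOp ⋙ E) (cD.whisker F.leftOp)
    ((Functor.Initial.isLimitWhiskerEquiv F.leftOp cD).symm hD) (cE.whisker F.leftOp)
    ((Functor.Initial.isLimitWhiskerEquiv F.leftOp cE).symm hE) (Functor.whiskerLeft F.leftOp e) f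
    (fun j => hw _) b.right (fun j h => hlift _ _ (F.leftOp.map (homOfLE h).op))
  refine ⟨(F.obj j).unop, (b.hom ≫ F.map (homOfLE hj)).unop, ?_⟩
  exact UniversallyClosed.of_valuativeCriterion _ hex

section descends

/-- Universal closedness descends for morphisms locally of finite type. -/
theorem descends_universallyClosed : Descends.{u} @UniversallyClosed @LocallyOfFiniteType := by
  intro I _ _ D c hc hD hqc hqs i X₀ f₀ _ _ hQ X q f hf hP
  have : QuasiCompact f₀ := quasiCompact_of_compactSpace f₀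
  have (j : Over i) : QuasiCompact ((bcι D i f₀).app j) :=
    MorphismProperty.pullback_snd _ _ inferInstance
  have (j : Over i) : LocallyOfFiniteType ((bcι D i f₀).app j) :=
    MorphismProperty.pullback_snd _ _ hQ
  have : UniversallyClosed (show (bcCone hf).pt ⟶ (c.whisker (Over.forget i)).pt from f) := hP
  have (j k : Over i) (a : j ⟶ k) : IsAffineHom ((Over.forget i ⋙ D).map a) := hD _ _ _
  have (j : Over i) : CompactSpace ((Over.forget i ⋙ D).obj j) := hqc _
  obtain ⟨j, -, hj⟩ := exists_universallyClosed_stage (Over.forget i ⋙ D) (bcDiag D i f₀)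
    (c.whisker (Over.forget i)) ((Functor.Initial.isLimitWhiskerEquiv (Over.forget i) c).symm hc)
    (bcCone hf) (isLimitBcCone hc hf) (bcι D i f₀) f (fun j => by simp)
    (Over.mk (𝟙 i)) (fun j k a R _ _ _ K _ _ _ x d l₀ h₁ h₂ h₃ => by
      have hw : (l₀ ≫ pullback.fst f₀ (D.map k.hom)) ≫ f₀ = d ≫ D.map j.hom := by
        rw [Category.assoc, pullback.condition, ← Category.assoc]
        erw [h₃]
        show (d ≫ D.map a.left) ≫ D.map k.hom = _
        rw [Category.assoc, ← D.map_comp, Over.w a]
      refine ⟨pullback.lift _ d hw, ?_, pullback.lift_snd _ _ _⟩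
      apply pullback.hom_ext
      · rw [Category.assoc, pullback.lift_fst, ← Category.assoc, ← h₂, Category.assoc]
        simp
      · rw [Category.assoc, pullback.lift_snd]
        exact h₁.symm)
  exact ⟨j.left, j.hom, hj⟩

/-- Properness descends for morphisms locally of finite type. -/
theorem descends_isProper : Descends.{u} @IsProper @LocallyOfFiniteType := by
  intro I _ _ D c hc hD hqc hqs i X₀ f₀ hX hX' hQ X q f hf hP
  obtain ⟨j, φ, hj⟩ := descends_isSeparated D c hc hD hqc hqs i X₀ f₀ hX hX' trivial X q f hf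
    inferInstance
  obtain ⟨k, ψ, hk⟩ := descends_universallyClosed D c hc hD hqc hqs i X₀ f₀ hX hX' hQ X q f hf
    inferInstance
  obtain ⟨m, a, b, hab⟩ := IsCofiltered.cospan φ ψ
  refine ⟨m, a ≫ φ, ?_⟩
  have h₁ : IsSeparated (pullback.snd f₀ (D.map (a ≫ φ))) :=
    property_of_factor (IsPullback.of_hasPullback _ _) (IsPullback.of_hasPullback _ _)
      (D.map a) (D.map_comp a φ).symm hj
  have h₂ : UniversallyClosed (pullback.snd f₀ (D.map (a ≫ φ))) :=
    property_of_factor (IsPullback.of_hasPullback _ _) (IsPullback.of_hasPullback _ _)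
      (D.map b) (by rw [← D.map_comp, hab]) hk
  have h₃ : LocallyOfFiniteType (pullback.snd f₀ (D.map (a ≫ φ))) :=
    MorphismProperty.pullback_snd _ _ hQ
  exact { }

end descends

section fixed

variable {I : Type u} [SmallCategory I] [IsCofiltered I] (D : I ⥤ Scheme.{u})
  [∀ (i j : I) (a : i ⟶ j), IsAffineHom (D.map a)] [∀ i, CompactSpace (D.obj i)]
  [∀ i, QuasiSeparatedSpace (D.obj i)]

/-- A proper morphism to a limit which is of finite type over all stages is proper over some
stage, and hence over all later ones. -/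
theorem eventually_isProper_of_fixed_source (c : Cone D) (hc : IsLimit c) {Y : Scheme.{u}}
    (h : Y ⟶ c.pt) [IsProper h] [∀ i, LocallyOfFiniteType (h ≫ c.π.app i)] :
    ∃ i₁, ∀ (i : I) (_ : i ⟶ i₁), IsProper (h ≫ c.π.app i) := by
  obtain ⟨i₀⟩ := IsCofiltered.nonempty (C := I)
  have hπ (i : I) : IsAffineHom (c.π.app i) := isAffineHom_π_app D c hc i
  have : CompactSpace Y :=
    QuasiCompact.compactSpace_of_compactSpace (h ≫ c.π.app i₀)
  let e : (Functor.const I).obj Y ⟶ D :=
    { app := fun i => h ≫ c.π.app i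
      naturality := fun i j a => by simp }
  have (i : I) : QuasiCompact (e.app i) := inferInstanceAs (QuasiCompact (h ≫ c.π.app i))
  have (i : I) : LocallyOfFiniteType (e.app i) :=
    inferInstanceAs (LocallyOfFiniteType (h ≫ c.π.app i))
  have (i j : I) (a : i ⟶ j) : IsAffineHom (((Functor.const I).obj Y).map a) :=
    inferInstanceAs (IsAffineHom (𝟙 Y))
  have : IsConnected I := IsCofiltered.isConnected I
  have : UniversallyClosed (show (constCone I Y).pt ⟶ c.pt from h) := IsProper.toUniversallyClosed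
  obtain ⟨j, -, hj⟩ := exists_universallyClosed_stage D ((Functor.const I).obj Y) c hc
    (constCone I Y) (isLimitConstCone I Y) e h (fun j => Category.id_comp _) i₀
    (fun j i a R _ _ _ K _ _ _ x d l₀ h₁ h₂ h₃ => by
      refine ⟨l₀, h₂.symm.trans (Category.comp_id x), ?_⟩
      have : IsDominant (Spec.map (CommRingCat.ofHom (algebraMap R K))) :=
        ⟨(PrimeSpectrum.denseRange_comap_iff_ker_le_nilRadical _).mpr (by
          intro r hr
          have : r = 0 := IsFractionRing.injective R K ((RingHom.mem_ker.mp hr).trans (map_zero _).symm)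
          rw [this]; exact zero_mem _)⟩
      refine AlgebraicGeometry.ext_of_isDominant_of_isSeparated (D.map a) ?_
        (Spec.map (CommRingCat.ofHom (algebraMap R K))) ?_
      · show (l₀ ≫ h ≫ c.π.app j) ≫ D.map a = _
        rw [Category.assoc, Category.assoc, c.w]
        exact h₃
      · rw [← h₁, ← Category.assoc, ← h₂]
        exact congrArg (· ≫ e.app j) (Category.comp_id x).symm)
  refine ⟨j, fun i a => ?_⟩
  have : UniversallyClosed ((h ≫ c.π.app i) ≫ D.map a) := by
    rw [Category.assoc, c.w]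
    exact hj
  have : UniversallyClosed (h ≫ c.π.app i) := UniversallyClosed.of_comp_of_isSeparated _ (D.map a)
  exact { }

end fixed

section closedImmersion

variable {I : Type u} [SmallCategory I] [IsCofiltered I] {S : Scheme.{u}} [CompactSpace S]

/-- A system over a fixed quasi-compact base with closed immersions as transition maps, with
universally closed limit, has a universally closed stage. -/
theorem exists_universallyClosed_stage_of_isClosedImmersion (E : I ⥤ Scheme.{u})
    (t : E ⟶ (Functor.const I).obj S) [∀ (i j : I) (a : i ⟶ j), IsClosedImmersion (E.map a)]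
    [∀ i, QuasiCompact (t.app i)] [∀ i, LocallyOfFiniteType (t.app i)]
    (c : Cone E) (hc : IsLimit c) (i₀ : I) [UniversallyClosed (c.π.app i₀ ≫ t.app i₀)] :
    ∃ (j : I) (_ : j ⟶ i₀), UniversallyClosed (t.app j) := by
  have (i j : I) (a : i ⟶ j) : IsAffineHom (((Functor.const I).obj S).map a) :=
    inferInstanceAs (IsAffineHom (𝟙 S))
  have (i : I) : CompactSpace (((Functor.const I).obj S).obj i) := inferInstanceAs (CompactSpace S)
  have : IsConnected I := IsCofiltered.isConnected I
  have : UniversallyClosed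
      (show c.pt ⟶ (constCone I S).pt from c.π.app i₀ ≫ t.app i₀) := ‹_›
  refine exists_universallyClosed_stage ((Functor.const I).obj S) E (constCone I S)
    (isLimitConstCone I S) c hc t (c.π.app i₀ ≫ t.app i₀) (fun j => ?_) i₀
    (fun j i a R _ _ _ K _ _ _ x d l₀ h₁ h₂ h₃ => ?_)
  · obtain ⟨k, a, b, -⟩ := IsCofilteredOrEmpty.cone_objs j i₀
    show _ = (c.π.app i₀ ≫ t.app i₀) ≫ 𝟙 S
    refine Eq.trans ?_ (Category.comp_id _).symm
    rw [← c.w a, ← c.w b, Category.assoc, Category.assoc, t.naturality, t.naturality]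
    rfl
  · have hUC : UniversallyClosed (E.map a) := inferInstance
    rw [UniversallyClosed.eq_valuativeCriterion] at hUC
    obtain ⟨⟨l⟩⟩ := hUC.1 { R := R, K := K, i₁ := x, i₂ := l₀, commSq := ⟨h₂⟩ }
    refine ⟨l.l, l.fac_left, ?_⟩
    have h : E.map a ≫ t.app i = t.app j := (t.naturality a).trans (Category.comp_id _)
    rw [← h, ← Category.assoc, show l.l ≫ E.map a = l₀ from l.fac_right, h₃]
    exact Category.comp_id d

end closedImmersion

section images

variable {I : Type u} [SmallCategory I] [IsCofiltered I] {D : I ⥤ Scheme.{u}} {c : Cone D}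
  [∀ (i j : I) (a : i ⟶ j), IsAffineHom (D.map a)] {X : Scheme.{u}} (ι : X ⟶ c.pt)

omit [IsCofiltered I] [∀ (i j : I) (a : i ⟶ j), IsAffineHom (D.map a)] in
lemma ker_image_le {i j : I} (a : i ⟶ j) :
    (ι ≫ c.π.app j).ker.subschemeι.ker ≤ ((ι ≫ c.π.app i).ker.subschemeι ≫ D.map a).ker := by
  rw [Scheme.IdealSheafData.ker_subschemeι,
    ← Scheme.IdealSheafData.map_ker (g := D.map a), Scheme.IdealSheafData.ker_subschemeι,
    Scheme.IdealSheafData.map_ker, Category.assoc, c.w]

/-- The scheme theoretic images of a morphism to a limit in the stages. -/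
noncomputable def imageDiag : I ⥤ Scheme.{u} where
  obj i := (ι ≫ c.π.app i).ker.subscheme
  map {i j} a := IsClosedImmersion.lift _ _ (ker_image_le ι a)
  map_id i := by
    rw [← cancel_mono (ι ≫ c.π.app i).ker.subschemeι]
    simp
  map_comp {i j k} a b := by
    rw [← cancel_mono (ι ≫ c.π.app k).ker.subschemeι]
    simp

/-- The inclusions of the images. -/
noncomputable def imageDiagι : imageDiag ι ⟶ D where
  app i := (ι ≫ c.π.app i).ker.subschemeι
  naturality i j a := IsClosedImmersion.lift_fac _ _ _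

instance (i : I) : IsClosedImmersion ((imageDiagι ι).app i) :=
  inferInstanceAs (IsClosedImmersion (ι ≫ c.π.app i).ker.subschemeι)

instance (i j : I) (a : i ⟶ j) : IsAffineHom ((imageDiag ι).map a) :=
  have : IsAffineHom ((imageDiag ι).map a ≫ (imageDiagι ι).app j) := by
    rw [(imageDiagι ι).naturality a]; infer_instance
  IsAffineHom.of_comp _ ((imageDiagι ι).app j)

/-- The cone of the images. -/
noncomputable def imageCone : Cone (imageDiag ι) where
  pt := X
  π :=
  { app := fun i => (ι ≫ c.π.app i).toImage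
    naturality := fun i j a => by
      show 𝟙 X ≫ (ι ≫ c.π.app j).toImage =
        (ι ≫ c.π.app i).toImage ≫ IsClosedImmersion.lift _ _ (ker_image_le ι a)
      rw [← cancel_mono (ι ≫ c.π.app j).ker.subschemeι, Category.id_comp, Category.assoc,
        IsClosedImmersion.lift_fac]
      erw [Scheme.Hom.toImage_imageι, Scheme.Hom.toImage_imageι_assoc]
      rw [Category.assoc, c.w] }

lemma imageCone_fac (i : I) : (imageCone ι).π.app i ≫ (imageDiagι ι).app i = ι ≫ c.π.app i :=
  (ι ≫ c.π.app i).toImage_imageι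

/-- A closed subscheme of a limit is the limit of its scheme theoretic images. -/
theorem nonempty_isLimit_imageCone [∀ i, QuasiSeparatedSpace (D.obj i)] (hc : IsLimit c)
    [IsClosedImmersion ι] : Nonempty (IsLimit (imageCone ι)) := by
  let t (T : Cone (imageDiag ι)) : T.pt ⟶ c.pt :=
    hc.lift ((Cone.postcompose (imageDiagι ι)).obj T)
  have ht (T : Cone (imageDiag ι)) (i : I) :
      t T ≫ c.π.app i = T.π.app i ≫ (imageDiagι ι).app i :=
    hc.fac _ i
  have hle (T : Cone (imageDiag ι)) : ι.ker ≤ (t T).ker := by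
    refine Scheme.IdealSheafData.le_ofIdeals_iff.mpr fun U s hs => ?_
    rw [Scheme.Hom.ker_apply] at hs
    obtain ⟨i, U₀, hU₀, hUV⟩ := exists_isAffineOpen_preimage_eq D c hc U.1 U.2
    obtain ⟨j, a, h, z, hz⟩ := exists_appLE_eq hc hU₀.isCompact hUV s
    have : IsAffineHom (c.π.app j) := isAffineHom_π_app D c hc j
    have hz' : z ∈ (ι ≫ c.π.app j).ker.ideal ⟨_, hU₀.preimage (D.map a)⟩ := by
      have hW : (ι ≫ c.π.app j) ⁻¹ᵁ (D.map a ⁻¹ᵁ U₀) ≤ ι ⁻¹ᵁ U.1 := by
        rw [← hUV, ← c.w a]
        rfl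
      rw [Scheme.Hom.ker_apply, RingHom.mem_ker, Scheme.Hom.app_eq_appLE,
        ← Scheme.Hom.appLE_comp_appLE ι (c.π.app j) _ U.1 _ h hW]
      show (ι.appLE _ _ _).hom (((c.π.app j).appLE _ _ h).hom z) = 0
      rw [hz, Scheme.Hom.appLE, CommRingCat.hom_comp, RingHom.comp_apply, RingHom.mem_ker.mp hs,
        map_zero]
    rw [← Scheme.IdealSheafData.ker_subschemeι_app, RingHom.mem_ker] at hz'
    rw [RingHom.mem_ker, ← hz, Scheme.Hom.app_eq_appLE]
    show ((c.π.app j).appLE _ _ h ≫ (t T).appLE U.1 (t T ⁻¹ᵁ U.1) le_rfl).hom z = 0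
    rw [Scheme.Hom.appLE_comp_appLE]
    have hle' : t T ⁻¹ᵁ U.1 ≤ (T.π.app j ≫ (imageDiagι ι).app j) ⁻¹ᵁ (D.map a ⁻¹ᵁ U₀) := by
      rw [← ht]
      exact (t T).preimage_mono h
    rw [show (t T ≫ c.π.app j).appLE (D.map a ⁻¹ᵁ U₀) (t T ⁻¹ᵁ U.1) _ =
        (T.π.app j ≫ (imageDiagι ι).app j).appLE (D.map a ⁻¹ᵁ U₀) (t T ⁻¹ᵁ U.1) hle' by
      congr 1; exact ht T j]
    rw [← Scheme.Hom.appLE_comp_appLE _ ((imageDiagι ι).app j) _ _ _ le_rfl hle',
      ← Scheme.Hom.app_eq_appLE]
    show ((T.π.app j).appLE _ _ _).hom (((ι ≫ c.π.app j).ker.subschemeι.app _).hom z) = 0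
    rw [hz', map_zero]
  refine ⟨IsLimit.ofExistsUnique fun T => ⟨IsClosedImmersion.lift ι (t T) (hle T), fun i => ?_,
    fun m hm => ?_⟩⟩
  · rw [← cancel_mono ((imageDiagι ι).app i), Category.assoc, imageCone_fac, ← ht]
    exact IsClosedImmersion.lift_fac_assoc _ _ _ _
  · rw [← cancel_mono ι, IsClosedImmersion.lift_fac]
    refine hc.hom_ext fun i => ?_
    rw [ht, Category.assoc, ← imageCone_fac, ← Category.assoc, hm i]

end images

end Groth.Agent.LimLib
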