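import Groth.Agent.LimLib.ApproxGlue

/-!
# Noetherian approximation of quasi-compact quasi-separated schemes

* `FTSystem.exists_extension`: adding one affine open.
* `FTSystem.exists_extension_of_isOpenImmersion`: a system of finite type schemes over `ℤ` for a
  quasi-compact open extends to one for the whole scheme.
* `nonempty_ftSystem`: every quasi-compact quasi-separated scheme is a limit of schemes of finite
  type over `ℤ`.
-/

set_option backward.isDefEq.respectTransparency false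
set_option backward.defeqAttrib.useBackward true
set_option maxHeartbeats 800000

universe u

open CategoryTheory Limits AlgebraicGeometry TopologicalSpace Opposite

namespace Groth.Agent.LimLib

variable {V S : Scheme.{u}}

lemma exists_stepData (P : FTSystem V) (ι : V ⟶ S) [IsOpenImmersion ι] [CompactSpace V]
    [QuasiSeparatedSpace S] (U : S.Opens) (hU : IsAffineOpen U) : Nonempty (StepData P ι U) := by
  classical
  have hc := P.isLimit.some
  have : QuasiCompact ι := quasiCompact_of_compactSpace ι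
  have hcomp : IsCompact ((ι.opensRange ⊓ U : S.Opens) : Set S) :=
    QuasiSeparatedSpace.inter_isCompact _ _ ι.opensRange.2 (isCompact_range ι.continuous) U.2
      hU.isCompact
  have hx : ∀ x : (ι.opensRange ⊓ U : S.Opens), ∃ f : Γ(S, U),
      S.basicOpen f ≤ ι.opensRange ⊓ U ∧ x.1 ∈ S.basicOpen f := fun x =>
    hU.exists_basicOpen_le (V := ι.opensRange ⊓ U) x x.2.2
  choose f hf hxf using hx
  obtain ⟨t, ht⟩ := hcomp.elim_finite_subcover (fun x => (S.basicOpen (f x) : Set S))
    (fun x => (S.basicOpen (f x)).2) fun x hx => Set.mem_iUnion.mpr ⟨⟨x, hx⟩, hxf _⟩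
  let g : Fin t.card → Γ(S, U) := fun m => f (t.equivFin.symm m)
  have hgS : ∀ m, S.basicOpen (g m) ≤ ι.opensRange := fun m => (hf _).trans inf_le_left
  have hgcov : ⨆ m, ι ⁻¹ᵁ S.basicOpen (g m) = ι ⁻¹ᵁ U := by
    refine le_antisymm (iSup_le fun m => Scheme.Hom.preimage_mono _ (S.basicOpen_le _)) fun v hv => ?_
    obtain ⟨x, hx, hvx⟩ := Set.mem_iUnion₂.mp (ht (show ι v ∈ ι.opensRange ⊓ U from ⟨⟨v, rfl⟩, hv⟩))
    refine Opens.mem_iSup.mpr ⟨t.equivFin ⟨x, hx⟩, ?_⟩
    show ι v ∈ S.basicOpen (g _)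
    simpa [g] using hvx
  have hW : IsCompact ((ι ⁻¹ᵁ U : V.Opens) : Set V) :=
    QuasiCompact.isCompact_preimage (f := ι) _ U.2 hU.isCompact
  obtain ⟨i, Wi, hWi, hWiU⟩ := exists_preimage_eq P.D (Cone.mk V P.π) hc (ι ⁻¹ᵁ U) hW
  -- lift the functions
  have hlift : ∀ m, ∃ (j : P.Jᵒᵖ) (e : j ⟶ i) (h : ι ⁻¹ᵁ U ≤ P.π.app j ⁻¹ᵁ (P.D.map e ⁻¹ᵁ Wi))
      (s : Γ(P.D.obj j, P.D.map e ⁻¹ᵁ Wi)), (P.π.app j).appLE _ _ h s = ι.app U (g m) :=
    fun m => exists_appLE_eq hc hWi hWiU (ι.app U (g m))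
  choose j e hle s hs using hlift
  obtain ⟨k, hk⟩ := Finite.exists_le (α := P.J) (fun m : Option (Fin t.card) =>
    m.elim i.unop fun m => (j m).unop)
  have hki : i.unop ≤ k := hk none
  have hkj : ∀ m, (j m).unop ≤ k := fun m => hk (some m)
  let ei : op k ⟶ i := (homOfLE hki).op
  let ej : ∀ m, op k ⟶ j m := fun m => (homOfLE (hkj m)).op
  let Wk := P.D.map ei ⁻¹ᵁ Wi
  have hej : ∀ m, P.D.map (ej m) ⁻¹ᵁ (P.D.map (e m) ⁻¹ᵁ Wi) = Wk := fun m => by
    rw [← Scheme.Hom.comp_preimage, ← P.D.map_comp, Subsingleton.elim (ej m ≫ e m) ei]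
  have hπk : P.π.app (op k) ⁻¹ᵁ Wk = ι ⁻¹ᵁ U := by
    rw [← Scheme.Hom.comp_preimage, ← P.π.naturality, ← hWiU]
    simp
  let gk : Fin t.card → Γ(P.D.obj (op k), Wk) := fun m =>
    (P.D.map (ej m)).appLE _ Wk (hej m).ge (s m)
  have hgk : ∀ m, (P.π.app (op k)).appLE Wk (ι ⁻¹ᵁ U) hπk.ge (gk m) = ι.app U (g m) := by
    intro m
    rw [← hs m]
    simp only [gk, ← CommRingCat.comp_apply, Scheme.Hom.appLE_comp_appLE]
    congr 4
    simpa using (P.π.naturality (ej m)).symm
  let B : Fin t.card → (P.D.obj (op k)).Opens := fun m => (P.D.obj (op k)).basicOpen (gk m)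
  have hπB : ∀ m, P.π.app (op k) ⁻¹ᵁ B m = ι ⁻¹ᵁ S.basicOpen (g m) := by
    intro m
    rw [Scheme.preimage_basicOpen ι, ← hgk m]
    erw [Scheme.basicOpen_appLE]
    exact (inf_eq_right.mpr ((Scheme.Hom.preimage_mono _ (Scheme.basicOpen_le _ _)).trans hπk.le)).symm
  have hBaff : ∀ m, IsAffineOpen (P.π.app (op k) ⁻¹ᵁ B m) := fun m => by
    rw [hπB m, ← ι.isAffineOpen_iff_of_isOpenImmersion, Scheme.Hom.image_preimage_eq_opensRange_inf,
      inf_eq_right.mpr (hgS m)]
    exact hU.basicOpen _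
  -- affineness at a finite stage
  have hBst : ∀ m, ∃ (l : P.Jᵒᵖ) (q : l ⟶ op k), IsAffineOpen (P.D.map q ⁻¹ᵁ B m) := by
    intro m
    have hWk : IsCompact (Wk : Set (P.D.obj (op k))) :=
      QuasiCompact.isCompact_preimage (f := P.D.map ei) _ Wi.2 hWi
    have hBc : IsCompact (B m : Set (P.D.obj (op k))) :=
      isCompact_basicOpen _ hWk (gk m)
    have (q : Over (op k)) : CompactSpace ↥((opensDiagram P.D (op k) (B m)).obj q) :=
      isCompact_iff_compactSpace.mp
        (QuasiCompact.isCompact_preimage (f := P.D.map q.hom) _ (B m).2 hBc)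
    have (q : Over (op k)) : QuasiSeparatedSpace ↥((opensDiagram P.D (op k) (B m)).obj q) :=
      quasiSeparatedSpace_of_quasiSeparated (P.D.map q.hom ⁻¹ᵁ B m).ι
    have : IsAffine (opensCone P.D (Cone.mk V P.π) (op k) (B m)).pt := hBaff m
    obtain ⟨q, hq⟩ := Scheme.exists_isAffine_of_isLimit _ _
      (isLimitOpensCone P.D (Cone.mk V P.π) hc (op k) (B m))
    exact ⟨q.left, q.hom, hq⟩
  choose l q hq using hBst
  obtain ⟨n, hn⟩ := Finite.exists_le (α := P.J) (fun m : Option (Fin t.card) =>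
    m.elim k fun m => (l m).unop)
  have hnk : k ≤ n := hn none
  let en : op n ⟶ op k := (homOfLE hnk).op
  have hBn : ∀ m, IsAffineOpen (P.D.map en ⁻¹ᵁ B m) := fun m => by
    have h := (hq m).preimage (P.D.map ((homOfLE (hn (some m))).op : op n ⟶ l m))
    rwa [← Scheme.Hom.comp_preimage, ← P.D.map_comp, Subsingleton.elim (_ ≫ q m) en] at h
  let Wn := P.D.map en ⁻¹ᵁ Wk
  have hπn : P.π.app (op n) ⁻¹ᵁ Wn = ι ⁻¹ᵁ U := by
    rw [← Scheme.Hom.comp_preimage, ← P.π.naturality, ← hπk]
    simp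
  have hUc : IsCompact ((⨆ m, P.D.map en ⁻¹ᵁ B m : (P.D.obj (op n)).Opens) : Set (P.D.obj (op n))) := by
    rw [Opens.coe_iSup]
    exact isCompact_iUnion fun m => (hBn m).isCompact
  have hWn : IsCompact (Wn : Set (P.D.obj (op n))) := by
    have : IsCompact (Wk : Set (P.D.obj (op k))) :=
      QuasiCompact.isCompact_preimage (f := P.D.map ei) _ Wi.2 hWi
    exact QuasiCompact.isCompact_preimage (f := P.D.map en) _ Wk.2 this
  have hnat : P.π.app (op n) ≫ P.D.map en = P.π.app (op k) := by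
    simpa using (P.π.naturality en).symm
  obtain ⟨z, qz, hz⟩ := exists_map_preimage_eq_map_preimage P.D (Cone.mk V P.π) hc hUc hWn (by
    rw [Scheme.Hom.preimage_iSup]
    simp only [← Scheme.Hom.comp_preimage, hnat]
    rw [hπn, iSup_congr hπB, hgcov])
  let W₀ := P.D.map qz ⁻¹ᵁ Wn
  have hπz : P.π.app z ⁻¹ᵁ W₀ = ι ⁻¹ᵁ U := by
    rw [← Scheme.Hom.comp_preimage, ← P.π.naturality, ← hπn]
    simp
  let E : z ⟶ op k := qz ≫ en
  have hE : P.D.map E ⁻¹ᵁ Wk = W₀ := by
    simp only [E, P.D.map_comp, Scheme.Hom.comp_preimage]; rfl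
  let gz : Fin t.card → Γ(P.D.obj z, W₀) := fun m => (P.D.map E).appLE Wk W₀ hE.ge (gk m)
  have hgz : ∀ m, (P.D.obj z).basicOpen (gz m) = P.D.map qz ⁻¹ᵁ (P.D.map en ⁻¹ᵁ B m) := fun m => by
    rw [← Scheme.Hom.comp_preimage, ← P.D.map_comp]
    show _ = P.D.map E ⁻¹ᵁ _
    rw [Scheme.basicOpen_appLE]
    exact inf_eq_right.mpr ((Scheme.Hom.preimage_mono _ (Scheme.basicOpen_le _ _)).trans hE.le)
  exact ⟨{
    i₀ := z.unop
    W₀ := W₀
    n := t.card
    g := g
    gh := gz
    hW := hπz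
    hgh := fun m => by
      rw [← hgk m]
      simp only [gz, ← CommRingCat.comp_apply, Scheme.Hom.appLE_comp_appLE]
      congr 4
      simpa using (P.π.naturality E).symm
    haff := fun m => by rw [hgz m]; exact (hBn m).preimage _
    hcov := by rw [iSup_congr hgz, ← Scheme.Hom.preimage_iSup]; exact hz
    hgS := fun m x hx => hgS m hx }⟩

/-- A system of finite type schemes over `ℤ` extends over one affine open. -/
lemma FTSystem.exists_extension (P : FTSystem V) (ι : V ⟶ S) [IsOpenImmersion ι] [CompactSpace V]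
    [QuasiSeparatedSpace S] (U : S.Opens) (hU : IsAffineOpen U) (hcov : ι.opensRange ⊔ U = ⊤) :
    Nonempty (P.Extension ι) := by
  obtain ⟨d⟩ := exists_stepData P ι U hU
  have : Fact (IsAffineOpen U) := ⟨hU⟩
  exact ⟨d.extension hcov⟩

/-- Extensions compose. -/
noncomputable def FTSystem.Extension.trans {V W S : Scheme.{u}} {P : FTSystem V} {ι : V ⟶ W}
    (E : P.Extension ι) {κ : W ⟶ S} (F : E.sys.Extension κ) : P.Extension (ι ≫ κ) where
  sys := F.sys
  α := E.α.comp F.α
  emb j := E.emb (F.α j) ≫ F.emb j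
  isOpenImmersion j :=
    have := E.isOpenImmersion (F.α j)
    have := F.isOpenImmersion j
    inferInstance
  sq {j j'} h := (E.sq (F.α.mono h)).paste_horiz (F.sq h)
  sqπ j := (E.sqπ (F.α j)).paste_horiz (F.sqπ j)

/-- Reindexing along an isomorphism. -/
noncomputable def FTSystem.ofIso {V S : Scheme.{u}} (P : FTSystem V) (e : V ≅ S) : FTSystem S where
  J := P.J
  D := P.D
  π := { app := fun j => e.inv ≫ P.π.app j
         naturality := fun i j a => by simpa using e.inv ≫= P.π.naturality a }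
  isLimit := ⟨P.isLimit.some.ofIsoLimit (Cone.ext e (fun j => by simp))⟩
  isAffineHom := P.isAffineHom
  compactSpace := P.compactSpace
  lft := P.lft

/-- An extension along an isomorphism. -/
noncomputable def FTSystem.extensionOfIso (P : FTSystem V) (ι : V ⟶ S) [IsIso ι] : P.Extension ι where
  sys := P.ofIso (asIso ι)
  α := OrderHom.id
  emb j := 𝟙 _
  isOpenImmersion j := inferInstanceAs (IsOpenImmersion (𝟙 _))
  sq {j j'} h := IsPullback.of_horiz_isIso ⟨by simp [FTSystem.ofIso]⟩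
  sqπ j := IsPullback.of_horiz_isIso ⟨by simp [FTSystem.ofIso]⟩

/-- A system of finite type schemes over `ℤ` for a quasi-compact open extends to the whole
scheme. -/
theorem FTSystem.exists_extension_of_isOpenImmersion (P : FTSystem V) (ι : V ⟶ S)
    [IsOpenImmersion ι] [CompactSpace V] [CompactSpace S] [QuasiSeparatedSpace S] :
    Nonempty (P.Extension ι) := by
  classical
  obtain ⟨t, ht⟩ := isCompact_univ.elim_finite_subcover
    (fun U : S.affineOpens => (U.1 : Set S)) (fun U => U.1.2)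
    (fun x _ => by
      obtain ⟨U, hU, hx, -⟩ := Opens.isBasis_iff_nbhd.mp S.isBasis_affineOpens
        (U := ⊤) (x := x) trivial
      exact Set.mem_iUnion.mpr ⟨⟨U, hU⟩, hx⟩)
  have key : ∀ s : Finset S.affineOpens,
      IsCompact ((ι.opensRange ⊔ s.sup (fun U => U.1) : S.Opens) : Set S) ∧
      ∀ (h : ι.opensRange ≤ ι.opensRange ⊔ s.sup (fun U => U.1)),
        Nonempty (P.Extension (ι.isoOpensRange.hom ≫ S.homOfLE h)) := by
    intro s
    induction s using Finset.induction_on with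
    | empty =>
      refine ⟨by simpa using isCompact_range ι.continuous, fun h => ?_⟩
      have : IsIso (S.homOfLE h) := by
        refine (isIso_iff_isOpenImmersion_and_epi_base _).mpr ⟨inferInstance, ?_⟩
        rw [TopCat.epi_iff_surjective]
        intro x
        refine ⟨⟨x.1, ?_⟩, (ι.opensRange ⊔ _).ι.isOpenEmbedding.injective ?_⟩
        · simpa using x.2
        · rw [← Scheme.Hom.comp_apply]; simp
      exact ⟨P.extensionOfIso _⟩
    | insert U s _ ih =>
      let X₀ := ι.opensRange ⊔ s.sup (fun U => U.1)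
      let X₁ := ι.opensRange ⊔ (insert U s).sup (fun U => U.1)
      have h01 : X₀ ≤ X₁ := sup_le_sup_left (Finset.sup_mono (Finset.subset_insert _ _)) _
      have hX₁ : X₁ = X₀ ⊔ U.1 := by
        simp only [X₀, X₁, Finset.sup_insert]
        rw [sup_comm U.1, sup_assoc]
      refine ⟨by
        show IsCompact (X₁ : Set S)
        rw [hX₁, Opens.coe_sup]; exact ih.1.union U.2.isCompact, fun h => ?_⟩
      obtain ⟨E⟩ := ih.2 le_sup_left
      have : CompactSpace (X₀ : Scheme.{u}) := isCompact_iff_compactSpace.mp ih.1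
      have : QuasiSeparatedSpace (X₁ : Scheme.{u}) := quasiSeparatedSpace_of_quasiSeparated X₁.ι
      obtain ⟨F⟩ := E.sys.exists_extension (S.homOfLE h01) (X₁.ι ⁻¹ᵁ U.1)
        (U.2.preimage_of_isOpenImmersion X₁.ι (by
          rw [Scheme.Opens.opensRange_ι, hX₁]; exact le_sup_right))
        (by
          rw [Scheme.opensRange_homOfLE]
          apply top_le_iff.mp
          intro x _
          have := hX₁.le x.2
          exact this)
      exact ⟨by simpa [X₀, X₁] using E.trans F⟩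
  obtain ⟨hc, h⟩ := key t
  obtain ⟨E⟩ := h le_sup_left
  have htop : ι.opensRange ⊔ t.sup (fun U => U.1) = ⊤ := top_le_iff.mp fun x _ => by
    obtain ⟨U, hU, hx⟩ := Set.mem_iUnion₂.mp (ht (Set.mem_univ x))
    exact Opens.mem_sup.mpr (.inr (SetLike.le_def.mp (Finset.le_sup (f := fun U : S.affineOpens => U.1) hU) hx))
  have : IsIso (ι.opensRange ⊔ t.sup (fun U => U.1)).ι := by
    refine (isIso_iff_isOpenImmersion_and_epi_base _).mpr ⟨inferInstance, ?_⟩
    rw [TopCat.epi_iff_surjective]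
    exact fun x => ⟨⟨x, htop.ge trivial⟩, rfl⟩
  let F := E.sys.extensionOfIso (ι.opensRange ⊔ t.sup (fun U => U.1)).ι
  exact ⟨by simpa using E.trans F⟩

/-- The system for the empty scheme. -/
noncomputable def emptyFTSystem : FTSystem (⊥_ Scheme.{u}) where
  J := PUnit
  D := (Functor.const _).obj (⊥_ Scheme.{u})
  π := 𝟙 _
  isLimit := ⟨{ lift := fun T => T.π.app (op ⟨⟩)
                fac := fun T j => by simp
                uniq := fun T m h => by simpa using h (op ⟨⟩) }⟩
  isAffineHom _ := inferInstanceAs (IsAffineHom (𝟙 _))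
  compactSpace _ := inferInstanceAs (CompactSpace ↥(⊥_ Scheme.{u}))
  lft _ := inferInstanceAs (LocallyOfFiniteType (specULiftZIsTerminal.from (⊥_ Scheme.{u})))

/-- Absolute Noetherian approximation. -/
theorem nonempty_ftSystem (S : Scheme.{u}) [CompactSpace S] [QuasiSeparatedSpace S] :
    Nonempty (FTSystem S) :=
  ⟨(emptyFTSystem.exists_extension_of_isOpenImmersion (initial.to S)).some.sys⟩

end Groth.Agent.LimLib
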