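import Groth.Agent.LimLib.ClosedApprox

/-!
# Ideals of finite type are compact and descend
-/

set_option backward.isDefEq.respectTransparency false
set_option backward.defeqAttrib.useBackward true

universe u v

open CategoryTheory Limits AlgebraicGeometry TopologicalSpace Opposite

namespace Groth.Agent.LimLib

/-- An ideal of finite type below a directed supremum is below one of its members. -/
lemma exists_le_of_fg {Y : Scheme.{u}} [CompactSpace Y] {K : Y.IdealSheafData}
    (hK : ∀ U, (K.ideal U).FG) {ι : Type v} [Nonempty ι] (F : ι → Y.IdealSheafData)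
    (hF : Directed (· ≤ ·) F) (h : K ≤ ⨆ a, F a) : ∃ a, K ≤ F a := by
  classical
  obtain ⟨t, ht⟩ := isCompact_univ.elim_finite_subcover
    (fun U : Y.affineOpens => (U.1 : Set Y)) (fun U => U.1.2)
    (fun x _ => by
      obtain ⟨U, hU, hx, -⟩ := Opens.isBasis_iff_nbhd.mp Y.isBasis_affineOpens
        (U := ⊤) (x := x) trivial
      exact Set.mem_iUnion.mpr ⟨⟨U, hU⟩, hx⟩)
  have hone : ∀ U : Y.affineOpens, ∃ a, K.ideal U ≤ (F a).ideal U := by
    intro U
    have hle : K.ideal U ≤ ⨆ a, (F a).ideal U := by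
      have := h U
      rwa [Scheme.IdealSheafData.ideal_iSup, iSup_apply] at this
    have hdir : Directed (· ≤ ·) fun a => (F a).ideal U :=
      fun a b => (hF a b).imp fun c hc => ⟨hc.1 U, hc.2 U⟩
    obtain ⟨s, hs⟩ := hK U
    have hmem : ∀ x : s, ∃ a, (x : Γ(Y, U.1)) ∈ (F a).ideal U := fun x =>
      (Submodule.mem_iSup_of_directed _ hdir).mp (hle (hs ▸ Ideal.subset_span x.2))
    choose a ha using hmem
    obtain ⟨b, hb⟩ := hdir.finset_le (Finset.univ.image a)
    refine ⟨b, ?_⟩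
    rw [← hs, Ideal.span_le]
    exact fun x hx => hb (a ⟨x, hx⟩) (Finset.mem_image_of_mem _ (Finset.mem_univ _)) (ha ⟨x, hx⟩)
  choose a ha using hone
  obtain ⟨b, hb⟩ := hF.finset_le (t.image a)
  refine ⟨b, Scheme.IdealSheafData.le_of_iSup_eq_top (fun U : t => U.1) ?_ fun U => ?_⟩
  · refine top_le_iff.mp fun x _ => ?_
    obtain ⟨U, hU, hx⟩ := Set.mem_iUnion₂.mp (ht (Set.mem_univ x))
    exact Opens.mem_iSup.mpr ⟨⟨U, hU⟩, hx⟩
  · exact (ha U.1).trans (hb (a U.1) (Finset.mem_image_of_mem _ U.2) U.1)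

/-- The pullback of an ideal of finite type is of finite type. -/
lemma fg_comap {X Y : Scheme.{u}} {J : Y.IdealSheafData} (hJ : ∀ U, (J.ideal U).FG) (f : X ⟶ Y)
    (U : X.affineOpens) : ((J.comap f).ideal U).FG := by
  have := (lfp_subschemeι_iff J).mpr hJ
  exact (lfp_subschemeι_iff _).mp inferInstance U

/-- An ideal of finite type on a limit descends. -/
theorem exists_fg_descend {I : Type u} [SmallCategory I] [IsCofiltered I] {D : I ⥤ Scheme.{u}}
    {c : Cone D} (hc : IsLimit c) [∀ (i j : I) (f : i ⟶ j), IsAffineHom (D.map f)]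
    [∀ i, CompactSpace (D.obj i)] [∀ i, QuasiSeparatedSpace (D.obj i)] (K : c.pt.IdealSheafData)
    (hK : ∀ U, (K.ideal U).FG) :
    ∃ (i : I) (G : (D.obj i).IdealSheafData), (∀ U, (G.ideal U).FG) ∧ G.comap (c.π.app i) = K := by
  have : CompactSpace c.pt := Scheme.compactSpace_of_isLimit _ _ hc
  let T := Σ i : I, {G : (D.obj i).IdealSheafData //
    (∀ U, (G.ideal U).FG) ∧ G.comap (c.π.app i) ≤ K}
  let F : T → c.pt.IdealSheafData := fun x => x.2.1.comap (c.π.app x.1)
  have : Nonempty T := by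
    obtain ⟨i⟩ := IsCofiltered.nonempty (C := I)
    exact ⟨⟨i, ⊥, fun U => ⟨∅, by simp⟩, by simp⟩⟩
  have hdir : Directed (· ≤ ·) F := by
    rintro ⟨i, G, hG, hGK⟩ ⟨j, H, hH, hHK⟩
    obtain ⟨k, a, b, -⟩ := IsCofilteredOrEmpty.cone_objs i j
    have ea : (G.comap (D.map a)).comap (c.π.app k) = G.comap (c.π.app i) := by
      rw [← Scheme.IdealSheafData.comap_comp]; exact congrArg G.comap (c.w a)
    have eb : (H.comap (D.map b)).comap (c.π.app k) = H.comap (c.π.app j) := by
      rw [← Scheme.IdealSheafData.comap_comp]; exact congrArg H.comap (c.w b)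
    refine ⟨⟨k, G.comap (D.map a) ⊔ H.comap (D.map b), fun U => ?_, ?_⟩, ?_, ?_⟩
    · rw [Scheme.IdealSheafData.ideal_sup]
      exact Submodule.FG.sup (fg_comap hG _ U) (fg_comap hH _ U)
    · rw [Scheme.IdealSheafData.comap_sup, ea, eb]
      exact sup_le hGK hHK
    · show G.comap _ ≤ (G.comap (D.map a) ⊔ H.comap (D.map b)).comap _
      exact (le_of_eq ea.symm).trans (Scheme.IdealSheafData.comap_mono _ le_sup_left)
    · show H.comap _ ≤ (G.comap (D.map a) ⊔ H.comap (D.map b)).comap _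
      exact (le_of_eq eb.symm).trans (Scheme.IdealSheafData.comap_mono _ le_sup_right)
  obtain ⟨⟨i, G, hG, hGK⟩, hle⟩ := exists_le_of_fg hK F hdir (by
    conv_lhs => rw [← iSup_comap_map_eq hc K]
    refine iSup_le fun i => ?_
    obtain ⟨J, _, _, _, F', hF', e⟩ := exists_iSup_fg_eq (K.map (c.π.app i))
    rw [← e, Scheme.IdealSheafData.le_map_iff_comap_le.symm]
    refine iSup_le fun j => Scheme.IdealSheafData.le_map_iff_comap_le.mpr ?_
    exact le_iSup_of_le (⟨i, F' j, hF' j,
      Scheme.IdealSheafData.le_map_iff_comap_le.mp ((le_iSup F' j).trans e.le)⟩ : T) le_rfl)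
  exact ⟨i, G, hG, le_antisymm hGK hle⟩

end Groth.Agent.LimLib
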