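import Groth.Agent.LimLib.Immersion
import Groth.Agent.LimLib.FGIdeal

/-!
# Systems of schemes of finite presentation: eventual properties, finite and integral morphisms
-/

set_option backward.isDefEq.respectTransparency false
set_option backward.defeqAttrib.useBackward true
set_option maxHeartbeats 800000

universe u

open CategoryTheory Limits AlgebraicGeometry TopologicalSpace Opposite

namespace Groth.Agent.LimLib

lemma isLimitForget {I : Type u} [SmallCategory I] [IsCofiltered I] {S : Scheme.{u}}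
    {D : I ⥤ Over S} {c : Cone D} (hc : IsLimit c) :
    Nonempty (IsLimit ((Over.forget S).mapCone c)) :=
  have : IsConnected I := IsCofiltered.isConnected I
  ⟨isLimitOfPreserves _ hc⟩

namespace FPSystem

variable {X S : Scheme.{u}} {f : X ⟶ S} (P : FPSystem f)

/-- The diagram of schemes of a system. -/
abbrev sch : P.Jᵒᵖ ⥤ Scheme.{u} := P.D ⋙ Over.forget S

/-- The structure maps of a system. -/
def str : P.sch ⟶ (Functor.const P.Jᵒᵖ).obj S where
  app j := (P.D.obj j).hom
  naturality i j a := by simp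

instance (i j : P.Jᵒᵖ) (a : i ⟶ j) : IsAffineHom (P.sch.map a) := P.isAffineHom a
instance (i : P.Jᵒᵖ) : CompactSpace (P.sch.obj i) := P.compactSpace i
instance (i : P.Jᵒᵖ) : QuasiSeparatedSpace (P.sch.obj i) := P.quasiSeparatedSpace i
instance (i : P.Jᵒᵖ) : LocallyOfFiniteType (P.str.app i) :=
  inferInstanceAs (LocallyOfFiniteType (P.D.obj i).hom)

/-- The limit cone of schemes. -/
abbrev cone : Cone P.sch := (Over.forget S).mapCone (Cone.mk (Over.mk f) P.π)

lemma isLimit_cone : Nonempty (IsLimit P.cone) := isLimitForget P.isLimit.some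

lemma π_str (i : P.Jᵒᵖ) : P.cone.π.app i ≫ P.str.app i = f := Over.w (P.π.app i)

lemma isAffineHom_π (i : P.Jᵒᵖ) : IsAffineHom (P.π.app i).left :=
  isAffineHom_π_app P.sch P.cone P.isLimit_cone.some i

lemma eventually_isSeparated [CompactSpace S] [QuasiSeparatedSpace S] [IsSeparated f] :
    ∃ i₁ : P.Jᵒᵖ, ∀ (i : P.Jᵒᵖ) (_ : i ⟶ i₁), IsSeparated (P.D.obj i).hom := by
  obtain ⟨i₀⟩ : Nonempty P.Jᵒᵖ := ⟨op (Classical.arbitrary _)⟩
  have : IsSeparated (P.cone.π.app i₀ ≫ P.str.app i₀) := by rw [π_str]; infer_instance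
  exact LimLib.eventually_isSeparated P.str P.isLimit_cone.some i₀

lemma eventually_isAffineHom [CompactSpace S] [QuasiSeparatedSpace S] [IsAffineHom f] :
    ∃ i₁ : P.Jᵒᵖ, ∀ (i : P.Jᵒᵖ) (_ : i ⟶ i₁), IsAffineHom (P.D.obj i).hom := by
  obtain ⟨i₀⟩ : Nonempty P.Jᵒᵖ := ⟨op (Classical.arbitrary _)⟩
  have : IsAffineHom (P.cone.π.app i₀ ≫ P.str.app i₀) := by rw [π_str]; infer_instance
  exact LimLib.eventually_isAffineHom P.str P.isLimit_cone.some i₀

lemma eventually_isFinite [CompactSpace S] [QuasiSeparatedSpace S] [IsIntegralHom f]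
    (h : ∀ {i j : P.Jᵒᵖ} (a : i ⟶ j), IsClosedImmersion (P.D.map a).left) :
    ∃ i₁ : P.Jᵒᵖ, ∀ (i : P.Jᵒᵖ) (_ : i ⟶ i₁), IsFinite (P.D.obj i).hom := by
  obtain ⟨i₀⟩ : Nonempty P.Jᵒᵖ := ⟨op (Classical.arbitrary _)⟩
  have : IsIntegralHom (P.cone.π.app i₀ ≫ P.str.app i₀) := by rw [π_str]; infer_instance
  exact LimLib.eventually_isFinite P.str P.isLimit_cone.some
    (fun i j a => by
      have : IsClosedImmersion (P.sch.map a) := h a
      infer_instance) i₀

end FPSystem

/-- A limit of affine morphisms along affine maps is affine. -/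
lemma isAffineHom_of_isLimit {X Y : Scheme.{u}} (f : Y ⟶ X) {I : Type u} [SmallCategory I]
    [IsFiltered I] (D : Iᵒᵖ ⥤ Over X) (c : Cone D) (hc : IsLimit c)
    (hD : ∀ i, IsAffineHom (D.obj i).hom) (e : c.pt ≅ Over.mk f) : IsAffineHom f := by
  have (i j : Iᵒᵖ) (a : i ⟶ j) : IsAffineHom ((D ⋙ Over.forget X).map a) := by
    have := hD i
    have := hD j
    have : IsAffineHom ((D.map a).left ≫ (D.obj j).hom) := by rw [Over.w]; infer_instance
    exact IsAffineHom.of_comp (D.map a).left (D.obj j).hom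
  obtain ⟨i⟩ := IsCofiltered.nonempty (C := Iᵒᵖ)
  have : IsAffineHom (c.π.app i).left :=
    isAffineHom_π_app (D ⋙ Over.forget X) _ (isLimitForget hc).some i
  have := hD i
  have hf : f = e.inv.left ≫ (c.π.app i).left ≫ (D.obj i).hom := by
    rw [Over.w (c.π.app i)]; exact (Over.w e.inv).symm
  have : IsIso e.inv.left := inferInstanceAs (IsIso ((Over.forget X).map e.inv))
  rw [hf]
  infer_instance

/-- A cone mapping by monomorphisms to a limit cone is limiting. -/
lemma nonempty_isLimit_of_mono {J C : Type*} [Category J] [Category C] {D D' : J ⥤ C} (ε : D' ⟶ D)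
    [∀ j, Mono (ε.app j)] (c : Cone D') (hc : IsLimit ((Cone.postcompose ε).obj c)) :
    Nonempty (IsLimit c) := by
  refine ⟨IsLimit.ofExistsUnique fun T => ⟨hc.lift ((Cone.postcompose ε).obj T), fun j => ?_,
    fun m hm => ?_⟩⟩
  · rw [← cancel_mono (ε.app j), Category.assoc]
    exact hc.fac ((Cone.postcompose ε).obj T) j
  · refine hc.uniq ((Cone.postcompose ε).obj T) m fun j => ?_
    show m ≫ c.π.app j ≫ ε.app j = T.π.app j ≫ ε.app j
    rw [← Category.assoc, hm j]

/-- The scheme theoretic image of an integral scheme in an affine scheme of finite type is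
finite. -/
lemma isFinite_ker_subschemeι_comp {X Z S : Scheme.{u}} (p : X ⟶ Z) [QuasiCompact p] (h : Z ⟶ S)
    [IsAffineHom h] [LocallyOfFiniteType h] [IsIntegralHom (p ≫ h)] :
    IsFinite (p.ker.subschemeι ≫ h) := by
  refine (IsFinite.iff_isIntegralHom_and_locallyOfFiniteType _).mpr ⟨?_, inferInstance⟩
  refine { toIsAffineHom := inferInstance, isIntegral_app := fun U hU => ?_ }
  have hW : IsAffineOpen (h ⁻¹ᵁ U) := hU.preimage h
  have e : p.toImage ≫ p.imageι ≫ h = p ≫ h := by rw [Scheme.Hom.toImage_imageι_assoc]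
  have hinj := p.toImage_app_injective ⟨_, hW⟩
  refine RingHom.IsIntegral.tower_bot _ (p.toImage.app ((p.imageι ≫ h) ⁻¹ᵁ U)).hom hinj ?_
  rw [← CommRingCat.hom_comp, ← Scheme.Hom.comp_app]
  exact Scheme.Hom.congr_app e U ▸ ((CommRingCat.hom_comp _ _).symm ▸ RingHom.IsIntegral.trans _ _
    ((p ≫ h).isIntegral_app U hU) (RingHom.isIntegral_of_surjective _
      ((ConcreteCategory.bijective_of_isIso _).2)))

namespace FPSystem

variable {X S : Scheme.{u}} {f : X ⟶ S} (P : FPSystem f)

/-- An index of the finite system: a member and a finitely generated ideal cutting out a finite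
scheme containing `X`. -/
structure FiniteIdx : Type u where
  /-- the member -/
  i : P.J
  /-- the ideal -/
  G : (P.D.obj (op i)).left.IdealSheafData
  fg : ∀ U, (G.ideal U).FG
  le_ker : G ≤ (P.π.app (op i)).left.ker
  finite : IsFinite (G.subschemeι ≫ (P.D.obj (op i)).hom)

namespace FiniteIdx

variable {P}

instance : Preorder (FiniteIdx P) where
  le a b := ∃ h : a.i ≤ b.i, a.G ≤ b.G.map (P.D.map (homOfLE h).op).left
  le_refl a := ⟨le_rfl, le_of_eq (by
    rw [show (homOfLE (le_refl a.i)).op = 𝟙 (op a.i) from rfl, P.D.map_id, Over.id_left,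
      Scheme.IdealSheafData.map_id])⟩
  le_trans a b c := fun ⟨h, hab⟩ ⟨h', hbc⟩ => ⟨h.trans h', by
    rw [show (homOfLE (h.trans h')).op = (homOfLE h').op ≫ (homOfLE h).op from rfl, P.D.map_comp,
      Over.comp_left, Scheme.IdealSheafData.map_comp]
    exact hab.trans (Scheme.IdealSheafData.map_mono _ hbc)⟩

lemma exists_ge [CompactSpace S] [QuasiSeparatedSpace S] [IsIntegralHom f] (i : P.J)
    (G : (P.D.obj (op i)).left.IdealSheafData) (hG : ∀ U, (G.ideal U).FG)
    (hle : G ≤ (P.π.app (op i)).left.ker) (i' : P.J)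
    (G' : (P.D.obj (op i')).left.IdealSheafData) (hG' : ∀ U, (G'.ideal U).FG)
    (hle' : G' ≤ (P.π.app (op i')).left.ker) :
    ∃ (b : FiniteIdx P) (h : i ≤ b.i) (h' : i' ≤ b.i),
      G ≤ b.G.map (P.D.map (homOfLE h).op).left ∧ G' ≤ b.G.map (P.D.map (homOfLE h').op).left := by
  obtain ⟨i₁, hi₁⟩ := P.eventually_isAffineHom
  obtain ⟨k₀, h, h'⟩ := exists_ge_ge i i'
  obtain ⟨k, hk₀, hk₁⟩ := exists_ge_ge k₀ i₁.unop
  have : IsAffineHom (P.D.obj (op k)).hom := hi₁ _ (homOfLE hk₁).op
  let p := (P.π.app (op k)).left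
  have : IsAffineHom p := P.isAffineHom_π _
  have hker {l : P.J} (e : l ≤ k) :
      (P.π.app (op l)).left.ker = p.ker.map (P.D.map (homOfLE e).op).left := by
    rw [Scheme.IdealSheafData.map_ker]
    congr 1
    exact (congrArg CommaMorphism.left ((Cone.mk (Over.mk f) P.π).w (homOfLE e).op)).symm
  -- a system of finitely generated ideals with union `ker p`
  obtain ⟨J, _, _, _, F, hF, hK⟩ := exists_iSup_fg_eq p.ker
  have : IsIntegralHom (p ≫ (P.D.obj (op k)).hom) := by
    rw [show p ≫ (P.D.obj (op k)).hom = f from Over.w (P.π.app (op k))]; infer_instance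
  have hfin := isFinite_ker_subschemeι_comp p (P.D.obj (op k)).hom
  have (j : J) : CompactSpace (F j).subscheme :=
    QuasiCompact.compactSpace_of_compactSpace (F j).subschemeι
  have (j : J) : QuasiSeparatedSpace (F j).subscheme :=
    quasiSeparatedSpace_of_quasiSeparated (F j).subschemeι
  have (j : Jᵒᵖ) : CompactSpace ((idealDiagram F ⋙ Over.forget _).obj j) :=
    inferInstanceAs (CompactSpace (F j.unop).subscheme)
  have (j : Jᵒᵖ) : QuasiSeparatedSpace ((idealDiagram F ⋙ Over.forget _).obj j) :=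
    inferInstanceAs (QuasiSeparatedSpace (F j.unop).subscheme)
  have hcl (j j' : Jᵒᵖ) (a : j ⟶ j') :
      IsClosedImmersion ((idealDiagram F ⋙ Over.forget _).map a) :=
    (inferInstance : IsClosedImmersion ((idealDiagram F).map a).left)
  let t : idealDiagram F ⋙ Over.forget _ ⟶ (Functor.const Jᵒᵖ).obj S :=
    { app := fun j => (F j.unop).subschemeι ≫ (P.D.obj (op k)).hom
      naturality := fun j j' a => by
        show ((idealDiagram F).map a).left ≫ (F j'.unop).subschemeι ≫ _ = _
        rw [← Category.assoc]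
        refine (congrArg (· ≫ _) (Over.w ((idealDiagram F).map a))).trans ?_
        simp [idealDiagram] }
  have hK' : ⨆ j, F j = p.ker.subschemeι.ker := by rw [Scheme.IdealSheafData.ker_subschemeι, hK]
  obtain ⟨j₀⟩ : Nonempty Jᵒᵖ := ⟨op (Classical.arbitrary J)⟩
  have : IsIntegralHom
      (((Over.forget _).mapCone (idealCone F p.ker.subschemeι hK')).π.app j₀ ≫ t.app j₀) := by
    show IsIntegralHom (((idealCone F p.ker.subschemeι hK').π.app j₀).left ≫
      (F j₀.unop).subschemeι ≫ _)
    rw [← Category.assoc]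
    have e : ((idealCone F p.ker.subschemeι hK').π.app j₀).left ≫ (F j₀.unop).subschemeι =
        p.ker.subschemeι := Over.w ((idealCone F p.ker.subschemeι hK').π.app j₀)
    rw [e]; infer_instance
  have : LocallyOfFiniteType (t.app j₀) :=
    inferInstanceAs (LocallyOfFiniteType ((F j₀.unop).subschemeι ≫ _))
  obtain ⟨j₁, hj₁⟩ := LimLib.eventually_isFinite t
    (isLimitForget (isLimitIdealCone F p.ker.subschemeι hK')).some
    (fun j j' a => by have := hcl j j' a; infer_instance) j₀
  -- the two given ideals and `F j₁` are below one member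
  have hdir : Directed (· ≤ ·) F := F.mono.directed_le
  obtain ⟨m, hm⟩ := exists_le_of_fg (fg_comap hG (P.D.map (homOfLE (h.trans hk₀)).op).left) F hdir
    (hK ▸ Scheme.IdealSheafData.le_map_iff_comap_le.mp (hker (h.trans hk₀) ▸ hle))
  obtain ⟨m', hm'⟩ := exists_le_of_fg
    (fg_comap hG' (P.D.map (homOfLE (h'.trans hk₀)).op).left) F hdir
    (hK ▸ Scheme.IdealSheafData.le_map_iff_comap_le.mp (hker (h'.trans hk₀) ▸ hle'))
  obtain ⟨n₀, hn, hn'⟩ := exists_ge_ge m m'
  obtain ⟨n, hn₀, hn₁⟩ := exists_ge_ge n₀ j₁.unop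
  refine ⟨⟨k, F n, hF n, hK ▸ le_iSup F n, hj₁ (op n) (homOfLE hn₁).op⟩, h.trans hk₀, h'.trans hk₀,
    ?_, ?_⟩
  · exact Scheme.IdealSheafData.le_map_iff_comap_le.mpr (hm.trans (F.mono (hn.trans hn₀)))
  · exact Scheme.IdealSheafData.le_map_iff_comap_le.mpr (hm'.trans (F.mono (hn'.trans hn₀)))

/-- The zero ideal is finitely generated. -/
lemma fg_bot {Z : Scheme.{u}} (U : Z.affineOpens) :
    ((⊥ : Z.IdealSheafData).ideal U).FG := by
  rw [Scheme.IdealSheafData.ideal_bot]; exact Submodule.fg_bot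

variable [CompactSpace S] [QuasiSeparatedSpace S] [IsIntegralHom f]

instance : IsDirectedOrder (FiniteIdx P) := ⟨fun a a' => by
  obtain ⟨b, h, h', e, e'⟩ := exists_ge a.i a.G a.fg a.le_ker a'.i a'.G a'.fg a'.le_ker
  exact ⟨b, ⟨h, e⟩, ⟨h', e'⟩⟩⟩

instance : Nonempty (FiniteIdx P) := by
  obtain ⟨i⟩ := P.ne
  obtain ⟨b, -⟩ := exists_ge i ⊥ fg_bot bot_le i ⊥ fg_bot bot_le
  exact ⟨b⟩

end FiniteIdx

end FPSystem

open FPSystem in
/-- Integral morphisms are limits of finite morphisms of finite presentation. -/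
theorem exists_finiteSystem {X S : Scheme.{u}} (f : X ⟶ S) [IsIntegralHom f] [CompactSpace S]
    [QuasiSeparatedSpace S] :
    ∃ (I : Type u) (_ : Preorder I) (_ : IsDirectedOrder I) (_ : Nonempty I) (D : Iᵒᵖ ⥤ Over S)
      (c : Cone D) (_ : IsLimit c), (∀ i, IsFinite (D.obj i).hom ∧
        LocallyOfFinitePresentation (D.obj i).hom) ∧ Nonempty (c.pt ≅ Over.mk f) := by
  have : CompactSpace X := QuasiCompact.compactSpace_of_compactSpace f
  have : QuasiSeparatedSpace X := quasiSeparatedSpace_of_quasiSeparated f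
  obtain ⟨P⟩ := nonempty_fpSystem f
  let σ : FiniteIdx P →o P.J := ⟨fun a => a.i, fun _ _ h => h.fst⟩
  have : σ.monotone.functor.Final := Functor.final_of_exists_of_isFiltered _
    (fun i => by
      obtain ⟨b, h, -⟩ := FiniteIdx.exists_ge i ⊥ FiniteIdx.fg_bot bot_le i ⊥ FiniteIdx.fg_bot
        bot_le
      exact ⟨b, ⟨homOfLE h⟩⟩)
    (fun _ _ => ⟨_, 𝟙 _, Subsingleton.elim _ _⟩)
  have hle {a b : (FiniteIdx P)ᵒᵖ} (φ : a ⟶ b) :
      b.unop.G.subschemeι.ker ≤
        (a.unop.G.subschemeι ≫ (P.D.map (σ.monotone.functor.op.map φ)).left).ker := by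
    rw [Scheme.IdealSheafData.ker_subschemeι, ← Scheme.IdealSheafData.map_ker,
      Scheme.IdealSheafData.ker_subschemeι]
    exact φ.unop.le.snd
  let D : (FiniteIdx P)ᵒᵖ ⥤ Over S :=
    { obj := fun a => Over.mk (a.unop.G.subschemeι ≫ (P.D.obj (op a.unop.i)).hom)
      map := fun {a b} φ => Over.homMk (IsClosedImmersion.lift _ _ (hle φ)) (by
        show IsClosedImmersion.lift _ _ _ ≫ b.unop.G.subschemeι ≫ _ = _
        rw [IsClosedImmersion.lift_fac_assoc, Category.assoc]
        exact congrArg _ (Over.w (P.D.map (σ.monotone.functor.op.map φ))))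
      map_id := fun a => by
        ext1
        rw [← cancel_mono a.unop.G.subschemeι]
        simp
        exact Category.comp_id _
      map_comp := fun {a b c} φ ψ => by
        ext1
        rw [← cancel_mono c.unop.G.subschemeι]
        simp }
  let ε : D ⟶ σ.monotone.functor.op ⋙ P.D :=
    { app := fun a => Over.homMk a.unop.G.subschemeι rfl
      naturality := fun a b φ => by
        ext1
        exact IsClosedImmersion.lift_fac _ _ _ }
  have (a : (FiniteIdx P)ᵒᵖ) : Mono (ε.app a) := by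
    have : Mono (ε.app a).left := inferInstanceAs (Mono a.unop.G.subschemeι)
    exact (Over.forget S).mono_of_mono_map this
  have hle' (a : (FiniteIdx P)ᵒᵖ) :
      a.unop.G.subschemeι.ker ≤ (P.π.app (op a.unop.i)).left.ker := by
    rw [Scheme.IdealSheafData.ker_subschemeι]; exact a.unop.le_ker
  let c : Cone D :=
    { pt := Over.mk f
      π :=
        { app := fun a => Over.homMk (IsClosedImmersion.lift _ _ (hle' a)) (by
            show IsClosedImmersion.lift _ _ _ ≫ a.unop.G.subschemeι ≫ _ = f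
            rw [IsClosedImmersion.lift_fac_assoc]
            exact Over.w (P.π.app (op a.unop.i)))
          naturality := fun a b φ => by
            rw [← cancel_mono (ε.app b), Category.assoc, Category.assoc, ε.naturality]
            ext1
            simp only [Over.comp_left, Functor.comp_map]
            show 𝟙 X ≫ IsClosedImmersion.lift _ _ _ ≫ _ = IsClosedImmersion.lift _ _ _ ≫ _ ≫ _
            dsimp only [ε, Over.homMk_left]
            rw [IsClosedImmersion.lift_fac, IsClosedImmersion.lift_fac_assoc, Category.id_comp]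
            exact (congrArg CommaMorphism.left ((Cone.mk (Over.mk f) P.π).w _)).symm } }
  have hc : IsLimit ((Cone.postcompose ε).obj c) :=
    IsLimit.ofIsoLimit ((Functor.Initial.isLimitWhiskerEquiv σ.monotone.functor.op _).symm
      P.isLimit.some) (Cone.ext (Iso.refl _) fun a => by
        ext1
        simp [c, ε, σ])
  refine ⟨FiniteIdx P, inferInstance, inferInstance, inferInstance, D, c,
    (nonempty_isLimit_of_mono ε c hc).some, fun a => ⟨a.unop.finite, ?_⟩, ⟨Iso.refl _⟩⟩
  have := (lfp_subschemeι_iff _).mpr a.unop.fg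
  exact inferInstanceAs (LocallyOfFinitePresentation (a.unop.G.subschemeι ≫ _))

end Groth.Agent.LimLib
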