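import Groth.Agent.LimLib.Smooth

/-!
# Properties of the structure maps of a limit of schemes over a base hold eventually
-/

set_option backward.isDefEq.respectTransparency false
set_option backward.defeqAttrib.useBackward true

universe u

open CategoryTheory Limits AlgebraicGeometry

namespace Groth.Agent.LimLib

lemma isPullback_bcDiag_map {I : Type u} [SmallCategory I] (D : I ⥤ Scheme.{u}) (i₀ : I)
    {Y₀ : Scheme.{u}} (g₀ : Y₀ ⟶ D.obj i₀) {j k : Over i₀} (a : j ⟶ k) :
    IsPullback ((bcDiag D i₀ g₀).map a) (pullback.snd g₀ (D.map j.hom))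
      (pullback.snd g₀ (D.map k.hom)) (D.map a.left) := by
  apply IsPullback.of_right (h₁₂ := pullback.fst g₀ (D.map k.hom)) (v₁₃ := g₀)
    (h₂₂ := D.map k.hom) ?_ (by simp) (IsPullback.of_hasPullback _ _)
  simpa [← D.map_comp] using IsPullback.of_hasPullback g₀ (D.map j.hom)

instance const_isAffine {I : Type u} [SmallCategory I] {S : Scheme.{u}} [IsAffine S] (i : I) :
    IsAffine (((Functor.const I).obj S).obj i) := ‹IsAffine S›

instance const_quasiSeparatedSpace {I : Type u} [SmallCategory I] {S : Scheme.{u}}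
    [QuasiSeparatedSpace S] (i : I) : QuasiSeparatedSpace (((Functor.const I).obj S).obj i) :=
  ‹QuasiSeparatedSpace S›

instance const_compactSpace {I : Type u} [SmallCategory I] {S : Scheme.{u}}
    [CompactSpace S] (i : I) : CompactSpace (((Functor.const I).obj S).obj i) :=
  ‹CompactSpace S›

section

variable {I : Type u} [SmallCategory I] [IsCofiltered I] {S : Scheme.{u}} {D : I ⥤ Scheme.{u}}
  (t : D ⟶ (Functor.const I).obj S) {c : Cone D} (hc : IsLimit c)
  [∀ (i j : I) (a : i ⟶ j), IsAffineHom (D.map a)]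
  [∀ i, CompactSpace (D.obj i)] [∀ i, QuasiSeparatedSpace (D.obj i)]

omit [IsCofiltered I] [∀ (i j : I) (a : i ⟶ j), IsAffineHom (D.map a)]
  [∀ i, CompactSpace (D.obj i)] [∀ i, QuasiSeparatedSpace (D.obj i)] in
lemma map_comp_app {i j : I} (a : i ⟶ j) : D.map a ≫ t.app j = t.app i := by simp

omit [IsCofiltered I] [∀ (i j : I) (a : i ⟶ j), IsAffineHom (D.map a)]
  [∀ i, CompactSpace (D.obj i)] [∀ i, QuasiSeparatedSpace (D.obj i)] in
lemma π_comp_app_eq {i j : I} (a : i ⟶ j) :
    c.π.app i ≫ t.app i = c.π.app j ≫ t.app j := by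
  rw [← c.w a, Category.assoc, map_comp_app t]

include hc in
/-- If the preimage in the limit of an affine open of the base is affine, then so is the preimage at
some stage. -/
lemma exists_isAffineOpen_app_preimage [QuasiSeparatedSpace S] (i₀ : I) {U : S.Opens}
    (hU : IsAffineOpen U) (h : IsAffineOpen ((c.π.app i₀ ≫ t.app i₀) ⁻¹ᵁ U)) :
    ∃ (k : I) (_ : k ⟶ i₀), IsAffineOpen (t.app k ⁻¹ᵁ U) := by
  have e (j : Over i₀) : D.map j.hom ⁻¹ᵁ (t.app i₀ ⁻¹ᵁ U) = t.app j.left ⁻¹ᵁ U := by
    rw [← Scheme.Hom.comp_preimage, map_comp_app t]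
  have (j : Over i₀) : CompactSpace ((opensDiagram D i₀ (t.app i₀ ⁻¹ᵁ U)).obj j) := by
    refine isCompact_iff_compactSpace.mp ?_
    rw [e]
    exact QuasiCompact.isCompact_preimage (f := t.app j.left) _ U.2 hU.isCompact
  have (j : Over i₀) : QuasiSeparatedSpace ((opensDiagram D i₀ (t.app i₀ ⁻¹ᵁ U)).obj j) :=
    quasiSeparatedSpace_of_quasiSeparated (D.map j.hom ⁻¹ᵁ (t.app i₀ ⁻¹ᵁ U)).ι
  have : IsAffine (opensCone D c i₀ (t.app i₀ ⁻¹ᵁ U)).pt := h
  obtain ⟨j, hj⟩ := Scheme.exists_isAffine_of_isLimit _ _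
    (isLimitOpensCone D c hc i₀ (t.app i₀ ⁻¹ᵁ U))
  exact ⟨j.left, j.hom, e j ▸ hj⟩

include hc in
/-- If the limit is affine over `S`, then so are the members from some index on. -/
lemma eventually_isAffineHom [CompactSpace S] [QuasiSeparatedSpace S] (i₀ : I)
    [IsAffineHom (c.π.app i₀ ≫ t.app i₀)] :
    ∃ i₁, ∀ (i : I) (_ : i ⟶ i₁), IsAffineHom (t.app i) := by
  let 𝒰 := S.affineCover.finiteSubcover
  have hU (a : 𝒰.I₀) : IsAffineOpen (𝒰.f a).opensRange := by
    have : IsAffine (𝒰.X a) := inferInstanceAs (IsAffine (Spec _))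
    exact isAffineOpen_opensRange _
  choose k b hk using fun a => exists_isAffineOpen_app_preimage t hc i₀ (hU a) ((hU a).preimage _)
  obtain ⟨l, φ, ψ, hψ⟩ := IsCofiltered.wideCospan b
  refine ⟨l, fun i ai => isAffineHom_of_forall_exists_isAffineOpen _ fun x =>
    ⟨(𝒰.f (𝒰.idx x)).opensRange, 𝒰.covers x, hU _, ?_⟩⟩
  rw [← map_comp_app t (ai ≫ ψ _), Scheme.Hom.comp_preimage]
  exact (hk _).preimage _

end

section affine

variable {I : Type u} [SmallCategory I] [IsCofiltered I] {S : Scheme.{u}} [IsAffine S]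
  {D : I ⥤ Scheme.{u}} [∀ i, IsAffine (D.obj i)] (t : D ⟶ (Functor.const I).obj S)
  {c : Cone D} (hc : IsLimit c)

include hc in
lemma eventually_surjective_appTop [∀ (i j : I) (a : i ⟶ j), IsClosedImmersion (D.map a)] (i : I)
    [LocallyOfFiniteType (t.app i)]
    (h : Function.Surjective (c.π.app i ≫ t.app i).appTop) :
    ∃ (k : I) (_ : k ⟶ i), Function.Surjective (t.app k).appTop := by
  obtain ⟨s, hs⟩ := exists_finset_closure_of_finiteType (t.app i).appTop.hom
    (HasRingHomProperty.appTop (P := @LocallyOfFiniteType) (t.app i) inferInstance)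
  choose y hy using fun x : s => h ((c.π.app i).appTop x.1)
  obtain ⟨k, φ, hk⟩ := exists_vanish hc i (fun x : s => (t.app i).appTop (y x) - x.1) fun x => by
    rw [map_sub, sub_eq_zero, appTop_apply]
    exact hy x
  refine ⟨k, φ, RingHom.range_eq_top.mp (top_le_iff.mp ?_)⟩
  have hsurj := (IsClosedImmersion.isAffine_surjective_of_isAffine (D.map φ)).2
  intro z _
  obtain ⟨w, rfl⟩ := hsurj z
  have : Subring.closure (Set.range (t.app i).appTop.hom ∪ s) ≤
      (t.app k).appTop.hom.range.comap (D.map φ).appTop.hom := by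
    rw [Subring.closure_le]
    rintro _ (⟨v, rfl⟩ | hx)
    · exact ⟨v, by rw [← map_comp_app t φ]; exact (appTop_apply _ _ _).symm⟩
    · refine ⟨y ⟨_, hx⟩, ?_⟩
      have e := hk ⟨_, hx⟩
      rw [map_sub, sub_eq_zero, appTop_apply, map_comp_app t φ] at e
      exact e
  exact this (hs ▸ Subring.mem_top w)

include hc in
lemma eventually_isIntegral_appTop [∀ (i j : I) (a : i ⟶ j), IsFinite (D.map a)] (i : I)
    [LocallyOfFiniteType (t.app i)]
    (h : (c.π.app i ≫ t.app i).appTop.hom.IsIntegral) :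
    ∃ (k : I) (_ : k ⟶ i), (t.app k).appTop.hom.IsIntegral := by
  obtain ⟨s, hs⟩ := exists_finset_closure_of_finiteType (t.app i).appTop.hom
    (HasRingHomProperty.appTop (P := @LocallyOfFiniteType) (t.app i) inferInstance)
  choose p hpm hp using fun x : s => h ((c.π.app i).appTop x.1)
  have key {A : Scheme.{u}} (a : A ⟶ D.obj i) (r : Polynomial Γ(S, ⊤)) (z : Γ(D.obj i, ⊤)) :
      a.appTop (r.eval₂ (t.app i).appTop.hom z) = r.eval₂ (a ≫ t.app i).appTop.hom (a.appTop z) :=
    (Polynomial.hom_eval₂ r _ a.appTop.hom _).trans (by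
      rw [← CommRingCat.hom_comp, ← Scheme.Hom.comp_appTop])
  obtain ⟨k, φ, hk⟩ := exists_vanish hc i (fun x : s => (p x).eval₂ (t.app i).appTop.hom x.1)
    fun x => by rw [key]; exact hp x
  refine ⟨k, φ, fun z => ?_⟩
  let _ : Algebra Γ(S, ⊤) Γ(D.obj k, ⊤) := (t.app k).appTop.hom.toAlgebra
  let T := integralClosure Γ(S, ⊤) Γ(D.obj k, ⊤)
  have hT : Subring.closure (Set.range (t.app i).appTop.hom ∪ s) ≤
      T.toSubring.comap (D.map φ).appTop.hom := by
    rw [Subring.closure_le]
    rintro _ (⟨v, rfl⟩ | hx)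
    · show IsIntegral _ _
      have e := appTop_apply (D.map φ) (t.app i) v
      rw [map_comp_app t φ] at e
      exact e.symm ▸ isIntegral_algebraMap
    · refine ⟨p ⟨_, hx⟩, hpm _, ?_⟩
      have e := hk ⟨_, hx⟩
      rw [key, map_comp_app t φ] at e
      exact e
  obtain ⟨q, hqm, hq⟩ := (D.map φ).finite_appTop.to_isIntegral z
  let m : Γ(D.obj i, ⊤) →+* T :=
    (D.map φ).appTop.hom.codRestrict T fun w => hT (hs ▸ Subring.mem_top w)
  have : Algebra.IsIntegral Γ(S, ⊤) T :=
    IsIntegralClosure.isIntegral_algebra _ Γ(D.obj k, ⊤)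
  refine isIntegral_trans (R := Γ(S, ⊤)) (A := T) z ⟨q.map m, hqm.map _, ?_⟩
  rw [Polynomial.eval₂_map]
  exact hq

end affine

section restrict

variable {I : Type u} [SmallCategory I] [IsCofiltered I] {S : Scheme.{u}} {D : I ⥤ Scheme.{u}}
  (t : D ⟶ (Functor.const I).obj S) {c : Cone D} (hc : IsLimit c)
  [∀ (i j : I) (a : i ⟶ j), IsAffineHom (D.map a)]
  [∀ i, CompactSpace (D.obj i)] [∀ i, QuasiSeparatedSpace (D.obj i)]
  [CompactSpace S] [QuasiSeparatedSpace S]

set_option maxHeartbeats 400000 in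
include hc in
/-- Reduction of an eventual property of the structure maps to the affine case. -/
lemma eventually_of_affine {P R : MorphismProperty Scheme.{u}} [R.IsStableUnderBaseChange]
    [IsZariskiLocalAtTarget P] (hPA : P ≤ @IsAffineHom)
    (htr : ∀ (i j : I) (a : i ⟶ j), R (D.map a))
    (hRP : ∀ {U V W : Scheme.{u}} (a : U ⟶ V) (b : V ⟶ W), R a → P b → P (a ≫ b))
    (i₀ : I) (hP : P (c.π.app i₀ ≫ t.app i₀)) [LocallyOfFiniteType (t.app i₀)]
    (hlft : ∀ (i j : I) (a : i ⟶ j), LocallyOfFiniteType (D.map a))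
    (h : ∀ {J : Type u} [SmallCategory J] [IsCofiltered J] (V : Scheme.{u}) [IsAffine V]
      (E : J ⥤ Scheme.{u}) [∀ j, IsAffine (E.obj j)] (s : E ⟶ (Functor.const J).obj V)
      (e : Cone E) (_ : IsLimit e) (_ : ∀ (i j : J) (a : i ⟶ j), R (E.map a)) (j₀ : J),
      LocallyOfFiniteType (s.app j₀) → P (e.π.app j₀ ≫ s.app j₀) →
      ∃ (j : J) (_ : j ⟶ j₀), P (s.app j)) :
    ∃ i₁, ∀ (i : I) (_ : i ⟶ i₁), P (t.app i) := by
  have : IsAffineHom (c.π.app i₀ ≫ t.app i₀) := hPA _ hP
  obtain ⟨i₁, hi₁⟩ := eventually_isAffineHom t hc i₀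
  obtain ⟨i₂, a₁, a₀, -⟩ := IsCofilteredOrEmpty.cone_objs i₁ i₀
  have := hi₁ i₂ a₁
  have : LocallyOfFiniteType (t.app i₂) := by
    have := hlft _ _ a₀
    rw [← map_comp_app t a₀]
    infer_instance
  let 𝒰 := S.affineCover.finiteSubcover
  have hU (a : 𝒰.I₀) : IsAffineOpen (𝒰.f a).opensRange := by
    have : IsAffine (𝒰.X a) := inferInstanceAs (IsAffine (Spec _))
    exact isAffineOpen_opensRange _
  have key (a : 𝒰.I₀) :
      ∃ (k : I) (_ : k ⟶ i₂), P (t.app k ∣_ (𝒰.f a).opensRange) := by
    set U := (𝒰.f a).opensRange with hUdef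
    have : IsAffine (U : Scheme.{u}) := hU a
    let g₀ := (t.app i₂ ⁻¹ᵁ U).ι
    have : IsAffine ((t.app i₂ ⁻¹ᵁ U : (D.obj i₂).Opens) : Scheme.{u}) := (hU a).preimage (t.app i₂)
    let s : bcDiag D i₂ g₀ ⟶ (Functor.const (Over i₂)).obj (U : Scheme.{u}) :=
      { app := fun j => pullback.fst g₀ (D.map j.hom) ≫ (t.app i₂ ∣_ U)
        naturality := fun j k b => by simp }
    have hY := IsPullback.of_hasPullback g₀ (c.π.app i₂)
    have hs (j : Over i₂) :
        IsPullback (pullback.snd g₀ (D.map j.hom)) (s.app j) (t.app j.left) U.ι := by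
      rw [← map_comp_app t j.hom]
      exact (IsPullback.of_hasPullback g₀ (D.map j.hom)).flip.paste_vert
        (isPullback_morphismRestrict (t.app i₂) U).flip
    have e₀ : IsPullback (pullback.snd g₀ (c.π.app i₂))
        (pullback.fst g₀ (c.π.app i₂) ≫ (t.app i₂ ∣_ U)) (c.π.app i₀ ≫ t.app i₀) U.ι := by
      rw [← π_comp_app_eq t a₀]
      exact (IsPullback.of_hasPullback g₀ (c.π.app i₂)).flip.paste_vert
        (isPullback_morphismRestrict (t.app i₂) U).flip
    have hsk : LocallyOfFiniteType (s.app (Over.mk (𝟙 i₂))) :=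
      MorphismProperty.of_isPullback (P := @LocallyOfFiniteType) (hs _) ‹LocallyOfFiniteType (t.app i₂)›
    obtain ⟨j, b, hj⟩ := h U (bcDiag D i₂ g₀) s (bcCone hY) (isLimitBcCone hc hY)
      (fun i j a => R.of_isPullback (isPullback_bcDiag_map D i₂ g₀ a).flip (htr _ _ _))
      (Over.mk (𝟙 i₂)) hsk (by
        have : (bcCone hY).π.app (Over.mk (𝟙 i₂)) ≫ s.app (Over.mk (𝟙 i₂)) =
            pullback.fst g₀ (c.π.app i₂) ≫ (t.app i₂ ∣_ U) := by simp [s]
        rw [this, ← e₀.isoIsPullback_hom_snd _ _ (isPullback_morphismRestrict _ U).flip,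
          P.cancel_left_of_respectsIso]
        exact IsZariskiLocalAtTarget.restrict hP _)
    refine ⟨j.left, j.hom, ?_⟩
    rw [← (isPullback_morphismRestrict (t.app j.left) U).flip.isoIsPullback_hom_snd _ _ (hs j),
      P.cancel_left_of_respectsIso]
    exact hj
  choose k b hk using key
  obtain ⟨l, φ, ψ, hψ⟩ := IsCofiltered.wideCospan b
  refine ⟨l, fun i ai => IsZariskiLocalAtTarget.of_iSup_eq_top (P := P)
    (fun a => (𝒰.f a).opensRange) 𝒰.iSup_opensRange fun a => ?_⟩
  rw [← map_comp_app t (ai ≫ ψ a), morphismRestrict_comp]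
  exact hRP (D.map (ai ≫ ψ a) ∣_ (t.app (k a) ⁻¹ᵁ (𝒰.f a).opensRange)) _
    (R.of_isPullback (isPullback_morphismRestrict (D.map (ai ≫ ψ a))
      (t.app (k a) ⁻¹ᵁ (𝒰.f a).opensRange)).flip (htr i (k a) (ai ≫ ψ a))) (hk a)

include hc in
/-- If the transition maps are closed immersions and the limit is a closed subscheme of `S`, then so
are the members from some index on. -/
lemma eventually_isClosedImmersion (htr : ∀ (i j : I) (a : i ⟶ j), IsClosedImmersion (D.map a))
    (i₀ : I) [LocallyOfFiniteType (t.app i₀)] [IsClosedImmersion (c.π.app i₀ ≫ t.app i₀)] :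
    ∃ i₁, ∀ (i : I) (_ : i ⟶ i₁), IsClosedImmersion (t.app i) := by
  refine eventually_of_affine t hc (P := @IsClosedImmersion) (R := @IsClosedImmersion)
    (fun _ _ f hf => by have := hf; infer_instance) htr
    (fun a b ha hb => by have := ha; have := hb; infer_instance) i₀ inferInstance
    (fun i j a => by have := htr i j a; infer_instance) ?_
  intro J _ _ V _ E _ s e he htrE j₀ _ hP
  have : IsAffine e.pt := Scheme.isAffine_of_isLimit _ he
  have (i j : J) (a : i ⟶ j) : IsClosedImmersion (E.map a) := htrE i j a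
  obtain ⟨k, b, hk⟩ := eventually_surjective_appTop s he j₀
    (IsClosedImmersion.isAffine_surjective_of_isAffine _).2
  exact ⟨k, b, IsClosedImmersion.of_surjective_of_isAffine _ hk⟩

include hc in
/-- If the transition maps are finite and the limit is integral over `S`, then the members are
finite over `S` from some index on. -/
lemma eventually_isFinite (htr : ∀ (i j : I) (a : i ⟶ j), IsFinite (D.map a))
    (i₀ : I) [LocallyOfFiniteType (t.app i₀)] [IsIntegralHom (c.π.app i₀ ≫ t.app i₀)] :
    ∃ i₁, ∀ (i : I) (_ : i ⟶ i₁), IsFinite (t.app i) := by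
  obtain ⟨i₁, h⟩ := eventually_of_affine t hc (P := @IsIntegralHom) (R := @IsFinite)
    (fun _ _ f hf => by have := hf; infer_instance) htr
    (fun a b ha hb => by have := ha; have := hb; infer_instance) i₀ inferInstance
    (fun i j a => by have := htr i j a; infer_instance) (fun {J} _ _ V _ E _ s e he htrE j₀ _ hP => by
      have : IsAffine e.pt := Scheme.isAffine_of_isLimit _ he
      have (i j : J) (a : i ⟶ j) : IsFinite (E.map a) := htrE i j a
      obtain ⟨k, b, hk⟩ := eventually_isIntegral_appTop s he j₀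
        (((HasAffineProperty.iff_of_isAffine (P := @IsIntegralHom)).mp hP).2)
      exact ⟨k, b, (HasAffineProperty.iff_of_isAffine (P := @IsIntegralHom)).mpr
        ⟨inferInstance, hk⟩⟩)
  obtain ⟨i₂, a₁, a₀, -⟩ := IsCofilteredOrEmpty.cone_objs i₁ i₀
  refine ⟨i₂, fun i a => (IsFinite.iff_isIntegralHom_and_locallyOfFiniteType _).mpr
    ⟨h i (a ≫ a₁), ?_⟩⟩
  have := htr _ _ (a ≫ a₀)
  rw [← map_comp_app t (a ≫ a₀)]
  infer_instance

end restrict

section separated

variable {I : Type u} [SmallCategory I] [IsCofiltered I] {A B : I ⥤ Scheme.{u}} (ν : A ⟶ B)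
  {a : Cone A} (ha : IsLimit a) {b : Cone B} (hb : IsLimit b) (l : a.pt ⟶ b.pt)
  (hl : ∀ i, l ≫ b.π.app i = a.π.app i ≫ ν.app i)
  [∀ (i j : I) (e : i ⟶ j), IsAffineHom (A.map e)] [∀ (i j : I) (e : i ⟶ j), IsAffineHom (B.map e)]
  [∀ i, CompactSpace (A.obj i)] [∀ i, CompactSpace (B.obj i)]
  [∀ i, QuasiSeparatedSpace (B.obj i)] [∀ i, IsImmersion (ν.app i)]

include ha hb hl in
/-- A system of immersions whose limit has closed image has closed image at some stage. -/
lemma exists_isClosed_range (hcl : ∀ (i j : I) (e : i ⟶ j),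
      IsClosedImmersion (pullback.lift (A.map e) (ν.app i) (ν.naturality e)))
    (hl' : IsClosed (Set.range l)) : ∃ j, IsClosed (Set.range (ν.app j)) := by
  by_contra! H
  let Z (j : I) : Set (B.obj j) := closure (Set.range (ν.app j)) \ Set.range (ν.app j)
  have hZc (j : I) : IsClosed (Z j) := by
    have h₁ := isClosed_preimage_val_coborder (s := Set.range (ν.app j))
    have h₂ : IsLocallyClosed (Set.range (ν.app j)) := (ν.app j).isLocallyClosed_range
    have h₃ : Z j = closure (Set.range (ν.app j)) ∩ (coborder (Set.range (ν.app j)))ᶜ := by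
      have := closure_inter_coborder (s := Set.range (ν.app j))
      grind
    rw [h₃]
    exact isClosed_closure.inter h₂.isOpen_coborder.isClosed_compl
  obtain ⟨p, hp⟩ := exists_mem_of_isClosed_of_nonempty B b hb Z hZc
    (fun j => Set.sdiff_nonempty.mpr fun h => H j (closure_subset_iff_isClosed.mp h))
    (fun j => (hZc j).isCompact) fun {k j} e x hx => by
      refine ⟨?_, fun hmem => hx.2 ?_⟩
      · refine map_mem_closure (B.map e).continuous hx.1 ?_
        rintro _ ⟨y, rfl⟩
        exact ⟨A.map e y, by rw [← Scheme.Hom.comp_apply, ν.naturality, Scheme.Hom.comp_apply]⟩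
      -- the image is closed over an open set containing the image at the lower stage
      let U := (ν.app j).coborderRange
      have hxU : x ∈ B.map e ⁻¹ᵁ U := subset_coborder hmem
      have hcl' : IsClosedImmersion (pullback.lift (A.map e) (ν.app k) (ν.naturality e)) := hcl k j e
      have hr : IsClosed ((pullback.snd (ν.app j) (B.map e)) ''
          Set.range (pullback.lift (A.map e) (ν.app k) (ν.naturality e)) ∪
            ((B.map e ⁻¹ᵁ U : (B.obj k).Opens) : Set (B.obj k))ᶜ) := by
        have hE := (pullback.snd (ν.app j) (B.map e)).isEmbedding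
        obtain ⟨C, hC, hCe⟩ := hE.toIsInducing.isClosed_iff.mp hcl'.isClosedEmbedding.isClosed_range
        have hR : Set.range (pullback.snd (ν.app j) (B.map e)) =
            B.map e ⁻¹' Set.range (ν.app j) := Scheme.Pullback.range_snd _ _
        have hs : Set.range (ν.app j) =
            closure (Set.range (ν.app j)) ∩ coborder (Set.range (ν.app j)) :=
          closure_inter_coborder.symm
        rw [← hCe, Set.image_preimage_eq_inter_range, hR]
        have : C ∩ B.map e ⁻¹' Set.range (ν.app j) ∪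
            ((B.map e ⁻¹ᵁ U : (B.obj k).Opens) : Set (B.obj k))ᶜ =
            C ∩ B.map e ⁻¹' closure (Set.range (ν.app j)) ∪
            ((B.map e ⁻¹ᵁ U : (B.obj k).Opens) : Set (B.obj k))ᶜ := by
          change C ∩ B.map e ⁻¹' Set.range (ν.app j) ∪
              (B.map e ⁻¹' coborder (Set.range (ν.app j)))ᶜ =
            C ∩ B.map e ⁻¹' closure (Set.range (ν.app j)) ∪
              (B.map e ⁻¹' coborder (Set.range (ν.app j)))ᶜ
          conv_lhs => rw [hs]
          grind
        rw [this]
        exact (hC.inter (isClosed_closure.preimage (B.map e).continuous)).union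
          (B.map e ⁻¹ᵁ U).isOpen.isClosed_compl
      have hsub : Set.range (ν.app k) ⊆ (pullback.snd (ν.app j) (B.map e)) ''
          Set.range (pullback.lift (A.map e) (ν.app k) (ν.naturality e)) := by
        rintro _ ⟨y, rfl⟩
        exact ⟨_, ⟨y, rfl⟩, by rw [← Scheme.Hom.comp_apply, pullback.lift_snd]⟩
      rcases closure_minimal (hsub.trans Set.subset_union_left) hr hx.1 with ⟨_, ⟨y, rfl⟩, rfl⟩ | h'
      · exact ⟨y, by rw [← Scheme.Hom.comp_apply, pullback.lift_snd]⟩
      · exact absurd hxU h'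
  by_cases hpl : p ∈ Set.range l
  · obtain ⟨y, rfl⟩ := hpl
    obtain ⟨j⟩ := IsCofiltered.nonempty (C := I)
    have e : (l ≫ b.π.app j) y = (a.π.app j ≫ ν.app j) y := congrArg (fun m => m y) (hl j)
    simp only [Scheme.Hom.comp_apply] at e
    exact (hp j).2 ⟨a.π.app j y, e.symm⟩
  · obtain ⟨_, ⟨j, V, hV, rfl⟩, hpV, hVsub⟩ := TopologicalSpace.Opens.isBasis_iff_nbhd.mp
      (isBasis_preimage_isAffineOpen B b hb) (U := ⟨_, hl'.isOpen_compl⟩) hpl
    obtain ⟨k, e, hk⟩ := exists_map_preimage_le_map_preimage A a ha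
      (U := ν.app j ⁻¹ᵁ V) (V := ⊥)
      (QuasiCompact.isCompact_preimage (f := ν.app j) _ V.2 hV.isCompact) (fun y hy => by
        exfalso
        refine hVsub (?_ : l y ∈ b.π.app j ⁻¹ᵁ V) ⟨y, rfl⟩
        show b.π.app j (l y) ∈ V
        have e : (l ≫ b.π.app j) y = (a.π.app j ≫ ν.app j) y := congrArg (fun m => m y) (hl j)
        simp only [Scheme.Hom.comp_apply] at e
        exact e.symm ▸ (show ν.app j (a.π.app j y) ∈ V from hy))
    have hpk : b.π.app k p ∈ B.map e ⁻¹ᵁ V := by
      show B.map e (b.π.app k p) ∈ V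
      rw [← Scheme.Hom.comp_apply, b.w]
      exact hpV
    obtain ⟨_, hy, ⟨y, rfl⟩⟩ :=
      mem_closure_iff.mp (hp k).1 _ (B.map e ⁻¹ᵁ V).isOpen hpk
    have : y ∈ A.map e ⁻¹ᵁ (⊥ : (A.obj j).Opens) := hk (show ν.app j (A.map e y) ∈ V by
      rw [← Scheme.Hom.comp_apply, ν.naturality, Scheme.Hom.comp_apply]
      exact hy)
    exact this

end separated

section pairs

variable {I : Type u} [SmallCategory I] {S : Scheme.{u}} {D : I ⥤ Scheme.{u}}
  (t : D ⟶ (Functor.const I).obj S)

/-- The diagram `j ↦ Dⱼ ×_S Dⱼ`. -/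
@[simps]
noncomputable def pairDiag : I ⥤ Scheme.{u} where
  obj j := pullback (Y := D.obj j) (Z := S) (t.app j) (t.app j)
  map {j k} e := pullback.map (t.app j) (t.app j) (t.app k) (t.app k) (D.map e) (D.map e) (𝟙 _)
    (by simp) (by simp)
  map_id j := by apply pullback.hom_ext <;> simp
  map_comp {j k l} e f := by apply pullback.hom_ext <;> simp

/-- The diagonals, as a map of diagrams. -/
@[simps]
noncomputable def pairDiagonal : D ⟶ pairDiag t where
  app j := pullback.diagonal (t.app j)
  naturality j k e := by apply pullback.hom_ext <;> simp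

variable [IsCofiltered I] {c : Cone D} (hc : IsLimit c) (i₀ : I)

omit hc in
lemma π_comp_app_eq' (j k : I) : c.π.app j ≫ t.app j = c.π.app k ≫ t.app k := by
  obtain ⟨l, a, b, -⟩ := IsCofilteredOrEmpty.cone_objs j k
  exact (π_comp_app_eq t a).symm.trans (π_comp_app_eq t b)

/-- The self-product of the limit as a cone over `pairDiag`. -/
@[simps]
noncomputable def pairCone : Cone (pairDiag t) where
  pt := pullback (c.π.app i₀ ≫ t.app i₀) (c.π.app i₀ ≫ t.app i₀)
  π :=
  { app := fun j => pullback.map _ _ (t.app j) (t.app j) (c.π.app j) (c.π.app j) (𝟙 _)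
      (by rw [Category.comp_id]; exact π_comp_app_eq' t i₀ j)
      (by rw [Category.comp_id]; exact π_comp_app_eq' t i₀ j)
    naturality := fun j k e => by apply pullback.hom_ext <;> simp }

include hc in
/-- The self-product of the limit is the limit of the self-products. -/
noncomputable def isLimitPairCone : IsLimit (pairCone t (c := c) i₀) where
  lift s := pullback.lift
    (hc.lift ⟨s.pt, { app := fun j => s.π.app j ≫ pullback.fst (t.app j) (t.app j)
                      naturality := fun j k e => by simp [← s.w e] }⟩)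
    (hc.lift ⟨s.pt, { app := fun j => s.π.app j ≫ pullback.snd (t.app j) (t.app j)
                      naturality := fun j k e => by simp [← s.w e] }⟩)
    (by rw [hc.fac_assoc, hc.fac_assoc, Category.assoc, Category.assoc, pullback.condition])
  fac s j := by apply pullback.hom_ext <;> simp
  uniq s m hm := by
    apply pullback.hom_ext <;> refine hc.hom_ext fun j => ?_
    · simp [← hm j]
    · simp [← hm j]

variable [∀ (i j : I) (e : i ⟶ j), IsAffineHom (D.map e)]
  [∀ i, CompactSpace (D.obj i)] [∀ i, QuasiSeparatedSpace (D.obj i)] [QuasiSeparatedSpace S]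

include hc in
/-- If the limit is separated over `S`, then so are the members from some index on. -/
lemma eventually_isSeparated [IsSeparated (c.π.app i₀ ≫ t.app i₀)] :
    ∃ i₁, ∀ (i : I) (_ : i ⟶ i₁), IsSeparated (t.app i) := by
  have (i j : I) (e : i ⟶ j) : IsAffineHom ((pairDiag t).map e) :=
    MorphismProperty.pullbackMap (P := @IsAffineHom) inferInstance inferInstance
      (by simp) (by simp)
  have (j : I) : CompactSpace ((pairDiag t).obj j) :=
    QuasiCompact.compactSpace_of_compactSpace (pullback.fst (t.app j) (t.app j))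
  have (j : I) : QuasiSeparatedSpace ((pairDiag t).obj j) :=
    quasiSeparatedSpace_of_quasiSeparated (pullback.fst (t.app j) (t.app j))
  have (j : I) : IsImmersion ((pairDiagonal t).app j) :=
    inferInstanceAs (IsImmersion (pullback.diagonal (t.app j)))
  obtain ⟨j, hj⟩ := exists_isClosed_range (pairDiagonal t) hc (isLimitPairCone t hc i₀)
    (pullback.diagonal (c.π.app i₀ ≫ t.app i₀)) (fun j => by apply pullback.hom_ext <;> simp)
    (fun k j e => by
      let r : pullback ((pairDiagonal t).app j) ((pairDiag t).map e) ⟶ D.obj k :=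
        pullback.snd _ _ ≫ pullback.fst (t.app k) (t.app k)
      have hr : r ≫ D.map e = pullback.fst ((pairDiagonal t).app j) ((pairDiag t).map e) := by
        have := congrArg (· ≫ pullback.fst (t.app j) (t.app j))
          (pullback.condition (f := (pairDiagonal t).app j) (g := (pairDiag t).map e))
        simpa [r] using this.symm
      have : IsSeparated (r ≫ D.map e) := by rw [hr]; infer_instance
      have : IsSeparated r := IsSeparated.of_comp r (D.map e)
      have hl : pullback.lift (D.map e) ((pairDiagonal t).app k)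
          ((pairDiagonal t).naturality e) ≫ r = 𝟙 _ := by simp [r]
      have : IsClosedImmersion (pullback.lift (D.map e) ((pairDiagonal t).app k)
          ((pairDiagonal t).naturality e) ≫ r) := by rw [hl]; infer_instance
      exact IsClosedImmersion.of_comp _ r)
    (pullback.diagonal (c.π.app i₀ ≫ t.app i₀)).isClosedEmbedding.isClosed_range
  have hd : IsClosedImmersion (pullback.diagonal (t.app j)) :=
    IsClosedImmersion.of_isPreimmersion _ hj
  have : IsSeparated (t.app j) := ⟨hd⟩
  refine ⟨j, fun i e => ?_⟩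
  rw [← map_comp_app t e]
  infer_instance

end pairs

section immersion

variable {I : Type u} [SmallCategory I] [IsCofiltered I] {S : Scheme.{u}} [QuasiSeparatedSpace S]
  {D : I ⥤ Scheme.{u}} (t : D ⟶ (Functor.const I).obj S) {c : Cone D} (hc : IsLimit c)
  [∀ i, CompactSpace (D.obj i)] [∀ i, QuasiSeparatedSpace (D.obj i)]

include hc in
/-- If the transition maps are closed immersions and the limit is immersed in `S`, then so are the
members from some index on. -/
lemma eventually_isImmersion [∀ (i j : I) (a : i ⟶ j), IsClosedImmersion (D.map a)] (i₀ : I)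
    [∀ i, LocallyOfFiniteType (t.app i)] [IsImmersion (c.π.app i₀ ≫ t.app i₀)] :
    ∃ i₁, ∀ (i : I) (_ : i ⟶ i₁), IsImmersion (t.app i) := by
  let F : c.pt ⟶ S := c.π.app i₀ ≫ t.app i₀
  have : IsImmersion F := ‹_›
  have : CompactSpace c.pt := Scheme.compactSpace_of_isLimit D c hc
  obtain ⟨W, hWc, hKW, hWU⟩ := exists_isCompact_opens_between (isCompact_range F.continuous)
    F.coborderRange subset_coborder
  obtain ⟨k, a, hk⟩ := exists_map_eq_top D c hc (i := i₀) (t.app i₀ ⁻¹ᵁ W)
    (top_le_iff.mp fun x _ => hKW ⟨x, rfl⟩)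
  have hrange (j : Over k) : Set.range (t.app j.left) ⊆ Set.range W.ι := by
    rintro _ ⟨x, rfl⟩
    rw [Scheme.Opens.range_ι, ← map_comp_app t (j.hom ≫ a), Functor.map_comp, Category.assoc,
      Scheme.Hom.comp_apply, Scheme.Hom.comp_apply]
    exact hk.ge (Set.mem_univ _)
  let t' : Over.forget k ⋙ D ⟶ (Functor.const (Over k)).obj (W : Scheme.{u}) :=
    { app := fun j => IsOpenImmersion.lift W.ι (t.app j.left) (hrange j)
      naturality := fun j l e => by simp [← cancel_mono W.ι] }
  have : CompactSpace (W : Scheme.{u}) := isCompact_iff_compactSpace.mp hWc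
  have : QuasiSeparatedSpace (W : Scheme.{u}) := quasiSeparatedSpace_of_quasiSeparated W.ι
  have (j l : Over k) (e : j ⟶ l) : IsClosedImmersion ((Over.forget k ⋙ D).map e) :=
    inferInstanceAs (IsClosedImmersion (D.map e.left))
  have (j : Over k) : CompactSpace ((Over.forget k ⋙ D).obj j) :=
    inferInstanceAs (CompactSpace (D.obj j.left))
  have (j : Over k) : QuasiSeparatedSpace ((Over.forget k ⋙ D).obj j) :=
    inferInstanceAs (QuasiSeparatedSpace (D.obj j.left))
  have : LocallyOfFiniteType (t'.app (Over.mk (𝟙 k))) := by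
    have : LocallyOfFiniteType (t'.app (Over.mk (𝟙 k)) ≫ W.ι) := by
      simp only [t', IsOpenImmersion.lift_fac]; infer_instance
    exact locallyOfFiniteType_of_comp _ W.ι
  let cX := c.whisker (Over.forget k)
  have he : (cX.π.app (Over.mk (𝟙 k)) ≫ t'.app (Over.mk (𝟙 k))) ≫ W.ι = F := by
    simp only [t', Category.assoc, IsOpenImmersion.lift_fac]
    exact π_comp_app_eq' t k i₀
  have : IsClosedImmersion (cX.π.app (Over.mk (𝟙 k)) ≫ t'.app (Over.mk (𝟙 k))) := by
    set G := cX.π.app (Over.mk (𝟙 k)) ≫ t'.app (Over.mk (𝟙 k))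
    have : IsImmersion (G ≫ W.ι) := by rw [he]; infer_instance
    have : IsImmersion G := IsImmersion.of_comp G W.ι
    refine IsClosedImmersion.of_isPreimmersion _ ?_
    suffices e : Set.range G = (fun x : (W : Scheme.{u}) =>
        (⟨x.1, hWU x.2⟩ : coborder (Set.range F))) ⁻¹' (Subtype.val ⁻¹' Set.range F) by
      rw [e]
      exact isClosed_preimage_val_coborder.preimage (continuous_subtype_val.subtype_mk _)
    ext x
    show (∃ y, G y = x) ↔ ∃ y, F y = x.1
    refine exists_congr fun y => ?_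
    rw [← he, Scheme.Hom.comp_apply]
    exact ⟨fun h => congrArg W.ι h, fun h => Subtype.ext h⟩
  obtain ⟨j, hj⟩ := eventually_isClosedImmersion t'
    ((Functor.Initial.isLimitWhiskerEquiv (Over.forget k) c).symm hc)
    (fun _ _ _ => inferInstance) (Over.mk (𝟙 k))
  refine ⟨j.left, fun i e => ?_⟩
  have := hj (Over.mk (e ≫ j.hom)) (Over.homMk e)
  rw [show t.app i = t'.app (Over.mk (e ≫ j.hom)) ≫ W.ι from (IsOpenImmersion.lift_fac _ _ _).symm]
  infer_instance

end immersion

end Groth.Agent.LimLib
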