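import Groth.Agent.LimLib.RelApprox
import Groth.Agent.LimLib.ClosedApprox
import Groth.Agent.LimLib.Eventual
import Mathlib.CategoryTheory.Limits.Constructions.Over.Connected

/-!
# Immersions into schemes of finite presentation

* `exists_isClosedImmersion_π`: a closed subscheme of finite type of a limit is a closed subscheme
  of a member of the system.
* `exists_immersion_fp`, `exists_closedImmersion_fp`: schemes of finite type embed into schemes of
  finite presentation.
* `exists_closedFPSystem`: hence are limits of these along closed immersions.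
-/

set_option backward.isDefEq.respectTransparency false
set_option backward.defeqAttrib.useBackward true
set_option maxHeartbeats 800000

universe u

open CategoryTheory Limits AlgebraicGeometry TopologicalSpace Opposite

namespace Groth.Agent.LimLib

/-- A morphism between affine schemes whose map on global sections has all generators and the base
in its image is a closed immersion. -/
lemma isClosedImmersion_of_generators {Z W T : Scheme.{u}} [IsAffine Z] [IsAffine W] (g : Z ⟶ W)
    (r : W ⟶ T) (s : Set Γ(Z, ⊤))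
    (hs : Subring.closure (Set.range (g ≫ r).appTop.hom ∪ s) = ⊤)
    (h : s ⊆ Set.range g.appTop.hom) : IsClosedImmersion g := by
  refine IsClosedImmersion.of_surjective_of_isAffine g fun z => ?_
  have : Subring.closure (Set.range (g ≫ r).appTop.hom ∪ s) ≤ g.appTop.hom.range := by
    rw [Subring.closure_le]
    rintro _ (⟨v, rfl⟩ | hx)
    · exact ⟨r.appTop v, appTop_apply g r v⟩
    · exact h hx
  exact this (hs ▸ Subring.mem_top z)

/-- A closed subscheme of finite type of an affine limit of affines is a closed subscheme of a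
member. -/
lemma exists_isClosedImmersion_π_of_isAffine {J : Type u} [SmallCategory J] [IsCofiltered J]
    {E : J ⥤ Scheme.{u}} {e : Cone E} (he : IsLimit e) [∀ j, IsAffine (E.obj j)] {T : Scheme.{u}}
    [IsAffine T] (t : E ⟶ (Functor.const J).obj T) {Z : Scheme.{u}} (m : Z ⟶ e.pt)
    [IsClosedImmersion m] (j₀ : J) [LocallyOfFiniteType (m ≫ e.π.app j₀ ≫ t.app j₀)] :
    ∃ (j : J) (_ : j ⟶ j₀), IsClosedImmersion (m ≫ e.π.app j) := by
  have : IsAffine e.pt := Scheme.isAffine_of_isLimit _ he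
  have hm := IsClosedImmersion.isAffine_surjective_of_isAffine m
  have := hm.1
  obtain ⟨s, hs⟩ := exists_finset_closure_of_finiteType (m ≫ e.π.app j₀ ≫ t.app j₀).appTop.hom
    (HasRingHomProperty.appTop (P := @LocallyOfFiniteType) _ inferInstance)
  choose x hx using fun z : s => hm.2 z.1
  obtain ⟨j, φ, y, hy⟩ := exists_lifts_over he j₀ x
  refine ⟨j, φ, isClosedImmersion_of_generators _ (t.app j) s ?_ fun z hz => ⟨y ⟨z, hz⟩, ?_⟩⟩
  · have : (m ≫ e.π.app j) ≫ t.app j = m ≫ e.π.app j₀ ≫ t.app j₀ := by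
      rw [Category.assoc, ← e.w φ, Category.assoc]
      congr 2
      simp
    rw [this]; exact hs
  · rw [Scheme.Hom.comp_appTop, CommRingCat.hom_comp, RingHom.comp_apply]
    exact (congrArg _ (hy _)).trans (hx _)

lemma isClosedImmersion_of_resLE {X Y : Scheme.{u}} (f : X ⟶ Y) {U : Y.Opens} {V : X.Opens}
    (h : f ⁻¹ᵁ U = V) (hV : IsClosedImmersion (f.resLE U V h.ge)) : IsClosedImmersion (f ∣_ U) := by
  subst h; rwa [Scheme.Hom.resLE_eq_morphismRestrict] at hV

/-- A closed subscheme of a limit of compact schemes, of finite type over the base, is a closed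
subscheme of a member of the system. -/
theorem exists_isClosedImmersion_π {I : Type u} [SmallCategory I] [IsCofiltered I] {S : Scheme.{u}}
    (D : I ⥤ Over S) (c : Cone D) (hc : IsLimit c)
    [∀ (i j : I) (f : i ⟶ j), IsAffineHom (D.map f).left] [∀ i, CompactSpace (D.obj i).left]
    {Y : Scheme.{u}} (h : Y ⟶ c.pt.left) [IsClosedImmersion h]
    [LocallyOfFiniteType (h ≫ c.pt.hom)] :
    ∃ i : I, IsClosedImmersion (h ≫ (c.π.app i).left) := by
  classical
  have : IsConnected I := IsCofiltered.isConnected I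
  let Dl := D ⋙ Over.forget S
  let cl := (Over.forget S).mapCone c
  have hcl : IsLimit cl := isLimitOfPreserves _ hc
  have (i j : I) (f : i ⟶ j) : IsAffineHom (Dl.map f) := inferInstanceAs (IsAffineHom (D.map f).left)
  obtain ⟨i₀⟩ := IsCofiltered.nonempty (C := I)
  have (x : Dl.obj i₀) : ∃ (U : S.affineOpens) (V : (Dl.obj i₀).affineOpens),
      x ∈ V.1 ∧ V.1 ≤ (D.obj i₀).hom ⁻¹ᵁ U.1 := by
    obtain ⟨U, hU, hxU, -⟩ := Opens.isBasis_iff_nbhd.mp S.isBasis_affineOpens
      (U := ⊤) (x := (D.obj i₀).hom x) trivial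
    obtain ⟨V, hV, hxV, hVU⟩ := Opens.isBasis_iff_nbhd.mp (Dl.obj i₀).isBasis_affineOpens
      (U := (D.obj i₀).hom ⁻¹ᵁ U) (x := x) hxU
    exact ⟨⟨U, hU⟩, ⟨V, hV⟩, hxV, hVU⟩
  choose U V hxV hVU using this
  have : CompactSpace (Dl.obj i₀) := inferInstanceAs (CompactSpace (D.obj i₀).left)
  obtain ⟨s, hs⟩ := isCompact_univ.elim_finite_subcover (fun x => ((V x).1 : Set (Dl.obj i₀)))
    (fun x => (V x).1.2) fun x _ => Set.mem_iUnion.mpr ⟨x, hxV x⟩
  have key (x : Dl.obj i₀) : ∃ (j : Over i₀), ∀ (k : Over i₀) (_ : k ⟶ j),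
      IsClosedImmersion ((h ≫ cl.π.app k.left) ∣_ (Dl.map k.hom ⁻¹ᵁ (V x).1)) := by
    have (j : Over i₀) : IsAffine ((opensDiagram Dl i₀ (V x).1).obj j) := (V x).2.preimage _
    have : IsAffine ((U x).1 : Scheme.{u}) := (U x).2
    have hle (j : Over i₀) : Dl.map j.hom ⁻¹ᵁ (V x).1 ≤ (D.obj j.left).hom ⁻¹ᵁ (U x).1 := by
      refine (Scheme.Hom.preimage_mono (Dl.map j.hom) (hVU x)).trans_eq ?_
      rw [← Scheme.Hom.comp_preimage]
      exact congrArg (· ⁻¹ᵁ (U x).1) (Over.w (D.map j.hom))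
    let t : opensDiagram Dl i₀ (V x).1 ⟶ (Functor.const (Over i₀)).obj ((U x).1 : Scheme.{u}) :=
      { app := fun j => (D.obj j.left).hom.resLE _ _ (hle j)
        naturality := fun j k a => by
          rw [← cancel_mono (U x).1.ι]
          simp [opensDiagram, Dl, Over.w (D.map a.left)] }
    let W := cl.π.app i₀ ⁻¹ᵁ (V x).1
    let m := h ∣_ W
    let e := opensCone Dl cl i₀ (V x).1
    have : LocallyOfFiniteType (m ≫ e.π.app (Over.mk (𝟙 i₀)) ≫ t.app (Over.mk (𝟙 i₀))) := by
      have : LocallyOfFiniteType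
          ((m ≫ e.π.app (Over.mk (𝟙 i₀)) ≫ t.app (Over.mk (𝟙 i₀))) ≫ (U x).1.ι) := by
        have : (m ≫ e.π.app (Over.mk (𝟙 i₀)) ≫ t.app (Over.mk (𝟙 i₀))) ≫ (U x).1.ι =
            (h ⁻¹ᵁ W).ι ≫ (h ≫ c.pt.hom) := by
          simp [t, e, m, opensCone, cl, Dl, Scheme.Hom.resLE_comp_ι_assoc]
          erw [morphismRestrict_ι_assoc]
        rw [this]; infer_instance
      exact locallyOfFiniteType_of_comp _ (U x).1.ι
    obtain ⟨j, -, hj⟩ := exists_isClosedImmersion_π_of_isAffine
      (isLimitOpensCone Dl cl hcl i₀ (V x).1) t m (Over.mk (𝟙 i₀))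
    refine ⟨j, fun k a => ?_⟩
    have hk : IsClosedImmersion (m ≫ e.π.app k) := by
      have hw : (m ≫ e.π.app k) ≫ (opensDiagram Dl i₀ (V x).1).map a = m ≫ e.π.app j := by
        rw [Category.assoc, e.w]
      have : IsAffineHom ((opensDiagram Dl i₀ (V x).1).map a) := inferInstance
      have : IsClosedImmersion ((m ≫ e.π.app k) ≫ (opensDiagram Dl i₀ (V x).1).map a) := hw ▸ hj
      exact IsClosedImmersion.of_comp _ ((opensDiagram Dl i₀ (V x).1).map a)
    have hpre : (h ≫ cl.π.app k.left) ⁻¹ᵁ Dl.map k.hom ⁻¹ᵁ (V x).1 = h ⁻¹ᵁ W := by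
      rw [← Scheme.Hom.comp_preimage, Category.assoc, cl.w, Scheme.Hom.comp_preimage]
    refine isClosedImmersion_of_resLE _ hpre ?_
    have hm : m = h.resLE W (h ⁻¹ᵁ W) le_rfl := (Scheme.Hom.resLE_eq_morphismRestrict _).symm
    rw [hm] at hk
    erw [Scheme.Hom.resLE_comp_resLE] at hk
    exact hk
  choose j hj using key
  obtain ⟨k, hk⟩ := IsCofiltered.inf_objs_exists (s.image j)
  refine ⟨k.left, IsZariskiLocalAtTarget.of_iSup_eq_top (P := @IsClosedImmersion)
    (fun x : s => Dl.map k.hom ⁻¹ᵁ (V x.1).1) ?_ fun x => ?_⟩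
  · refine top_le_iff.mp fun y _ => Opens.mem_iSup.mpr ?_
    obtain ⟨x, hx, hy⟩ := Set.mem_iUnion₂.mp (hs (Set.mem_univ (Dl.map k.hom y)))
    exact ⟨⟨x, hx⟩, hy⟩
  · exact hj x.1 k (hk (Finset.mem_image_of_mem j x.2)).some

/-- A morphism which over each member of a family of opens of the target is a closed immersion
from a member of an open cover of the source is an immersion. -/
lemma isImmersion_of_pieces {X Y : Scheme.{u}} (f : X ⟶ Y) {ι : Type u} (O : ι → Scheme.{u})
    (e : ∀ a, O a ⟶ Y) [∀ a, IsOpenImmersion (e a)] (V : ι → X.Opens) (hV : ⨆ a, V a = ⊤)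
    (g : ∀ a, (V a : Scheme.{u}) ⟶ O a) [∀ a, IsClosedImmersion (g a)]
    (hg : ∀ a, g a ≫ e a = (V a).ι ≫ f) (hpre : ∀ a, f ⁻¹ᵁ (e a).opensRange = V a) :
    IsImmersion f := by
  let W : Y.Opens := ⨆ a, (e a).opensRange
  have hfW : Set.range f ⊆ Set.range W.ι := by
    rintro _ ⟨x, rfl⟩
    obtain ⟨a, ha⟩ := Opens.mem_iSup.mp (hV.ge (Set.mem_univ x))
    rw [Scheme.Opens.range_ι]
    exact Opens.mem_iSup.mpr ⟨a, (hpre a).ge ha⟩
  let f' := IsOpenImmersion.lift W.ι f hfW
  have hle (a : ι) : Set.range (e a) ⊆ Set.range W.ι := by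
    rw [Scheme.Opens.range_ι]; exact le_iSup (fun a => (e a).opensRange) a
  let e' (a : ι) := IsOpenImmersion.lift W.ι (e a) (hle a)
  have he' (a : ι) : e' a ≫ W.ι = e a := IsOpenImmersion.lift_fac _ _ _
  have (a : ι) : IsOpenImmersion (e' a) := by
    have : IsOpenImmersion (e' a ≫ W.ι) := by rw [he']; infer_instance
    exact IsOpenImmersion.of_comp (e' a) W.ι
  have hrange (a : ι) : (e' a).opensRange = W.ι ⁻¹ᵁ (e a).opensRange := by
    apply Opens.ext
    simp only [Scheme.Hom.coe_opensRange, Opens.map_coe]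
    conv_rhs => rw [show e a = e' a ≫ W.ι from (he' a).symm, Scheme.Hom.comp_base, TopCat.coe_comp,
      Set.range_comp, Set.preimage_image_eq _ W.ι.isOpenEmbedding.injective]
  have sq (a : ι) : IsPullback (g a) (V a).ι (e' a) f' := by
    refine IsOpenImmersion.isPullback _ _ _ _ ?_ ?_
    · rw [← cancel_mono W.ι, Category.assoc, Category.assoc, IsOpenImmersion.lift_fac, he', hg]
    · rw [hrange, ← Scheme.Hom.comp_preimage, IsOpenImmersion.lift_fac, hpre,
        Scheme.Opens.opensRange_ι]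
  have : IsClosedImmersion f' := by
    refine IsZariskiLocalAtTarget.of_iSup_eq_top (P := @IsClosedImmersion)
      (fun a => (e' a).opensRange) ?_ fun a => ?_
    · simp only [hrange, ← Scheme.Hom.preimage_iSup]
      exact Scheme.Opens.ι_preimage_self W
    · rw [(MorphismProperty.arrow_mk_iso_iff @IsClosedImmersion
        (morphismRestrictOpensRange f' (e' a)))]
      rw [← (sq a).flip.isoPullback_inv_snd, MorphismProperty.cancel_left_of_respectsIso
        @IsClosedImmersion]
      infer_instance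
  rw [← IsOpenImmersion.lift_fac W.ι f hfW]
  infer_instance

/-- Any scheme of finite type embeds into a scheme of finite presentation. -/
theorem exists_immersion_fp {X S : Scheme.{u}} (f : X ⟶ S) [LocallyOfFiniteType f]
    [CompactSpace X] [QuasiSeparatedSpace X] :
    ∃ (X' : Scheme.{u}) (f' : X' ⟶ S) (j : X ⟶ X'), LocallyOfFinitePresentation f' ∧
      QuasiCompact f' ∧ QuasiSeparated f' ∧ IsImmersion j ∧ j ≫ f' = f := by
  classical
  obtain ⟨P⟩ := nonempty_ftSystem X
  let Z := Spec (CommRingCat.of (ULift.{u} ℤ))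
  let sZ : S ⟶ Z := specULiftZIsTerminal.from S
  let pZ (a : P.Jᵒᵖ) : P.D.obj a ⟶ Z := specULiftZIsTerminal.from _
  have (x : X) : ∃ (U : S.affineOpens) (V : X.affineOpens), x ∈ V.1 ∧ V.1 ≤ f ⁻¹ᵁ U.1 := by
    obtain ⟨U, hU, hxU, -⟩ := Opens.isBasis_iff_nbhd.mp S.isBasis_affineOpens
      (U := ⊤) (x := f x) trivial
    obtain ⟨V, hV, hxV, hVU⟩ := Opens.isBasis_iff_nbhd.mp X.isBasis_affineOpens
      (U := f ⁻¹ᵁ U) (x := x) hxU
    exact ⟨⟨U, hU⟩, ⟨V, hV⟩, hxV, hVU⟩
  choose U V hxV hVU using this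
  obtain ⟨s, hs⟩ := isCompact_univ.elim_finite_subcover (fun x => ((V x).1 : Set X))
    (fun x => (V x).1.2) fun x _ => Set.mem_iUnion.mpr ⟨x, hxV x⟩
  have hc := P.isLimit.some
  have key (x : X) : ∃ (b : P.Jᵒᵖ), ∀ (k : P.Jᵒᵖ) (_ : k ⟶ b), ∃ (W : (P.D.obj k).Opens)
      (g : ((V x).1 : Scheme.{u}) ⟶ pullback (W.ι ≫ pZ k) ((U x).1.ι ≫ sZ)),
      P.π.app k ⁻¹ᵁ W = (V x).1 ∧ IsClosedImmersion g ∧
      g ≫ pullback.fst _ _ ≫ W.ι = (V x).1.ι ≫ P.π.app k ∧
      g ≫ pullback.snd _ _ ≫ (U x).1.ι = (V x).1.ι ≫ f := by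
    obtain ⟨a, Va, hVa, hVax⟩ := exists_isAffineOpen_preimage_eq P.D _ hc _ (V x).2
    have (j : Over a) : IsAffine ((opensDiagram P.D a Va).obj j) := hVa.preimage _
    let e := opensCone P.D (Cone.mk X P.π) a Va
    have he : IsLimit e := isLimitOpensCone P.D _ hc a Va
    have : IsAffine ((U x).1 : Scheme.{u}) := (U x).2
    have : IsAffine e.pt := Scheme.isAffine_of_isLimit _ he
    have hle : e.pt = ((V x).1 : Scheme.{u}) := congrArg (fun O : X.Opens => (O : Scheme.{u})) hVax
    let m : e.pt ⟶ (U x).1 := f.resLE (U x).1 (P.π.app a ⁻¹ᵁ Va) (hVax.le.trans (hVU x))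
    have : LocallyOfFiniteType m := inferInstance
    obtain ⟨t, ht⟩ := exists_finset_closure_of_finiteType m.appTop.hom
      (HasRingHomProperty.appTop (P := @LocallyOfFiniteType) _ inferInstance)
    obtain ⟨b, -, y, hy⟩ := exists_lifts_over he (Over.mk (𝟙 a)) (fun z : t => z.1)
    refine ⟨b.left, fun k c => ?_⟩
    let k' : Over a := Over.mk (c ≫ b.hom)
    let W := P.D.map k'.hom ⁻¹ᵁ Va
    have : IsAffine (W : Scheme.{u}) := hVa.preimage _
    have hW : P.π.app k ⁻¹ᵁ W = (V x).1 := by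
      rw [← hVax]
      exact congrArg (· ⁻¹ᵁ Va) ((Cone.mk X P.π).w k'.hom)
    let g₀ : e.pt ⟶ pullback (W.ι ≫ pZ k) ((U x).1.ι ≫ sZ) :=
      pullback.lift (e.π.app k') m (specULiftZIsTerminal.hom_ext _ _)
    have : IsClosedImmersion g₀ := by
      refine isClosedImmersion_of_generators g₀ (pullback.snd _ _) t ?_ fun z hz => ?_
      · rw [pullback.lift_snd]; exact ht
      · let q : k' ⟶ b := Over.homMk c rfl
        refine ⟨Scheme.Hom.appTop (pullback.fst (W.ι ≫ pZ k) ((U x).1.ι ≫ sZ)) (((opensDiagram P.D a Va).map q).appTop (y ⟨z, hz⟩)), ?_⟩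
        rw [appTop_apply, pullback.lift_fst]
        exact (appTop_apply _ _ _).trans
          ((congrArg (fun r => (Scheme.Hom.appTop r).hom (y ⟨z, hz⟩)) (e.w q)).trans (hy ⟨z, hz⟩))
    refine ⟨W, (X.isoOfEq hVax).inv ≫ g₀, hW, inferInstance, ?_, ?_⟩
    · rw [Category.assoc, pullback.lift_fst_assoc]
      simp [e, opensCone, W, k']
    · rw [Category.assoc, pullback.lift_snd_assoc]
      simp [m]
  choose b hb using key
  obtain ⟨k, hk⟩ := IsCofiltered.inf_objs_exists (s.image b)
  choose W g hW hgc hg₁ hg₂ using fun x : s => hb x.1 k (hk (Finset.mem_image_of_mem b x.2)).some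
  let j : X ⟶ pullback (pZ k) sZ :=
    pullback.lift (P.π.app k) f (specULiftZIsTerminal.hom_ext _ _)
  have : IsNoetherianRing (ULift.{u} ℤ) := isNoetherianRing_of_ringEquiv ℤ ULift.ringEquiv.symm
  have : LocallyOfFinitePresentation (pZ k) := by
    have : LocallyOfFiniteType (pZ k) := P.lft k
    infer_instance
  have : QuasiCompact (pZ k) := quasiCompact_of_compactSpace _
  have : QuasiSeparated (pZ k) :=
    quasiSeparated_iff_quasiSeparatedSpace _ |>.mpr inferInstance
  refine ⟨pullback (pZ k) sZ, pullback.snd _ _, j, inferInstance, inferInstance, inferInstance, ?_,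
    pullback.lift_snd _ _ _⟩
  let e (x : s) : pullback ((W x).ι ≫ pZ k) ((U x.1).1.ι ≫ sZ) ⟶ pullback (pZ k) sZ :=
    pullback.map _ _ _ _ (W x).ι (U x.1).1.ι (𝟙 Z) (Category.comp_id _) (Category.comp_id _)
  have : ∀ x, IsClosedImmersion (g x) := hgc
  refine isImmersion_of_pieces j _ e (fun x : s => (V x.1).1) ?_ g (fun x => ?_) fun x => ?_
  · refine top_le_iff.mp fun y _ => Opens.mem_iSup.mpr ?_
    obtain ⟨x, hx, hy⟩ := Set.mem_iUnion₂.mp (hs (Set.mem_univ y))
    exact ⟨⟨x, hx⟩, hy⟩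
  · apply pullback.hom_ext <;> simp [e, j, hg₁, hg₂]
  · apply Opens.ext
    rw [Opens.map_coe, Scheme.Hom.coe_opensRange, Scheme.Pullback.range_map, Scheme.Opens.range_ι,
      Scheme.Opens.range_ι, Set.preimage_inter, ← Set.preimage_comp, ← Set.preimage_comp,
      ← TopCat.coe_comp, ← TopCat.coe_comp, ← Scheme.Hom.comp_base, ← Scheme.Hom.comp_base,
      pullback.lift_fst, pullback.lift_snd]
    show ((P.π.app k ⁻¹ᵁ W x : X.Opens) : Set X) ∩ (f ⁻¹ᵁ (U x.1).1 : X.Opens) = (V x.1).1
    rw [hW, ← Opens.coe_inf, inf_eq_left.mpr (hVU x.1)]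

/-- Any scheme of finite type over a quasi-separated base is a closed subscheme of a scheme of
finite presentation. -/
theorem exists_closedImmersion_fp {X S : Scheme.{u}} (f : X ⟶ S) [LocallyOfFiniteType f]
    [CompactSpace X] [QuasiSeparatedSpace X] [QuasiSeparatedSpace S] :
    ∃ (X' : Scheme.{u}) (f' : X' ⟶ S) (j : X ⟶ X'), LocallyOfFinitePresentation f' ∧
      QuasiCompact f' ∧ QuasiSeparated f' ∧ IsClosedImmersion j ∧ CompactSpace X' ∧
      QuasiSeparatedSpace X' ∧ j ≫ f' = f := by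
  obtain ⟨Z, p, i, _, _, _, _, rfl⟩ := exists_immersion_fp f
  obtain ⟨O, hOc, hiO, hO⟩ := exists_isCompact_opens_between (isCompact_range i.continuous)
    i.coborderRange subset_coborder
  have : QuasiSeparatedSpace Z := quasiSeparatedSpace_of_quasiSeparated p
  have : CompactSpace (O : Scheme.{u}) := isCompact_iff_compactSpace.mp hOc
  have : QuasiSeparatedSpace (O : Scheme.{u}) := quasiSeparatedSpace_of_quasiSeparated O.ι
  have : QuasiCompact (O.ι ≫ p) := quasiCompact_of_compactSpace _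
  have : QuasiCompact O.ι := quasiCompact_of_compactSpace _
  refine ⟨O, O.ι ≫ p, IsOpenImmersion.lift O.ι i (by rwa [Scheme.Opens.range_ι]), inferInstance,
    inferInstance, inferInstance, ?_, inferInstance, inferInstance,
    by rw [IsOpenImmersion.lift_fac_assoc]⟩
  have e : IsOpenImmersion.lift O.ι i (by rwa [Scheme.Opens.range_ι]) ≫ Z.homOfLE hO =
      i.liftCoborder := by
    rw [← cancel_mono i.coborderRange.ι]
    simp
  have : IsClosedImmersion (IsOpenImmersion.lift O.ι i (by rwa [Scheme.Opens.range_ι]) ≫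
      Z.homOfLE hO) := e ▸ inferInstance
  exact IsClosedImmersion.of_comp _ (Z.homOfLE hO)

/-- The system of closed subschemes of finite presentation of `X'` containing `X`. -/
theorem exists_closedFPSystem {X S : Scheme.{u}} (f : X ⟶ S) [LocallyOfFiniteType f]
    [CompactSpace X] [QuasiSeparatedSpace X] [QuasiSeparatedSpace S] :
    ∃ P : FPSystem f, (∀ {i j : P.Jᵒᵖ} (a : i ⟶ j), IsClosedImmersion (P.D.map a).left) ∧
      ∀ j, IsClosedImmersion (P.π.app j).left := by
  obtain ⟨X', f', ι, _, _, _, _, _, _, rfl⟩ := exists_closedImmersion_fp f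
  obtain ⟨J, _, _, _, F, hF, hK⟩ := exists_iSup_fg_eq ι.ker
  have hlfp (j : J) : LocallyOfFinitePresentation (F j).subschemeι :=
    (lfp_subschemeι_iff (F j)).mpr (hF j)
  have hct (j : J) : CompactSpace (F j).subscheme :=
    QuasiCompact.compactSpace_of_compactSpace (F j).subschemeι
  have hqs (j : J) : QuasiSeparatedSpace (F j).subscheme :=
    quasiSeparatedSpace_of_quasiSeparated (F j).subschemeι
  refine ⟨{
    J := J
    D := idealDiagram F ⋙ Over.map f'
    π :=
      { app := fun j => Over.homMk ((idealCone F ι hK).π.app j).left (by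
          show _ ≫ (F j.unop).subschemeι ≫ f' = ι ≫ f'
          rw [← Category.assoc]
          exact congrArg (· ≫ f') (Over.w ((idealCone F ι hK).π.app j)))
        naturality := fun i j a => by
          ext1
          exact (Category.id_comp _).trans
            (congrArg CommaMorphism.left ((idealCone F ι hK).w a)).symm }
    isLimit := ?_
    isAffineHom := fun {i j} a => inferInstanceAs (IsAffineHom ((idealDiagram F).map a).left)
    lfp := fun j => inferInstanceAs (LocallyOfFinitePresentation ((F j.unop).subschemeι ≫ f'))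
    quasiCompact := fun j => inferInstanceAs (QuasiCompact ((F j.unop).subschemeι ≫ f'))
    quasiSeparated := fun j => inferInstanceAs (QuasiSeparated ((F j.unop).subschemeι ≫ f'))
    compactSpace := fun j => hct j.unop
    quasiSeparatedSpace := fun j => hqs j.unop }, ?cl, ?clπ⟩
  case cl => exact fun {i j} a => (inferInstance : IsClosedImmersion ((idealDiagram F).map a).left)
  case clπ => exact fun j => (inferInstance : IsClosedImmersion ((idealCone F ι hK).π.app j).left)
  refine ⟨IsLimit.ofExistsUnique fun T => ?_⟩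
  obtain ⟨j₀⟩ : Nonempty J := inferInstance
  let q (j : Jᵒᵖ) : T.pt.left ⟶ X' := (T.π.app j).left ≫ (F j.unop).subschemeι
  have hq {i j : Jᵒᵖ} (a : i ⟶ j) : q i = q j := by
    have e : (T.π.app i).left ≫ ((idealDiagram F).map a).left = (T.π.app j).left :=
      congrArg CommaMorphism.left (T.w a)
    simp only [q, ← e, Category.assoc]
    exact congrArg _ (Over.w ((idealDiagram F).map a)).symm
  have hq' (j : Jᵒᵖ) : q j = q (op j₀) := by
    obtain ⟨k, h₁, h₂⟩ := directed_of (· ≤ ·) j.unop j₀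
    rw [← hq (i := op k) (j := j) (homOfLE h₁).op, hq (i := op k) (j := op j₀) (homOfLE h₂).op]
  let T' : Cone (idealDiagram F) :=
    { pt := Over.mk (q (op j₀))
      π :=
        { app := fun j => Over.homMk (T.π.app j).left (hq' j)
          naturality := fun i j a => by
            ext1
            exact (Category.id_comp _).trans (congrArg CommaMorphism.left (T.w a)).symm } }
  let hl := isLimitIdealCone F ι hK
  refine ⟨Over.homMk (hl.lift T').left ?_, fun j => ?_, fun m hm => ?_⟩
  · show (hl.lift T').left ≫ ι ≫ f' = T.pt.hom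
    rw [← Category.assoc]
    refine (congrArg (· ≫ f') (Over.w (hl.lift T'))).trans ?_
    show q (op j₀) ≫ f' = T.pt.hom
    simp only [q, Category.assoc]
    exact Over.w (T.π.app (op j₀))
  · ext1
    exact (congrArg CommaMorphism.left (hl.fac T' j) :)
  · ext1
    let m' : T'.pt ⟶ (idealCone F ι hK).pt := Over.homMk m.left (by
      show m.left ≫ ι = q (op j₀)
      have e₁ : ((idealCone F ι hK).π.app (op j₀)).left ≫ (F j₀).subschemeι = ι :=
        Over.w ((idealCone F ι hK).π.app (op j₀))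
      exact (congrArg (m.left ≫ ·) e₁.symm).trans ((Category.assoc _ _ _).symm.trans
        (congrArg (· ≫ (F j₀).subschemeι) (congrArg CommaMorphism.left (hm (op j₀))))))
    have e := congrArg CommaMorphism.left (hl.uniq T' m' fun j => by
      ext1
      exact (congrArg CommaMorphism.left (hm j) :))
    exact e

/-- The part of a system beyond an index. -/
theorem FPSystem.exists_tail {X S : Scheme.{u}} {f : X ⟶ S} (P : FPSystem f) (i₀ : P.Jᵒᵖ) :
    ∃ (I : Type u) (_ : Preorder I) (_ : IsDirectedOrder I) (_ : Nonempty I) (σ : I →o P.J)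
      (c : Cone (σ.monotone.functor.op ⋙ P.D)), (∀ i, i₀.unop ≤ σ i) ∧ Nonempty (IsLimit c) ∧
      Nonempty (c.pt ≅ Over.mk f) := by
  let σ : {k : P.J // i₀.unop ≤ k} →o P.J := ⟨Subtype.val, fun _ _ h => h⟩
  have : Nonempty {k : P.J // i₀.unop ≤ k} := ⟨⟨i₀.unop, le_rfl⟩⟩
  have : IsDirectedOrder {k : P.J // i₀.unop ≤ k} := ⟨fun a b => by
    obtain ⟨c, ha, hb⟩ := exists_ge_ge a.1 b.1
    exact ⟨⟨c, a.2.trans ha⟩, ha, hb⟩⟩
  have : σ.monotone.functor.Final := Functor.final_of_exists_of_isFiltered _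
    (fun d => by
      obtain ⟨c, hd, hc⟩ := exists_ge_ge d i₀.unop
      exact ⟨⟨c, hc⟩, ⟨homOfLE hd⟩⟩)
    (fun s s' => ⟨_, 𝟙 _, Subsingleton.elim _ _⟩)
  exact ⟨_, inferInstance, inferInstance, inferInstance, σ,
    (Cone.mk (Over.mk f) P.π).whisker σ.monotone.functor.op, fun i => i.2,
    ⟨(Functor.Initial.isLimitWhiskerEquiv _ _).symm P.isLimit.some⟩, ⟨Iso.refl _⟩⟩

end Groth.Agent.LimLib
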