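import Mathlib.AlgebraicGeometry.Limits
import Mathlib.AlgebraicGeometry.Gluing
import Mathlib.AlgebraicGeometry.Morphisms.QuasiSeparated

/-!
# Gluing two schemes along an open subscheme
-/

set_option backward.isDefEq.respectTransparency false
set_option backward.defeqAttrib.useBackward true

universe u

open CategoryTheory Limits AlgebraicGeometry TopologicalSpace

namespace Groth.Agent.LimLib

/-- A scheme covered by two open quasi-separated subschemes with compact intersection is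
quasi-separated. -/
lemma quasiSeparatedSpace_of_two {X : Scheme.{u}} (A B : X.Opens)
    (hA : IsQuasiSeparated (A : Set X)) (hB : IsQuasiSeparated (B : Set X))
    (hAB : IsCompact ((A : Set X) ∩ B)) (hcov : A ⊔ B = ⊤) : QuasiSeparatedSpace X := by
  have key : ∀ (A B : X.Opens), IsQuasiSeparated (B : Set X) → IsCompact ((A : Set X) ∩ B) →
      A ⊔ B = ⊤ → ∀ U : X.Opens, IsCompact (U : Set X) → IsCompact ((U : Set X) ∩ A) := by
    intro A B hB hAB hcov U hU
    have h (x : U) : ∃ V : X.Opens, IsAffineOpen V ∧ (x : X) ∈ V ∧ V ≤ U ∧ (V ≤ A ∨ V ≤ B) := by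
      have : (x : X) ∈ A ∨ (x : X) ∈ B := by
        simpa [← SetLike.mem_coe] using hcov.ge (Set.mem_univ (x : X))
      rcases this with h | h
      · obtain ⟨V, hV, hxV, hVU⟩ :=
          Opens.isBasis_iff_nbhd.mp X.isBasis_affineOpens (U := U ⊓ A) ⟨x.2, h⟩
        exact ⟨V, hV, hxV, hVU.trans inf_le_left, .inl (hVU.trans inf_le_right)⟩
      · obtain ⟨V, hV, hxV, hVU⟩ :=
          Opens.isBasis_iff_nbhd.mp X.isBasis_affineOpens (U := U ⊓ B) ⟨x.2, h⟩
        exact ⟨V, hV, hxV, hVU.trans inf_le_left, .inr (hVU.trans inf_le_right)⟩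
    choose V hV hxV hVU hVAB using h
    obtain ⟨t, ht⟩ := hU.elim_finite_subcover (fun x : U => (V x : Set X)) (fun x => (V x).2)
      (fun x hx => Set.mem_iUnion.mpr ⟨⟨x, hx⟩, hxV _⟩)
    have e : (U : Set X) ∩ A = ⋃ x ∈ t, ((V x : Set X) ∩ A) := by
      refine Set.Subset.antisymm (fun y hy => ?_) ?_
      · obtain ⟨x, hx, hyx⟩ := Set.mem_iUnion₂.mp (ht hy.1)
        exact Set.mem_iUnion₂.mpr ⟨x, hx, hyx, hy.2⟩
      · exact Set.iUnion₂_subset fun x _ => Set.inter_subset_inter_left _ (hVU x)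
    rw [e]
    refine t.finite_toSet.isCompact_biUnion fun x _ => ?_
    rcases hVAB x with h | h
    · rw [Set.inter_eq_left.mpr (SetLike.coe_subset_coe.mpr h)]
      exact (hV x).isCompact
    · rw [show (V x : Set X) ∩ A = (V x : Set X) ∩ ((A : Set X) ∩ B) by
        rw [← Set.inter_assoc]; exact (Set.inter_eq_left.mpr (Set.inter_subset_left.trans h)).symm]
      exact hB _ _ h (V x).2 (hV x).isCompact Set.inter_subset_right (A.2.inter B.2) hAB
  rw [quasiSeparatedSpace_iff]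
  intro U V hUo hU hVo hV
  have kA := key A B hB hAB hcov
  have kB := key B A hA (by rwa [Set.inter_comm]) (by rwa [sup_comm])
  have e : U ∩ V = ((U ∩ A) ∩ (V ∩ A)) ∪ ((U ∩ B) ∩ (V ∩ B)) := by
    have : (A : Set X) ∪ B = Set.univ := by simpa using congrArg SetLike.coe hcov
    ext x
    have h := Set.ext_iff.mp this x
    simp only [Set.mem_union, Set.mem_univ, iff_true] at h
    simp only [Set.mem_inter_iff, Set.mem_union]
    tauto
  rw [e]
  exact (hA _ _ Set.inter_subset_right (hUo.inter A.2) (kA ⟨U, hUo⟩ hU)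
      Set.inter_subset_right (hVo.inter A.2) (kA ⟨V, hVo⟩ hV)).union
    (hB _ _ Set.inter_subset_right (hUo.inter B.2) (kB ⟨U, hUo⟩ hU)
      Set.inter_subset_right (hVo.inter B.2) (kB ⟨V, hVo⟩ hV))

section pushout

variable {U A B : Scheme.{u}} (f : U ⟶ A) (g : U ⟶ B) [IsOpenImmersion f] [IsOpenImmersion g]

instance isOpenImmersion_pushoutInl : IsOpenImmersion (pushout.inl f g) :=
  inferInstanceAs (IsOpenImmersion (colimit.ι (span f g) WalkingSpan.left))

instance isOpenImmersion_pushoutInr : IsOpenImmersion (pushout.inr f g) :=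
  inferInstanceAs (IsOpenImmersion (colimit.ι (span f g) WalkingSpan.right))

lemma pushout_opensRange_sup : (pushout.inl f g).opensRange ⊔ (pushout.inr f g).opensRange = ⊤ := by
  refine top_le_iff.mp fun x _ => ?_
  obtain ⟨i, y, rfl⟩ := Scheme.IsLocallyDirected.ι_jointly_surjective (span f g) x
  rcases i with _ | (_ | _)
  · refine Opens.mem_sup.mpr (.inl ⟨f y, ?_⟩)
    rw [← colimit.w (span f g) WalkingSpan.Hom.fst]
    rfl
  · exact Opens.mem_sup.mpr (.inl ⟨y, rfl⟩)
  · exact Opens.mem_sup.mpr (.inr ⟨y, rfl⟩)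

lemma pushout_range_inter :
    Set.range (pushout.inl f g) ∩ Set.range (pushout.inr f g) =
      Set.range (f ≫ pushout.inl f g) := by
  refine Set.Subset.antisymm ?_ ?_
  · rintro _ ⟨⟨a, rfl⟩, ⟨b, hb⟩⟩
    obtain ⟨k, fi, fj, x, hxa, -⟩ :=
      (Scheme.IsLocallyDirected.ι_eq_ι_iff (span f g) (i := WalkingSpan.left)
        (j := WalkingSpan.right) (xi := a) (xj := b)).mp hb.symm
    rcases k with _ | (_ | _)
    · obtain rfl : fi = WalkingSpan.Hom.fst := Subsingleton.elim _ _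
      exact ⟨x, by rw [Scheme.Hom.comp_apply]; exact congrArg _ hxa⟩
    · exact nomatch fj
    · exact nomatch fi
  · rintro _ ⟨x, rfl⟩
    exact ⟨⟨f x, rfl⟩, ⟨g x, by rw [← Scheme.Hom.comp_apply, pushout.condition]⟩⟩

lemma quasiSeparatedSpace_pushout [CompactSpace U] [QuasiSeparatedSpace A] [QuasiSeparatedSpace B] :
    QuasiSeparatedSpace ↑(pushout f g) := by
  refine quasiSeparatedSpace_of_two (pushout.inl f g).opensRange (pushout.inr f g).opensRange
    ?_ ?_ ?_ (pushout_opensRange_sup f g)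
  · exact (isQuasiSeparated_iff_quasiSeparatedSpace _ (pushout.inl f g).opensRange.2).mpr
      (quasiSeparatedSpace_of_quasiSeparated (pushout.inl f g).isoOpensRange.inv)
  · exact (isQuasiSeparated_iff_quasiSeparatedSpace _ (pushout.inr f g).opensRange.2).mpr
      (quasiSeparatedSpace_of_quasiSeparated (pushout.inr f g).isoOpensRange.inv)
  · simp only [Scheme.Hom.coe_opensRange, pushout_range_inter]
    exact isCompact_range (f ≫ pushout.inl f g).continuous

lemma compactSpace_pushout [CompactSpace A] [CompactSpace B] :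
    CompactSpace ↑(pushout f g) := by
  refine ⟨?_⟩
  have h := congrArg SetLike.coe (pushout_opensRange_sup f g)
  simp only [Opens.coe_sup, Scheme.Hom.coe_opensRange, Opens.coe_top] at h
  exact h ▸ (isCompact_range (pushout.inl f g).continuous).union
    (isCompact_range (pushout.inr f g).continuous)

end pushout

/-- A commutative square is a pullback if it is one over each member of an open cover of the
corner. -/
lemma isPullback_of_opens {X Y P S : Scheme.{u}} {g : X ⟶ P} {f : X ⟶ Y} {p : P ⟶ S} {π : Y ⟶ S}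
    (w : g ≫ p = f ≫ π) {ι : Type*} {V : ι → Scheme.{u}} (j : ∀ a, V a ⟶ P)
    [∀ a, IsOpenImmersion (j a)] (hcov : ⨆ a, (j a).opensRange = ⊤)
    (h : ∀ a, ∃ g' : ((g ⁻¹ᵁ (j a).opensRange : X.Opens) : Scheme.{u}) ⟶ V a,
      g' ≫ j a = (g ⁻¹ᵁ (j a).opensRange).ι ≫ g ∧
      IsPullback g' ((g ⁻¹ᵁ (j a).opensRange).ι ≫ f) (j a ≫ p) π) :
    IsPullback g f p π := by
  let x : X ⟶ pullback p π := pullback.lift g f w
  suffices IsIso x from IsPullback.of_iso_pullback ⟨w⟩ (asIso x) (by simp [x]) (by simp [x])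
  refine IsZariskiLocalAtTarget.of_iSup_eq_top (P := MorphismProperty.isomorphisms Scheme.{u})
    (fun a => pullback.fst p π ⁻¹ᵁ (j a).opensRange) ?_ fun a => ?_
  · rw [← Scheme.Hom.preimage_iSup, hcov, Scheme.Hom.preimage_top]
  obtain ⟨g', hg', hsq⟩ := h a
  set T := pullback.fst p π ⁻¹ᵁ (j a).opensRange
  let t : (T : Scheme.{u}) ⟶ V a :=
    IsOpenImmersion.lift (j a) (T.ι ≫ pullback.fst p π) (by
      rintro _ ⟨y, rfl⟩
      rw [Scheme.Hom.comp_apply]
      exact y.2)
  have ht : t ≫ j a = T.ι ≫ pullback.fst p π := IsOpenImmersion.lift_fac _ _ _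
  have hT : IsPullback t (T.ι ≫ pullback.snd p π) (j a ≫ p) π :=
    (IsOpenImmersion.isPullback t T.ι (j a) (pullback.fst p π) ht.symm
      (by simp [T])).paste_vert (IsPullback.of_hasPullback p π) |> fun e => by simpa using e
  have hx : x ⁻¹ᵁ T = g ⁻¹ᵁ (j a).opensRange := by
    simp only [T, ← Scheme.Hom.comp_preimage, x, pullback.lift_fst]
  have hc : IsPullback ((X.isoOfEq hx).hom ≫ g') ((x ⁻¹ᵁ T).ι ≫ f) (j a ≫ p) π := by
    refine hsq.of_iso (X.isoOfEq hx).symm (Iso.refl _) (Iso.refl _) (Iso.refl _) (by simp) (by simp)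
      (by simp) (by simp)
  have e₁ : (x ∣_ T) ≫ t = (X.isoOfEq hx).hom ≫ g' := by
    rw [← cancel_mono (j a), Category.assoc, ht, morphismRestrict_ι_assoc, Category.assoc, hg']
    simp [x]
  have : x ∣_ T = (hc.isoIsPullback _ _ hT).hom := by
    refine hT.hom_ext ?_ ?_
    · rw [IsPullback.isoIsPullback_hom_fst]; exact e₁
    · rw [IsPullback.isoIsPullback_hom_snd, morphismRestrict_ι_assoc]
      simp [x]
  show IsIso (x ∣_ T)
  rw [this]
  infer_instance

/-- A commutative square is a pullback if it is one over each of two opens covering the corner. -/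
lemma isPullback_of_two {X Y P S : Scheme.{u}} {g : X ⟶ P} {f : X ⟶ Y} {p : P ⟶ S} {π : Y ⟶ S}
    (w : g ≫ p = f ≫ π) {V₁ V₂ X₁ X₂ : Scheme.{u}} (j₁ : V₁ ⟶ P) (j₂ : V₂ ⟶ P)
    [IsOpenImmersion j₁] [IsOpenImmersion j₂] (hcov : j₁.opensRange ⊔ j₂.opensRange = ⊤)
    (k₁ : X₁ ⟶ X) (k₂ : X₂ ⟶ X) [IsOpenImmersion k₁] [IsOpenImmersion k₂]
    (g₁ : X₁ ⟶ V₁) (g₂ : X₂ ⟶ V₂) (w₁ : g₁ ≫ j₁ = k₁ ≫ g) (w₂ : g₂ ≫ j₂ = k₂ ≫ g)
    (e₁ : k₁.opensRange = g ⁻¹ᵁ j₁.opensRange) (e₂ : k₂.opensRange = g ⁻¹ᵁ j₂.opensRange)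
    (h₁ : IsPullback g₁ (k₁ ≫ f) (j₁ ≫ p) π) (h₂ : IsPullback g₂ (k₂ ≫ f) (j₂ ≫ p) π) :
    IsPullback g f p π := by
  have aux {V' X' : Scheme.{u}} (j : V' ⟶ P) (k : X' ⟶ X) [IsOpenImmersion j] [IsOpenImmersion k]
      (g' : X' ⟶ V') (w' : g' ≫ j = k ≫ g) (e : k.opensRange = g ⁻¹ᵁ j.opensRange)
      (h : IsPullback g' (k ≫ f) (j ≫ p) π) :
      ∃ g'' : ((g ⁻¹ᵁ j.opensRange : X.Opens) : Scheme.{u}) ⟶ V',
        g'' ≫ j = (g ⁻¹ᵁ j.opensRange).ι ≫ g ∧
        IsPullback g'' ((g ⁻¹ᵁ j.opensRange).ι ≫ f) (j ≫ p) π := by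
    let i : X' ≅ ((g ⁻¹ᵁ j.opensRange : X.Opens) : Scheme.{u}) :=
      k.isoOpensRange ≪≫ X.isoOfEq e
    have hi : i.hom ≫ (g ⁻¹ᵁ j.opensRange).ι = k := by simp [i]
    refine ⟨i.inv ≫ g', ?_, ?_⟩
    · rw [Category.assoc, w', ← hi, Category.assoc, Iso.inv_hom_id_assoc]
    · exact h.of_iso i (Iso.refl _) (Iso.refl _) (Iso.refl _) (by simp) (by simp [← hi])
        (by simp) (by simp)
  let V : Bool → Scheme.{u} := fun a => match a with | true => V₁ | false => V₂
  let j : ∀ a, V a ⟶ P := fun a => match a with | true => j₁ | false => j₂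
  have hj : ∀ a, IsOpenImmersion (j a) := fun a => by cases a <;> assumption
  refine isPullback_of_opens w j ?_ fun a => ?_
  · exact top_le_iff.mp (hcov.ge.trans (sup_le (le_iSup (fun a => (j a).opensRange) true)
      (le_iSup (fun a => (j a).opensRange) false)))
  · cases a
    · exact aux j₂ k₂ g₂ w₂ e₂ h₂
    · exact aux j₁ k₁ g₁ w₁ e₁ h₁

/-- Morphisms on two opens which agree on the intersection glue. -/
lemma exists_glue_sup {X P : Scheme.{u}} (U V : X.Opens) (a : (U : Scheme.{u}) ⟶ P)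
    (b : (V : Scheme.{u}) ⟶ P)
    (h : X.homOfLE (inf_le_left : U ⊓ V ≤ U) ≫ a = X.homOfLE (inf_le_right : U ⊓ V ≤ V) ≫ b) :
    ∃ g : ((U ⊔ V : X.Opens) : Scheme.{u}) ⟶ P,
      X.homOfLE le_sup_left ≫ g = a ∧ X.homOfLE le_sup_right ≫ g = b := by
  let iU : (U : Scheme.{u}) ⟶ (U ⊔ V : X.Opens) := X.homOfLE le_sup_left
  let iV : (V : Scheme.{u}) ⟶ (U ⊔ V : X.Opens) := X.homOfLE le_sup_right
  let Z : Bool → Scheme.{u} := fun x => match x with | true => U | false => V
  let k : ∀ x, Z x ⟶ (U ⊔ V : X.Opens) := fun x => match x with | true => iU | false => iV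
  let m : ∀ x, Z x ⟶ P := fun x => match x with | true => a | false => b
  let 𝒰 : (((U ⊔ V : X.Opens) : Scheme.{u})).OpenCover :=
    Scheme.Cover.mkOfCovers Bool Z k (fun y => by
      have hy : (U ⊔ V).ι y ∈ U ⊔ V := y.2
      rcases Opens.mem_sup.mp hy with hy | hy
      · exact ⟨true, ⟨_, hy⟩, (U ⊔ V).ι.isOpenEmbedding.injective (by
          rw [← Scheme.Hom.comp_apply]; simp [k, iU]; rfl)⟩
      · exact ⟨false, ⟨_, hy⟩, (U ⊔ V).ι.isOpenEmbedding.injective (by
          rw [← Scheme.Hom.comp_apply]; simp [k, iV]; rfl)⟩)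
      (fun x => by cases x <;> infer_instance)
  have key : pullback.fst iU iV ≫ a = pullback.snd iU iV ≫ b := by
    let z : pullback iU iV ⟶ (U ⊓ V : X.Opens) :=
      IsOpenImmersion.lift (U ⊓ V).ι (pullback.fst iU iV ≫ U.ι) (by
        rintro _ ⟨y, rfl⟩
        rw [Scheme.Opens.range_ι]
        refine ⟨(pullback.fst iU iV y).2, ?_⟩
        have e : pullback.fst iU iV ≫ U.ι = pullback.snd iU iV ≫ V.ι := by
          rw [← X.homOfLE_ι (le_sup_left : U ≤ U ⊔ V), ← X.homOfLE_ι (le_sup_right : V ≤ U ⊔ V),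
            pullback.condition_assoc]
        rw [e]
        exact (pullback.snd iU iV y).2)
    have h₁ : pullback.fst iU iV = z ≫ X.homOfLE inf_le_left := by
      rw [← cancel_mono U.ι]; simp [z]
    have h₂ : pullback.snd iU iV = z ≫ X.homOfLE inf_le_right := by
      rw [← cancel_mono iV, ← pullback.condition, h₁, ← cancel_mono (U ⊔ V).ι]
      simp [iU, iV]
    rw [h₁, h₂, Category.assoc, Category.assoc, h]
  refine ⟨𝒰.glueMorphisms m ?_, 𝒰.ι_glueMorphisms m _ true, 𝒰.ι_glueMorphisms m _ false⟩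
  intro x y
  rcases x with _ | _ <;> rcases y with _ | _ <;>
    simp only [𝒰, Scheme.Cover.mkOfCovers, m, k]
  · have : pullback.fst iV iV = pullback.snd iV iV := by rw [← cancel_mono iV, pullback.condition]
    rw [this]
  · rw [← cancel_epi (pullbackSymmetry iU iV).hom]
    simp [key]
  · exact key
  · have : pullback.fst iU iU = pullback.snd iU iU := by rw [← cancel_mono iU, pullback.condition]
    rw [this]

end Groth.Agent.LimLib
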