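import Groth.Agent.LimLib.Smooth
import Groth.Agent.LimLib.Glue

/-!
# Schemes of finite presentation over a limit come from a stage
-/

set_option backward.isDefEq.respectTransparency false
set_option backward.defeqAttrib.useBackward true

universe u

open CategoryTheory Limits AlgebraicGeometry TopologicalSpace

namespace Groth.Agent.LimLib

/-- A morphism of finite presentation of affine schemes comes from one over an affine scheme of
finite type over `ℤ`. -/
lemma exists_fp_model {X S : Scheme.{u}} [IsAffine X] [IsAffine S] (f : X ⟶ S)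
    [LocallyOfFinitePresentation f] :
    ∃ (T T₁ : Scheme.{u}) (h : T₁ ⟶ T) (b : S ⟶ T) (m : X ⟶ T₁),
      IsAffine T ∧ IsAffine T₁ ∧ LocallyOfFinitePresentation h ∧
      LocallyOfFinitePresentation (specULiftZIsTerminal.from T) ∧ IsPullback m f h b := by
  have hs : f.appTop.hom.FinitePresentation := f.finitePresentation_appTop
  algebraize [f.appTop.hom]
  let _ : Algebra (ULift.{u} ℤ) Γ(S, ⊤) :=
    ((Int.castRingHom Γ(S, ⊤)).comp ULift.ringEquiv.toRingHom).toAlgebra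
  let P := Algebra.Presentation.ofFinitePresentation Γ(S, ⊤) Γ(X, ⊤)
  let A₀ := Algebra.adjoin (ULift.{u} ℤ) P.coeffs
  have : P.HasCoeffs A₀ := ⟨by simp [A₀]⟩
  have hfg : A₀.FG := ⟨P.finite_coeffs.toFinset, by simp [A₀]⟩
  let B₀ := P.ModelOfHasCoeffs A₀
  let e := (P.tensorModelOfHasCoeffsEquiv A₀).symm
  let T := Spec (CommRingCat.of A₀)
  let T₁ := Spec (CommRingCat.of B₀)
  let h : T₁ ⟶ T := Spec.map (CommRingCat.ofHom (algebraMap A₀ B₀))
  let bT : S ⟶ T := S.isoSpec.hom ≫ Spec.map (CommRingCat.ofHom (algebraMap A₀ Γ(S, ⊤)))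
  have hh : LocallyOfFinitePresentation h := LocallyOfFinitePresentation.SpecMap_iff _ |>.mpr
    (RingHom.finitePresentation_algebraMap.mpr inferInstance)
  have hT : LocallyOfFinitePresentation (specULiftZIsTerminal.from T) := by
    rw [show specULiftZIsTerminal.from T =
      Spec.map (CommRingCat.ofHom (algebraMap (ULift.{u} ℤ) A₀)) from
      specULiftZIsTerminal.hom_ext _ _, LocallyOfFinitePresentation.SpecMap_iff]
    have hft : Algebra.FiniteType (ULift.{u} ℤ) A₀ := (Subalgebra.fg_iff_finiteType A₀).mp hfg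
    have : IsNoetherianRing (ULift.{u} ℤ) :=
      isNoetherianRing_of_ringEquiv ℤ ULift.ringEquiv.symm
    exact RingHom.finitePresentation_algebraMap.mpr (Algebra.FinitePresentation.of_finiteType.mp hft)
  have hp := IsPullback.of_hasPullback
    (Spec.map (CommRingCat.ofHom (algebraMap A₀ Γ(S, ⊤))))
    (Spec.map (CommRingCat.ofHom (algebraMap A₀ B₀)))
  let i : X ≅ pullback (Spec.map (CommRingCat.ofHom (algebraMap A₀ Γ(S, ⊤))))
      (Spec.map (CommRingCat.ofHom (algebraMap A₀ B₀))) :=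
    X.isoSpec ≪≫ Scheme.Spec.mapIso e.symm.toRingEquiv.toCommRingCatIso.op ≪≫
      (pullbackSpecIso A₀ Γ(S, ⊤) B₀).symm
  refine ⟨T, T₁, h, bT, i.hom ≫ pullback.snd _ _, inferInstance, inferInstance, hh, hT, ?_⟩
  refine hp.flip.of_iso i.symm (Iso.refl _) S.isoSpec.symm (Iso.refl _) (by simp [T₁]) ?_
    (by simp [h, T₁, T]) (by simp [bT, T])
  rw [← cancel_epi i.hom]
  simp only [Iso.symm_hom, Iso.hom_inv_id_assoc]
  rw [← Category.assoc, Iso.comp_inv_eq, ← Scheme.isoSpec_hom_naturality]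
  simp only [i, Iso.trans_hom, Iso.symm_hom, Functor.mapIso_hom, Scheme.Spec_map,
    Category.assoc, pullbackSpecIso_inv_fst]
  congr 1
  rw [← Spec.map_comp]
  congr 1
  ext r
  exact (e.symm.commutes r)

variable {I : Type u} [SmallCategory I] [IsCofiltered I] {D : I ⥤ Scheme.{u}} {c : Cone D}
  (hc : IsLimit c) [∀ (i j : I) (a : i ⟶ j), IsAffineHom (D.map a)]
  [∀ i, CompactSpace (D.obj i)] [∀ i, QuasiSeparatedSpace (D.obj i)]

/-- `f` is the base change of a morphism of finite presentation to some stage of the system. -/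
def HasModel {X : Scheme.{u}} (f : X ⟶ c.pt) : Prop :=
  ∃ (i : I) (Xi : Scheme.{u}) (fi : Xi ⟶ D.obj i) (g : X ⟶ Xi),
    LocallyOfFinitePresentation fi ∧ CompactSpace Xi ∧ QuasiSeparatedSpace Xi ∧
      IsPullback g f fi (c.π.app i)

omit [IsCofiltered I] in
lemma HasModel.at_finer {X : Scheme.{u}} {f : X ⟶ c.pt} {i : I} {Xi : Scheme.{u}}
    {fi : Xi ⟶ D.obj i} {g : X ⟶ Xi} (h₁ : LocallyOfFinitePresentation fi)
    (h₂ : CompactSpace Xi) (h₃ : QuasiSeparatedSpace Xi) (h : IsPullback g f fi (c.π.app i))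
    {k : I} (φ : k ⟶ i) :
    LocallyOfFinitePresentation (pullback.snd fi (D.map φ)) ∧
    CompactSpace ↑(pullback fi (D.map φ)) ∧ QuasiSeparatedSpace ↑(pullback fi (D.map φ)) ∧
      IsPullback (pullback.lift g (f ≫ c.π.app k) (by simp [h.w])) f
        (pullback.snd fi (D.map φ)) (c.π.app k) :=
  ⟨inferInstance, QuasiCompact.compactSpace_of_compactSpace (pullback.fst fi _),
    quasiSeparatedSpace_of_quasiSeparated (pullback.fst fi _),
    IsPullback.of_right (by simpa using h) (by simp) (IsPullback.of_hasPullback _ _)⟩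

include hc in
lemma hasModel_of_isAffine {V : Scheme.{u}} [IsAffine V] (f : V ⟶ c.pt)
    [LocallyOfFinitePresentation f] (U : c.pt.Opens) (hU : IsAffineOpen U)
    (hfU : Set.range f ⊆ U) : HasModel f := by
  obtain ⟨i, Ui, hUi, hUeq⟩ := exists_isAffineOpen_preimage_eq D c hc U hU
  subst hUeq
  let E := opensDiagram D i Ui
  let e := opensCone D c i Ui
  have he : IsLimit e := isLimitOpensCone D c hc i Ui
  have (j : Over i) : IsAffine (E.obj j) := hUi.preimage _
  have : IsAffine e.pt := hU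
  have : IsAffine ((c.π.app i ⁻¹ᵁ Ui : c.pt.Opens) : Scheme.{u}) := hU
  let f' : V ⟶ e.pt := IsOpenImmersion.lift (c.π.app i ⁻¹ᵁ Ui).ι f (by rintro _ ⟨y, rfl⟩; exact ⟨⟨f y, hfU ⟨y, rfl⟩⟩, rfl⟩)
  have hf' : f' ≫ (c.π.app i ⁻¹ᵁ Ui).ι = f := IsOpenImmersion.lift_fac _ _ _
  have : LocallyOfFinitePresentation f' :=
    MorphismProperty.of_postcomp (W' := @LocallyOfFiniteType) @LocallyOfFinitePresentation f'
      (c.π.app i ⁻¹ᵁ Ui).ι (inferInstance : LocallyOfFiniteType (c.π.app i ⁻¹ᵁ Ui).ι)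
      (by rw [hf']; infer_instance)
  obtain ⟨T, T₁, h, b, m, _, _, hh, hT, hsq⟩ := exists_fp_model f'
  let t : E ⟶ (Functor.const (Over i)).obj (Spec (CommRingCat.of (ULift.{u} ℤ))) :=
    { app := fun j => specULiftZIsTerminal.from _
      naturality := fun _ _ _ => specULiftZIsTerminal.hom_ext _ _ }
  obtain ⟨j, b₁, hb₁, -⟩ := Scheme.exists_π_app_comp_eq_of_locallyOfFinitePresentation
    E t (specULiftZIsTerminal.from T) e he b (by ext; exact specULiftZIsTerminal.hom_ext _ _)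
  have h₁ : IsPullback (pullback.lift m (f' ≫ e.π.app j) (by simp [hsq.w, hb₁])) f'
      (pullback.snd h b₁) (e.π.app j) :=
    IsPullback.of_right (by simpa [hb₁] using hsq) (by simp) (IsPullback.of_hasPullback _ _)
  have h₂ : IsPullback (e.π.app j) (c.π.app i ⁻¹ᵁ Ui).ι (D.map j.hom ⁻¹ᵁ Ui).ι (c.π.app j.left) :=
    IsOpenImmersion.isPullback _ _ _ _ (by simp [e])
      (by simp [e, ← Scheme.Hom.comp_preimage])
  have : IsAffine ((D.map j.hom ⁻¹ᵁ Ui : (D.obj j.left).Opens) : Scheme.{u}) := hUi.preimage _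
  have : IsAffine (pullback h b₁) := inferInstance
  refine ⟨j.left, pullback h b₁, pullback.snd h b₁ ≫ (D.map j.hom ⁻¹ᵁ Ui).ι, _, inferInstance,
    inferInstance, inferInstance, hf' ▸ h₁.paste_vert h₂⟩

include hc in
/-- Two models become isomorphic at a finer stage, compatibly with the maps from `X`. -/
lemma exists_iso_stage {i : I} {X₁ X₂ X : Scheme.{u}} (f₁ : X₁ ⟶ D.obj i) (f₂ : X₂ ⟶ D.obj i)
    [CompactSpace X₁] [QuasiSeparatedSpace X₁] [CompactSpace X₂] [QuasiSeparatedSpace X₂]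
    [LocallyOfFinitePresentation f₁] [LocallyOfFinitePresentation f₂]
    {f : X ⟶ c.pt} {q₁ : X ⟶ X₁} {q₂ : X ⟶ X₂} (h₁ : IsPullback q₁ f f₁ (c.π.app i))
    (h₂ : IsPullback q₂ f f₂ (c.π.app i)) :
    ∃ (j : I) (φ : j ⟶ i) (e : pullback f₂ (D.map φ) ≅ pullback f₁ (D.map φ)),
      e.hom ≫ pullback.snd f₁ (D.map φ) = pullback.snd f₂ (D.map φ) ∧
      pullback.lift q₂ (f ≫ c.π.app j) (by simp [h₂.w]) ≫ e.hom =
        pullback.lift q₁ (f ≫ c.π.app j) (by simp [h₁.w]) := by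
  let t' : bcDiag D i f₂ ⟶ (Functor.const (Over i)).obj (D.obj i) :=
    { app := fun j => pullback.fst f₂ (D.map j.hom) ≫ f₂
      naturality := fun j k a => by simp }
  obtain ⟨j, s, hs₁, hs₂⟩ := Scheme.exists_π_app_comp_eq_of_locallyOfFinitePresentation
    (bcDiag D i f₂) t' f₁ _ (isLimitBcCone hc h₂) q₁ (by ext k; simp [t', h₁.w, h₂.w])
  change pullback.lift q₂ (f ≫ c.π.app j.left) _ ≫ s = q₁ at hs₁
  change s ≫ f₁ = pullback.fst f₂ (D.map j.hom) ≫ f₂ at hs₂
  obtain ⟨l₁, l₂, l₃, hY⟩ := HasModel.at_finer inferInstance inferInstance inferInstance h₁ j.hom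
  obtain ⟨r₁, r₂, r₃, hY₂⟩ := HasModel.at_finer inferInstance inferInstance inferInstance h₂ j.hom
  let m₁ : X ⟶ pullback f₁ (D.map j.hom) :=
    pullback.lift q₁ (f ≫ c.π.app j.left) (by simp [h₁.w])
  let m₂ : X ⟶ pullback f₂ (D.map j.hom) :=
    pullback.lift q₂ (f ≫ c.π.app j.left) (by simp [h₂.w])
  let h : pullback f₂ (D.map j.hom) ⟶ pullback f₁ (D.map j.hom) :=
    pullback.lift s (pullback.snd _ _) (by rw [hs₂, pullback.condition])
  have hm : m₂ ≫ h = m₁ := by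
    apply pullback.hom_ext
    · simpa [m₁, m₂, h] using hs₁
    · simp [m₁, m₂, h]
  have hX : IsPullback m₂ (𝟙 X) h m₁ := by
    refine IsPullback.of_bot ?_ (by simp [hm]) hY
    simpa [h] using hY₂
  have hlft : LocallyOfFiniteType (pullback.snd f₁ (D.map j.hom)) := inferInstance
  have hlfp : LocallyOfFinitePresentation h :=
    MorphismProperty.of_postcomp (W' := @LocallyOfFiniteType) @LocallyOfFinitePresentation h
      (pullback.snd f₁ (D.map j.hom)) hlft (by simpa [h] using r₁)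
  obtain ⟨l, φ, Xl, Yl, fl, gl, pY, pX, hYl, hXl, hPl⟩ :=
    descends_isIso.exists_stage hc h hY hX hlfp (show IsIso (𝟙 X) from inferInstance)
  -- base change of `h` to the final stage
  let v₁ : pullback f₁ (D.map (φ ≫ j.hom)) ⟶ pullback f₁ (D.map j.hom) :=
    pullback.lift (pullback.fst _ _) (pullback.snd _ _ ≫ D.map φ) (by simp [pullback.condition])
  let v₂ : pullback f₂ (D.map (φ ≫ j.hom)) ⟶ pullback f₂ (D.map j.hom) :=
    pullback.lift (pullback.fst _ _) (pullback.snd _ _ ≫ D.map φ) (by simp [pullback.condition])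
  have b₁ : IsPullback v₁ (pullback.snd _ _) (pullback.snd f₁ (D.map j.hom)) (D.map φ) :=
    IsPullback.of_right (by simpa [v₁] using IsPullback.of_hasPullback f₁ (D.map (φ ≫ j.hom)))
      (by simp [v₁]) (IsPullback.of_hasPullback _ _)
  have b₂ : IsPullback v₂ (pullback.snd _ _) (pullback.snd f₂ (D.map j.hom)) (D.map φ) :=
    IsPullback.of_right (by simpa [v₂] using IsPullback.of_hasPullback f₂ (D.map (φ ≫ j.hom)))
      (by simp [v₂]) (IsPullback.of_hasPullback _ _)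
  let hl : pullback f₂ (D.map (φ ≫ j.hom)) ⟶ pullback f₁ (D.map (φ ≫ j.hom)) :=
    b₁.lift (v₂ ≫ h) (pullback.snd _ _) (by simp [h, v₂])
  have b₃ : IsPullback v₂ hl h v₁ :=
    IsPullback.of_bot (by simpa [hl, h] using b₂) (by simp [hl]) b₁
  have hiso : IsIso hl :=
    property_of_factor (P := MorphismProperty.isomorphisms Scheme.{u}) hXl b₃
      (hYl.lift v₁ (pullback.snd _ _) b₁.w) (hYl.lift_fst _ _ _) hPl
  refine ⟨l, φ ≫ j.hom, @asIso _ _ _ _ hl hiso, by simp [hl], ?_⟩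
  refine b₁.hom_ext ?_ (by simp [hl])
  have e₂ : pullback.lift q₂ (f ≫ c.π.app l) (by simp [h₂.w]) ≫ v₂ = m₂ := by
    apply pullback.hom_ext <;> simp [v₂, m₂]
  have e₁ : pullback.lift q₁ (f ≫ c.π.app l) (by simp [h₁.w]) ≫ v₁ = m₁ := by
    apply pullback.hom_ext <;> simp [v₁, m₁]
  rw [e₁, Category.assoc, asIso_hom, IsPullback.lift_fst, reassoc_of% e₂, hm]

include hc in
/-- Gluing of models along a compact intersection. -/
lemma HasModel.sup {X : Scheme.{u}} [QuasiSeparatedSpace X] {f : X ⟶ c.pt} {U V : X.Opens}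
    (hU : HasModel (U.ι ≫ f)) (hV : HasModel (V.ι ≫ f))
    (hUc : IsCompact (U : Set X)) (hVc : IsCompact (V : Set X)) :
    HasModel ((U ⊔ V).ι ≫ f) := by
  obtain ⟨i₁, A₀, a₀, qA₀, ha₁, ha₂, ha₃, hA₀⟩ := hU
  obtain ⟨i₂, B₀, b₀, qB₀, hb₁, hb₂, hb₃, hB₀⟩ := hV
  -- the intersection descends to opens of both models
  have hWc : IsCompact (((U ⊓ V : X.Opens)) : Set X) :=
    QuasiSeparatedSpace.inter_isCompact _ _ U.2 hUc V.2 hVc
  have hdesc : ∀ {i : I} {A : Scheme.{u}} (a : A ⟶ D.obj i) [CompactSpace A]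
      [QuasiSeparatedSpace A] {U : X.Opens} (qA : (U : Scheme.{u}) ⟶ A)
      (_ : IsPullback qA (U.ι ≫ f) a (c.π.app i)) (W : X.Opens) (_ : W ≤ U)
      (_ : IsCompact (W : Set X)),
      ∃ (j : I) (φ : j ⟶ i) (Wa : (pullback a (D.map φ)).Opens), IsCompact (Wa : Set ↥(pullback a (D.map φ))) ∧
        ∀ (m : (U : Scheme.{u}) ⟶ pullback a (D.map φ)),
          m ≫ pullback.fst _ _ = qA → m ≫ pullback.snd _ _ = (U.ι ≫ f) ≫ c.π.app j →
          m ⁻¹ᵁ Wa = U.ι ⁻¹ᵁ W := by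
    intro i A a _ _ U qA hA W hWU hWc
    obtain ⟨j, Wa, hWa, e⟩ := exists_preimage_eq _ _ (isLimitBcCone hc hA) (U.ι ⁻¹ᵁ W) (by
      rw [U.ι.isEmbedding.isCompact_iff]
      convert hWc
      exact Set.image_preimage_eq_of_subset (by simpa using hWU))
    refine ⟨j.left, j.hom, Wa, hWa, fun m hm₁ hm₂ => ?_⟩
    rw [← e]
    have : m = (bcCone hA).π.app j := by
      apply pullback.hom_ext <;> simp [hm₁, hm₂]
    rw [this]
  obtain ⟨j₁, φ₁, Wa₁, hWa₁, hWa⟩ := hdesc a₀ qA₀ hA₀ (U ⊓ V) inf_le_left hWc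
  obtain ⟨j₂, φ₂, Wb₁, hWb₁, hWb⟩ := hdesc b₀ qB₀ hB₀ (U ⊓ V) inf_le_right hWc
  obtain ⟨j, t₁, t₂, -⟩ := IsCofilteredOrEmpty.cone_objs j₁ j₂
  obtain ⟨hA₁', hAc, hAq, hA⟩ := HasModel.at_finer ha₁ ha₂ ha₃ hA₀ (t₁ ≫ φ₁)
  obtain ⟨hB₁', hBc, hBq, hB⟩ := HasModel.at_finer hb₁ hb₂ hb₃ hB₀ (t₂ ≫ φ₂)
  set A := pullback a₀ (D.map (t₁ ≫ φ₁))
  set B := pullback b₀ (D.map (t₂ ≫ φ₂))
  set a : A ⟶ D.obj j := pullback.snd a₀ (D.map (t₁ ≫ φ₁))
  set b : B ⟶ D.obj j := pullback.snd b₀ (D.map (t₂ ≫ φ₂))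
  let vA : A ⟶ pullback a₀ (D.map φ₁) :=
    pullback.lift (pullback.fst _ _) (a ≫ D.map t₁) (by simp [A, a, pullback.condition])
  let vB : B ⟶ pullback b₀ (D.map φ₂) :=
    pullback.lift (pullback.fst _ _) (b ≫ D.map t₂) (by simp [B, b, pullback.condition])
  set qA : (U : Scheme.{u}) ⟶ A := pullback.lift qA₀ ((U.ι ≫ f) ≫ c.π.app j)
    (by simp [hA₀.w])
  set qB : (V : Scheme.{u}) ⟶ B := pullback.lift qB₀ ((V.ι ≫ f) ≫ c.π.app j)
    (by simp [hB₀.w])
  let Wa := vA ⁻¹ᵁ Wa₁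
  let Wb := vB ⁻¹ᵁ Wb₁
  have : IsAffineHom vA := by
    have : IsPullback vA a (pullback.snd a₀ (D.map φ₁)) (D.map t₁) :=
      IsPullback.of_right (by simpa [vA] using IsPullback.of_hasPullback a₀ (D.map (t₁ ≫ φ₁)))
        (by simp [vA, a]) (IsPullback.of_hasPullback _ _)
    exact MorphismProperty.of_isPullback this.flip (inferInstanceAs (IsAffineHom (D.map t₁)))
  have : IsAffineHom vB := by
    have : IsPullback vB b (pullback.snd b₀ (D.map φ₂)) (D.map t₂) :=
      IsPullback.of_right (by simpa [vB] using IsPullback.of_hasPullback b₀ (D.map (t₂ ≫ φ₂)))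
        (by simp [vB, b]) (IsPullback.of_hasPullback _ _)
    exact MorphismProperty.of_isPullback this.flip (inferInstanceAs (IsAffineHom (D.map t₂)))
  have hWac : CompactSpace (Wa : Scheme.{u}) :=
    isCompact_iff_compactSpace.mp (QuasiCompact.isCompact_preimage (f := vA) _ Wa₁.2 hWa₁)
  have hWbc : CompactSpace (Wb : Scheme.{u}) :=
    isCompact_iff_compactSpace.mp (QuasiCompact.isCompact_preimage (f := vB) _ Wb₁.2 hWb₁)
  have : QuasiSeparatedSpace (Wa : Scheme.{u}) := quasiSeparatedSpace_of_quasiSeparated Wa.ι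
  have : QuasiSeparatedSpace (Wb : Scheme.{u}) := quasiSeparatedSpace_of_quasiSeparated Wb.ι
  have eA : qA ⁻¹ᵁ Wa = U.ι ⁻¹ᵁ (U ⊓ V) := by
    rw [← Scheme.Hom.comp_preimage]
    exact hWa _ (by simp [qA, vA]) (by simp [qA, vA, a])
  have eB : qB ⁻¹ᵁ Wb = V.ι ⁻¹ᵁ (U ⊓ V) := by
    rw [← Scheme.Hom.comp_preimage]
    exact hWb _ (by simp [qB, vB]) (by simp [qB, vB, b])
  let iU : ((U ⊓ V : X.Opens) : Scheme.{u}) ⟶ U := X.homOfLE inf_le_left
  let iV : ((U ⊓ V : X.Opens) : Scheme.{u}) ⟶ V := X.homOfLE inf_le_right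
  let wA : ((U ⊓ V : X.Opens) : Scheme.{u}) ⟶ Wa := IsOpenImmersion.lift Wa.ι (iU ≫ qA) (by
    rintro _ ⟨x, rfl⟩
    rw [Scheme.Opens.range_ι, Scheme.Hom.comp_apply]
    exact eA.ge (show U.ι (iU x) ∈ U ⊓ V by
      rw [← Scheme.Hom.comp_apply, Scheme.homOfLE_ι]; exact x.2))
  let wB : ((U ⊓ V : X.Opens) : Scheme.{u}) ⟶ Wb := IsOpenImmersion.lift Wb.ι (iV ≫ qB) (by
    rintro _ ⟨x, rfl⟩
    rw [Scheme.Opens.range_ι, Scheme.Hom.comp_apply]
    exact eB.ge (show V.ι (iV x) ∈ U ⊓ V by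
      rw [← Scheme.Hom.comp_apply, Scheme.homOfLE_ι]; exact x.2))
  have hWA : IsPullback wA ((U ⊓ V).ι ≫ f) (Wa.ι ≫ a) (c.π.app j) := by
    have := (IsOpenImmersion.isPullback wA iU Wa.ι qA (IsOpenImmersion.lift_fac _ _ _).symm (by
      simp [iU, eA, Scheme.opensRange_homOfLE])).paste_vert hA
    simpa [iU] using this
  have hWB : IsPullback wB ((U ⊓ V).ι ≫ f) (Wb.ι ≫ b) (c.π.app j) := by
    have := (IsOpenImmersion.isPullback wB iV Wb.ι qB (IsOpenImmersion.lift_fac _ _ _).symm (by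
      simp [iV, eB, Scheme.opensRange_homOfLE])).paste_vert hB
    simpa [iV] using this
  obtain ⟨l, φ, e, he₁, he₂⟩ := exists_iso_stage hc (Wa.ι ≫ a) (Wb.ι ≫ b) hWA hWB
  obtain ⟨hAl, hAlc, hAlq, hAl'⟩ := HasModel.at_finer hA₁' hAc hAq hA φ
  obtain ⟨hBl, hBlc, hBlq, hBl'⟩ := HasModel.at_finer hB₁' hBc hBq hB φ
  let oA : pullback (Wa.ι ≫ a) (D.map φ) ⟶ pullback a (D.map φ) :=
    pullback.lift (pullback.fst _ _ ≫ Wa.ι) (pullback.snd _ _) (by simp [pullback.condition])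
  let oB : pullback (Wb.ι ≫ b) (D.map φ) ⟶ pullback b (D.map φ) :=
    pullback.lift (pullback.fst _ _ ≫ Wb.ι) (pullback.snd _ _) (by simp [pullback.condition])
  have poA : IsPullback (pullback.fst (Wa.ι ≫ a) (D.map φ)) oA Wa.ι (pullback.fst a (D.map φ)) :=
    IsPullback.of_bot (by simpa [oA] using IsPullback.of_hasPullback (Wa.ι ≫ a) (D.map φ))
      (by simp [oA]) (IsPullback.of_hasPullback a (D.map φ))
  have poB : IsPullback (pullback.fst (Wb.ι ≫ b) (D.map φ)) oB Wb.ι (pullback.fst b (D.map φ)) :=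
    IsPullback.of_bot (by simpa [oB] using IsPullback.of_hasPullback (Wb.ι ≫ b) (D.map φ))
      (by simp [oB]) (IsPullback.of_hasPullback b (D.map φ))
  have : IsOpenImmersion oA := MorphismProperty.of_isPullback (P := @IsOpenImmersion) poA
    (inferInstanceAs (IsOpenImmersion Wa.ι))
  have : IsOpenImmersion oB := MorphismProperty.of_isPullback (P := @IsOpenImmersion) poB
    (inferInstanceAs (IsOpenImmersion Wb.ι))
  have : CompactSpace ↑(pullback (Wb.ι ≫ b) (D.map φ)) :=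
    QuasiCompact.compactSpace_of_compactSpace (pullback.fst (Wb.ι ≫ b) _)
  let g₂ := e.hom ≫ oA
  let P := pushout g₂ oB
  have hw : g₂ ≫ pullback.snd a (D.map φ) = oB ≫ pullback.snd b (D.map φ) := by
    simp [g₂, oA, oB, he₁]
  let p : P ⟶ D.obj l := pushout.desc _ _ hw
  set qA' : (U : Scheme.{u}) ⟶ pullback a (D.map φ) := pullback.lift qA ((U.ι ≫ f) ≫ c.π.app l)
    (by simp [hA.w])
  set qB' : (V : Scheme.{u}) ⟶ pullback b (D.map φ) := pullback.lift qB ((V.ι ≫ f) ≫ c.π.app l)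
    (by simp [hB.w])
  set wA' := pullback.lift (f := Wa.ι ≫ a) (g := D.map φ) wA (((U ⊓ V).ι ≫ f) ≫ c.π.app l)
    (by simp [hWA.w])
  set wB' := pullback.lift (f := Wb.ι ≫ b) (g := D.map φ) wB (((U ⊓ V).ι ≫ f) ≫ c.π.app l)
    (by simp [hWB.w])
  have cA : wA' ≫ oA = iU ≫ qA' := by
    apply pullback.hom_ext
    · simp [wA', oA, qA', wA]
    · simp [wA', oA, qA', iU]
  have cB : wB' ≫ oB = iV ≫ qB' := by
    apply pullback.hom_ext
    · simp [wB', oB, qB', wB]
    · simp [wB', oB, qB', iV]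
  have hgl : iU ≫ qA' ≫ pushout.inl g₂ oB = iV ≫ qB' ≫ pushout.inr g₂ oB := by
    rw [← reassoc_of% cA, ← reassoc_of% cB]
    rw [show wA' = wB' ≫ e.hom from he₂.symm, Category.assoc]
    rw [show e.hom ≫ oA ≫ pushout.inl g₂ oB = g₂ ≫ pushout.inl g₂ oB by simp [g₂],
      pushout.condition]
  obtain ⟨g, hgU, hgV⟩ := exists_glue_sup U V (qA' ≫ pushout.inl g₂ oB) (qB' ≫ pushout.inr g₂ oB) hgl
  have hpl : LocallyOfFinitePresentation p := by
    refine (IsZariskiLocalAtSource.iff_of_iSup_eq_top (P := @LocallyOfFinitePresentation)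
      (fun x : Bool => bif x then (pushout.inl g₂ oB).opensRange else (pushout.inr g₂ oB).opensRange)
      ?_).mpr fun x => ?_
    · exact top_le_iff.mp ((pushout_opensRange_sup g₂ oB).ge.trans
        (sup_le (le_iSup_of_le true le_rfl) (le_iSup_of_le false le_rfl)))
    · cases x
      · have h : (pushout.inr g₂ oB).isoOpensRange.inv ≫ pushout.inr g₂ oB ≫ p =
            (pushout.inr g₂ oB).opensRange.ι ≫ p := by simp
        simp only [cond_false, ← h, p, pushout.inr_desc]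
        infer_instance
      · have h : (pushout.inl g₂ oB).isoOpensRange.inv ≫ pushout.inl g₂ oB ≫ p =
            (pushout.inl g₂ oB).opensRange.ι ≫ p := by simp
        simp only [cond_true, ← h, p, pushout.inl_desc]
        infer_instance
  have hPc : CompactSpace ↥P := compactSpace_pushout g₂ oB
  have hPq : QuasiSeparatedSpace ↥P := quasiSeparatedSpace_pushout g₂ oB
  let jU : (U : Scheme.{u}) ⟶ (U ⊔ V : X.Opens) := X.homOfLE le_sup_left
  let jV : (V : Scheme.{u}) ⟶ (U ⊔ V : X.Opens) := X.homOfLE le_sup_right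
  have w : g ≫ p = ((U ⊔ V).ι ≫ f) ≫ c.π.app l := by
    have eU : jU ≫ g ≫ p = jU ≫ ((U ⊔ V).ι ≫ f) ≫ c.π.app l := by
      rw [reassoc_of% hgU, pushout.inl_desc, hAl'.w]
      simp [jU]
    have eV : jV ≫ g ≫ p = jV ≫ ((U ⊔ V).ι ≫ f) ≫ c.π.app l := by
      rw [reassoc_of% hgV, pushout.inr_desc, hBl'.w]
      simp [jV]
    obtain ⟨_, h₁, h₂⟩ := exists_glue_sup U V (jU ≫ g ≫ p) (jV ≫ g ≫ p)
      (by simp [jU, jV])
    have hcov : jU.opensRange ⊔ jV.opensRange = ⊤ := by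
      refine top_le_iff.mp fun y _ => ?_
      rcases Opens.mem_sup.mp (show (U ⊔ V).ι y ∈ U ⊔ V from y.2) with hy | hy
      · exact Opens.mem_sup.mpr (.inl ⟨⟨_, hy⟩, (U ⊔ V).ι.isOpenEmbedding.injective (by
          rw [← Scheme.Hom.comp_apply]; simp [jU])⟩)
      · exact Opens.mem_sup.mpr (.inr ⟨⟨_, hy⟩, (U ⊔ V).ι.isOpenEmbedding.injective (by
          rw [← Scheme.Hom.comp_apply]; simp [jV])⟩)
    refine Scheme.Cover.hom_ext (((U ⊔ V : X.Opens) : Scheme.{u}).openCoverOfIsOpenCover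
      (fun x : Bool => bif x then jU.opensRange else jV.opensRange)
      (top_le_iff.mp (hcov.ge.trans
        (sup_le (le_iSup_of_le true le_rfl) (le_iSup_of_le false le_rfl))))) _ _ fun x => ?_
    cases x
    · exact (cancel_epi jV.isoOpensRange.hom).mp (by simpa using eV)
    · exact (cancel_epi jU.isoOpensRange.hom).mp (by simpa using eU)
  refine ⟨l, P, p, g, hpl, hPc, hPq, isPullback_of_two w (pushout.inl g₂ oB) (pushout.inr g₂ oB)
    (pushout_opensRange_sup g₂ oB) jU jV qA' qB' hgU.symm hgV.symm ?_ ?_ ?_ ?_⟩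
  rotate_left 2
  · simpa [p, jU] using hAl'
  · simpa [p, jV] using hBl'
  · refine le_antisymm ?_ fun y hy => ?_
    · rintro _ ⟨x, rfl⟩
      exact ⟨qA' x, by rw [← Scheme.Hom.comp_apply, ← hgU, Scheme.Hom.comp_apply]⟩
    · by_cases hyU : (U ⊔ V).ι y ∈ U
      · exact ⟨⟨_, hyU⟩, (U ⊔ V).ι.isOpenEmbedding.injective (by
          rw [← Scheme.Hom.comp_apply]; simp [jU])⟩
      · obtain ⟨v, rfl⟩ : ∃ v, jV v = y := ⟨⟨_, (Opens.mem_sup.mp
          (show (U ⊔ V).ι y ∈ U ⊔ V from y.2)).resolve_left hyU⟩,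
            (U ⊔ V).ι.isOpenEmbedding.injective (by rw [← Scheme.Hom.comp_apply]; simp [jV])⟩
        have hv : (pushout.inr g₂ oB) (qB' v) ∈ Set.range (g₂ ≫ pushout.inl g₂ oB) := by
          rw [← pushout_range_inter]
          refine ⟨?_, _, rfl⟩
          rw [← Scheme.Hom.comp_apply, ← hgV, Scheme.Hom.comp_apply]
          exact hy
        obtain ⟨z, hz⟩ := hv
        rw [pushout.condition, Scheme.Hom.comp_apply] at hz
        have hz' := congrArg (pullback.fst b (D.map φ))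
          ((pushout.inr g₂ oB).isOpenEmbedding.injective hz)
        rw [← Scheme.Hom.comp_apply, ← Scheme.Hom.comp_apply] at hz'
        simp [oB, qB'] at hz'
        have hv' : v ∈ qB ⁻¹ᵁ Wb := by
          show qB v ∈ Wb
          rw [← hz']; exact (pullback.fst (Wb.ι ≫ b) (D.map φ) z).2
        rw [eB] at hv'
        exact absurd (by rw [← Scheme.Hom.comp_apply]; simpa [jV] using hv'.1) hyU
  · refine le_antisymm ?_ fun y hy => ?_
    · rintro _ ⟨x, rfl⟩
      exact ⟨qB' x, by rw [← Scheme.Hom.comp_apply, ← hgV, Scheme.Hom.comp_apply]⟩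
    · by_cases hyV : (U ⊔ V).ι y ∈ V
      · exact ⟨⟨_, hyV⟩, (U ⊔ V).ι.isOpenEmbedding.injective (by
          rw [← Scheme.Hom.comp_apply]; simp [jV])⟩
      · obtain ⟨v, rfl⟩ : ∃ v, jU v = y := ⟨⟨_, (Opens.mem_sup.mp
          (show (U ⊔ V).ι y ∈ U ⊔ V from y.2)).resolve_right hyV⟩,
            (U ⊔ V).ι.isOpenEmbedding.injective (by rw [← Scheme.Hom.comp_apply]; simp [jU])⟩
        have hv : (pushout.inl g₂ oB) (qA' v) ∈ Set.range (g₂ ≫ pushout.inl g₂ oB) := by
          rw [← pushout_range_inter]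
          refine ⟨⟨_, rfl⟩, ?_⟩
          rw [← Scheme.Hom.comp_apply, ← hgU, Scheme.Hom.comp_apply]
          exact hy
        obtain ⟨z, hz⟩ := hv
        rw [Scheme.Hom.comp_apply] at hz
        have hz' := congrArg (pullback.fst a (D.map φ))
          ((pushout.inl g₂ oB).isOpenEmbedding.injective hz)
        rw [← Scheme.Hom.comp_apply, ← Scheme.Hom.comp_apply] at hz'
        simp [g₂, oA, qA'] at hz'
        have hv' : v ∈ qA ⁻¹ᵁ Wa := by
          show qA v ∈ Wa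
          rw [← hz']; exact (pullback.fst (Wa.ι ≫ a) (D.map φ) (e.hom z)).2
        rw [eA] at hv'
        exact absurd (by rw [← Scheme.Hom.comp_apply]; simpa [jU] using hv'.2) hyV

include hc in
/-- A scheme of finite presentation over the limit comes from a stage. -/
theorem hasModel {X : Scheme.{u}} (f : X ⟶ c.pt) [LocallyOfFinitePresentation f] [CompactSpace X]
    [QuasiSeparatedSpace X] : HasModel f := by
  have h (x : X) : ∃ V : X.Opens, IsAffineOpen V ∧ x ∈ V ∧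
      ∃ U : c.pt.Opens, IsAffineOpen U ∧ Set.range (V.ι ≫ f) ⊆ U := by
    obtain ⟨U, hU, hxU, -⟩ := Opens.isBasis_iff_nbhd.mp c.pt.isBasis_affineOpens
      (U := ⊤) (x := f x) trivial
    obtain ⟨V, hV, hxV, hVU⟩ := Opens.isBasis_iff_nbhd.mp X.isBasis_affineOpens
      (U := f ⁻¹ᵁ U) (x := x) hxU
    exact ⟨V, hV, hxV, U, hU, by rintro _ ⟨y, rfl⟩; exact hVU y.2⟩
  choose V hV hxV U hU hVU using h
  obtain ⟨t, ht⟩ := isCompact_univ.elim_finite_subcover (fun x : X => (V x : Set X))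
    (fun x => (V x).2) fun x _ => Set.mem_iUnion.mpr ⟨x, hxV x⟩
  classical
  have key : ∀ s : Finset X, IsCompact ((s.sup V : X.Opens) : Set X) ∧
      HasModel ((s.sup V).ι ≫ f) := by
    intro s
    induction s using Finset.induction_on with
    | empty =>
      obtain ⟨i⟩ := IsCofiltered.nonempty (C := I)
      rw [Finset.sup_empty]
      have : IsEmpty ↥((⊥ : X.Opens) : Scheme.{u}) := ⟨fun x => x.2⟩
      refine ⟨by simp, ?_⟩
      have : IsAffine ((⊥ : X.Opens) : Scheme.{u}) := isAffine_of_isEmpty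
      exact hasModel_of_isAffine hc _ ⊥ (isAffineOpen_bot _)
        (by rintro _ ⟨y, rfl⟩; exact isEmptyElim y)
    | insert x s _ ih =>
      rw [Finset.sup_insert]
      have : IsAffine (V x : Scheme.{u}) := hV x
      exact ⟨by simpa using (hV x).isCompact.union ih.1,
        HasModel.sup hc (hasModel_of_isAffine hc _ (U x) (hU x) (hVU x)) ih.2 (hV x).isCompact
          ih.1⟩
  have ht' : t.sup V = ⊤ := top_le_iff.mp fun y _ => by
    obtain ⟨x, hx, hy⟩ := Set.mem_iUnion₂.mp (ht (Set.mem_univ y))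
    exact Finset.le_sup (f := V) hx hy
  have hm := (key t).2
  rw [ht'] at hm
  obtain ⟨i, Xi, fi, g, h₁, h₂, h₃, h⟩ := hm
  exact ⟨i, Xi, fi, X.topIso.inv ≫ g, h₁, h₂, h₃,
    h.of_iso X.topIso (Iso.refl _) (Iso.refl _) (Iso.refl _) (by simp) (by simp) (by simp)
      (by simp)⟩

end Groth.Agent.LimLib
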