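import Groth.Agent.LimLib.Approx

/-!
# Relative Noetherian approximation

For `f : X ⟶ S` and systems `P`, `Q` of finite type schemes over `ℤ` with limits `X`, `S`, the
triples `(a, b, g : P.D a ⟶ Q.D b)` compatible with `f` form a directed preorder `ArrowIdx P Q f`
presenting `f` as a limit of morphisms of finite type schemes over `ℤ`; base change along
`S ⟶ Q.D b` presents `X` as a limit of finitely presented `S`-schemes.
-/

set_option backward.isDefEq.respectTransparency false
set_option backward.defeqAttrib.useBackward true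

universe u

open CategoryTheory Limits AlgebraicGeometry TopologicalSpace Opposite

namespace Groth.Agent.LimLib

instance isLocallyNoetherian_specULiftInt :
    IsLocallyNoetherian (Spec (CommRingCat.of (ULift.{u} ℤ))) := by
  have : IsNoetherianRing (ULift.{u} ℤ) := isNoetherianRing_of_ringEquiv ℤ ULift.ringEquiv.symm
  infer_instance

/-- A morphism between schemes of finite type over `ℤ` is locally of finite presentation. -/
lemma FTSystem.lfp_hom {X S : Scheme.{u}} (P : FTSystem X) (Q : FTSystem S) {a : P.Jᵒᵖ}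
    {b : Q.Jᵒᵖ} (g : P.D.obj a ⟶ Q.D.obj b) : LocallyOfFinitePresentation g := by
  have : LocallyOfFiniteType (g ≫ specULiftZIsTerminal.from (Q.D.obj b)) := by
    rw [specULiftZIsTerminal.comp_from]
    exact P.lft a
  have : LocallyOfFiniteType g := locallyOfFiniteType_of_comp g (specULiftZIsTerminal.from _)
  infer_instance

variable {X S : Scheme.{u}} (P : FTSystem X) (Q : FTSystem S) (f : X ⟶ S)

lemma FTSystem.exists_hom (b : Q.J) :
    ∃ (a : P.J) (g : P.D.obj (op a) ⟶ Q.D.obj (op b)), P.π.app (op a) ≫ g = f ≫ Q.π.app (op b) := by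
  let t : P.D ⟶ (Functor.const _).obj (Spec (CommRingCat.of (ULift.{u} ℤ))) :=
    { app := fun a => specULiftZIsTerminal.from _
      naturality := fun _ _ _ => specULiftZIsTerminal.hom_ext _ _ }
  obtain ⟨a, g, hg, -⟩ := Scheme.exists_π_app_comp_eq_of_locallyOfFinitePresentation P.D t
    (specULiftZIsTerminal.from (Q.D.obj (op b))) (Cone.mk X P.π) P.isLimit.some
    (f ≫ Q.π.app (op b)) (by ext; exact specULiftZIsTerminal.hom_ext _ _)
  exact ⟨a.unop, g, hg⟩

lemma FTSystem.exists_eq_stage {a : P.J} {b : Q.Jᵒᵖ} (g g' : P.D.obj (op a) ⟶ Q.D.obj b)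
    (h : P.π.app (op a) ≫ g = P.π.app (op a) ≫ g') :
    ∃ (a' : P.J) (e : a ≤ a'), P.D.map (homOfLE e).op ≫ g = P.D.map (homOfLE e).op ≫ g' := by
  let t : P.D ⟶ (Functor.const _).obj (Spec (CommRingCat.of (ULift.{u} ℤ))) :=
    { app := fun a => specULiftZIsTerminal.from _
      naturality := fun _ _ _ => specULiftZIsTerminal.hom_ext _ _ }
  obtain ⟨k, h₁, h₂, e⟩ := Scheme.exists_hom_hom_comp_eq_comp_of_locallyOfFiniteType P.D t
    (specULiftZIsTerminal.from (Q.D.obj b)) (Cone.mk X P.π) P.isLimit.some g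
    (specULiftZIsTerminal.hom_ext _ _) g' (specULiftZIsTerminal.hom_ext _ _) h
  refine ⟨k.unop, h₁.unop.le, ?_⟩
  convert e using 3 <;> exact Subsingleton.elim _ _

/-- Triples `(a, b, g : P.D a ⟶ Q.D b)` compatible with `f`. -/
@[ext]
structure ArrowIdx : Type u where
  /-- the index in the source system -/
  a : P.J
  /-- the index in the target system -/
  b : Q.J
  /-- the morphism -/
  g : P.D.obj (op a) ⟶ Q.D.obj (op b)
  w : P.π.app (op a) ≫ g = f ≫ Q.π.app (op b)

namespace ArrowIdx

variable {P Q f}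

instance : Preorder (ArrowIdx P Q f) where
  le k l := ∃ (ha : k.a ≤ l.a) (hb : k.b ≤ l.b),
    l.g ≫ Q.D.map (homOfLE hb).op = P.D.map (homOfLE ha).op ≫ k.g
  le_refl k := ⟨le_rfl, le_rfl, by
    rw [show (homOfLE (le_refl k.b)).op = 𝟙 _ from rfl, show (homOfLE (le_refl k.a)).op = 𝟙 _ from rfl,
      Q.D.map_id, P.D.map_id, Category.comp_id, Category.id_comp]⟩
  le_trans k l m := fun ⟨ha, hb, h⟩ ⟨ha', hb', h'⟩ => ⟨ha.trans ha', hb.trans hb', by
    rw [← homOfLE_comp hb hb', ← homOfLE_comp ha ha', op_comp, op_comp, Q.D.map_comp, P.D.map_comp,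
      ← Category.assoc, h', Category.assoc, h, Category.assoc]⟩

lemma exists_ge_of (b : Q.J) (a : P.J) : ∃ k : ArrowIdx P Q f, a ≤ k.a ∧ k.b = b := by
  obtain ⟨a₀, g, hg⟩ := P.exists_hom Q f b
  obtain ⟨a', h₀, h⟩ := exists_ge_ge a₀ a
  refine ⟨⟨a', b, P.D.map (homOfLE h₀).op ≫ g, ?_⟩, h, rfl⟩
  rw [← Category.assoc, ← P.π.naturality]
  simpa using hg

instance : Nonempty (ArrowIdx P Q f) :=
  let ⟨k, _⟩ := exists_ge_of (f := f) (Classical.arbitrary Q.J) (Classical.arbitrary P.J)
  ⟨k⟩

instance : IsDirectedOrder (ArrowIdx P Q f) := ⟨fun k l => by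
  obtain ⟨b, hb₁, hb₂⟩ := exists_ge_ge k.b l.b
  obtain ⟨a₀, hk, hl⟩ := exists_ge_ge k.a l.a
  obtain ⟨m, ha, rfl⟩ := exists_ge_of (f := f) b a₀
  have key : ∀ (k : ArrowIdx P Q f) (hb : k.b ≤ m.b) (hka : k.a ≤ m.a),
      ∃ (a' : P.J) (e : m.a ≤ a'), P.D.map (homOfLE e).op ≫ m.g ≫ Q.D.map (homOfLE hb).op =
        P.D.map (homOfLE e).op ≫ P.D.map (homOfLE hka).op ≫ k.g := by
    intro k hb hka
    refine P.exists_eq_stage Q _ _ ?_
    rw [reassoc_of% m.w, ← reassoc_of% (P.π.naturality (homOfLE hka).op)]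
    simp only [Functor.const_obj_map, Category.id_comp, k.w]
    rw [← Q.π.naturality]
    simp
  obtain ⟨a₁, e₁, h₁⟩ := key k hb₁ (hk.trans ha)
  obtain ⟨a₂, e₂, h₂⟩ := key l hb₂ (hl.trans ha)
  obtain ⟨a, f₁, f₂⟩ := exists_ge_ge a₁ a₂
  refine ⟨⟨a, m.b, P.D.map (homOfLE (e₁.trans f₁)).op ≫ m.g, ?_⟩,
    ⟨(hk.trans ha).trans (e₁.trans f₁), hb₁, ?_⟩, ⟨(hl.trans ha).trans (e₂.trans f₂), hb₂, ?_⟩⟩
  · rw [← Category.assoc, ← P.π.naturality]
    simpa using m.w
  · have := P.D.map (homOfLE f₁).op ≫= h₁
    rw [← Category.assoc, ← Category.assoc (P.D.map _) (P.D.map (homOfLE e₁).op), ← P.D.map_comp,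
      ← op_comp, homOfLE_comp] at this
    refine (Category.assoc _ _ _).trans (this.trans ?_)
    rw [← Category.assoc, ← P.D.map_comp, ← op_comp, homOfLE_comp]
  · have := P.D.map (homOfLE f₂).op ≫= h₂
    rw [← Category.assoc, ← Category.assoc (P.D.map _) (P.D.map (homOfLE e₂).op), ← P.D.map_comp,
      ← op_comp, homOfLE_comp] at this
    refine (Category.assoc _ _ _).trans (this.trans ?_)
    rw [← Category.assoc, ← P.D.map_comp, ← op_comp, homOfLE_comp]⟩

variable (P Q f)

/-- The projection to the source index. -/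
def fstIdx : ArrowIdx P Q f →o P.J := ⟨fun k => k.a, fun _ _ h => h.fst⟩

/-- The projection to the target index. -/
def sndIdx : ArrowIdx P Q f →o Q.J := ⟨fun k => k.b, fun _ _ h => h.snd.fst⟩

/-- The source projection functor. -/
noncomputable abbrev fstFun : (ArrowIdx P Q f)ᵒᵖ ⥤ P.Jᵒᵖ := (fstIdx P Q f).monotone.functor.op

/-- The target projection functor. -/
noncomputable abbrev sndFun : (ArrowIdx P Q f)ᵒᵖ ⥤ Q.Jᵒᵖ := (sndIdx P Q f).monotone.functor.op

instance : (fstFun P Q f).Initial :=
  Functor.initial_of_exists_of_isCofiltered _ (fun a => by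
    obtain ⟨k, hk, -⟩ := exists_ge_of (f := f) (Classical.arbitrary Q.J) a.unop
    exact ⟨op k, ⟨(homOfLE hk).op⟩⟩)
    fun {_ c} _ _ => ⟨c, 𝟙 _, Subsingleton.elim _ _⟩

instance : (sndFun P Q f).Initial :=
  Functor.initial_of_exists_of_isCofiltered _ (fun b => by
    obtain ⟨k, -, hk⟩ := exists_ge_of (f := f) b.unop (Classical.arbitrary P.J)
    exact ⟨op k, ⟨(homOfLE hk.ge).op⟩⟩)
    fun {_ c} _ _ => ⟨c, 𝟙 _, Subsingleton.elim _ _⟩

/-- The morphisms `g`, as a natural transformation. -/
noncomputable def arrow : fstFun P Q f ⋙ P.D ⟶ sndFun P Q f ⋙ Q.D where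
  app k := k.unop.g
  naturality k l h := h.unop.le.snd.snd.symm

/-- The fibre product at a stage. -/
noncomputable abbrev relObj (k : ArrowIdx P Q f) : Over S :=
  Over.mk (pullback.snd k.g (Q.π.app (op k.b)))

/-- The system of finitely presented `S`-schemes. -/
noncomputable def relDiagram : (ArrowIdx P Q f)ᵒᵖ ⥤ Over S where
  obj k := relObj P Q f k.unop
  map {k l} h := Over.homMk
    (pullback.map _ _ _ _ (P.D.map (homOfLE h.unop.le.fst).op) (𝟙 S)
      (Q.D.map (homOfLE h.unop.le.snd.fst).op) h.unop.le.snd.snd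
      (by simpa using (Q.π.naturality (homOfLE h.unop.le.snd.fst).op).symm))
    (pullback.lift_snd _ _ _)
  map_id k := by
    ext1
    apply pullback.hom_ext
    · simp [show (homOfLE (le_refl k.unop.a)).op = 𝟙 _ from rfl]
    · simp
  map_comp {k l m} h h' := by
    ext1
    apply pullback.hom_ext
    · simp only [Over.homMk_left, pullback.lift_fst, Over.comp_left, Category.assoc,
        pullback.lift_fst_assoc, ← P.D.map_comp]
      rfl
    · simp

/-- `X` over the system of finitely presented `S`-schemes. -/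
noncomputable def relCone : Cone (relDiagram P Q f) where
  pt := Over.mk f
  π :=
    { app := fun k => Over.homMk (pullback.lift (P.π.app (op k.unop.a)) f k.unop.w)
        (pullback.lift_snd _ _ _)
      naturality := fun k l h => by
        ext1
        apply pullback.hom_ext
        · simpa [relDiagram] using P.π.naturality (homOfLE h.unop.le.fst).op
        · simp [relDiagram] }

/-- `X` is the limit of the fibre products. -/
noncomputable def isLimitRelCone : IsLimit (relCone P Q f) := by
  refine Nonempty.some ?_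
  have hP := (Functor.Initial.isLimitWhiskerEquiv (fstFun P Q f) (Cone.mk X P.π)).symm P.isLimit.some
  have hQ := (Functor.Initial.isLimitWhiskerEquiv (sndFun P Q f) (Cone.mk S Q.π)).symm Q.isLimit.some
  refine ⟨IsLimit.ofExistsUnique fun T => ?_⟩
  have hsnd : ∀ k, (T.π.app k).left ≫ pullback.snd _ _ = T.pt.hom := fun k => Over.w (T.π.app k)
  let Ts : Cone (fstFun P Q f ⋙ P.D) :=
    { pt := T.pt.left
      π :=
        { app := fun k => (T.π.app k).left ≫ pullback.fst _ _
          naturality := fun k l h => by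
            have := congrArg CommaMorphism.left (T.w h)
            simp only [Over.comp_left, relDiagram] at this
            simp only [Functor.const_obj_obj, Functor.const_obj_map, Category.id_comp,
              Category.assoc, ← this, Over.homMk_left, pullback.lift_fst]
            rfl } }
  have hufac : ∀ k : (ArrowIdx P Q f)ᵒᵖ,
      hP.lift Ts ≫ P.π.app (op k.unop.a) = (T.π.app k).left ≫ pullback.fst _ _ := fun k => hP.fac Ts k
  have hw : hP.lift Ts ≫ f = T.pt.hom := by
    refine hQ.hom_ext fun k => ?_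
    show (hP.lift Ts ≫ f) ≫ Q.π.app (op k.unop.b) = T.pt.hom ≫ Q.π.app (op k.unop.b)
    rw [Category.assoc, ← k.unop.w, ← Category.assoc, hufac, Category.assoc, pullback.condition,
      ← Category.assoc, hsnd]
  refine ⟨Over.homMk (hP.lift Ts) hw, fun k => ?_, fun m hm => ?_⟩
  · ext1
    apply pullback.hom_ext
    · simpa [relCone] using hufac k
    · simp [relCone, hw, hsnd]
  · ext1
    refine hP.hom_ext fun k => ?_
    show m.left ≫ P.π.app (op k.unop.a) = hP.lift Ts ≫ P.π.app (op k.unop.a)
    rw [hufac, ← hm k]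
    simp [relCone]

lemma isAffineHom_relDiagram {k l : (ArrowIdx P Q f)ᵒᵖ} (h : k ⟶ l) :
    IsAffineHom ((relDiagram P Q f).map h).left := by
  have : IsAffineHom (Q.π.app (op l.unop.b)) := isAffineHom_π_app _ _ Q.isLimit.some _
  have : IsAffineHom (Q.π.app (op k.unop.b)) := isAffineHom_π_app _ _ Q.isLimit.some _
  have h1 : IsAffineHom (((relDiagram P Q f).map h).left ≫ pullback.fst l.unop.g (Q.π.app (op l.unop.b))) := by
    rw [show ((relDiagram P Q f).map h).left ≫ pullback.fst l.unop.g (Q.π.app (op l.unop.b)) =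
      pullback.fst k.unop.g (Q.π.app (op k.unop.b)) ≫ P.D.map (homOfLE h.unop.le.fst).op from
      pullback.lift_fst _ _ _]
    have hf1 : IsAffineHom (pullback.fst k.unop.g (Q.π.app (op k.unop.b))) :=
      MorphismProperty.pullback_fst _ _ (inferInstanceAs (IsAffineHom (Q.π.app (op k.unop.b))))
    exact MorphismProperty.comp_mem _ _ _ hf1 (P.isAffineHom _)
  exact MorphismProperty.of_postcomp (W' := @IsSeparated) @IsAffineHom _
    (pullback.fst l.unop.g (Q.π.app (op l.unop.b))) inferInstance h1

lemma fp_relDiagram [QuasiSeparatedSpace S] [CompactSpace S] (k : (ArrowIdx P Q f)ᵒᵖ) :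
    LocallyOfFinitePresentation ((relDiagram P Q f).obj k).hom ∧
      QuasiCompact ((relDiagram P Q f).obj k).hom ∧ QuasiSeparated ((relDiagram P Q f).obj k).hom ∧
      CompactSpace ↥((relDiagram P Q f).obj k).left ∧
      QuasiSeparatedSpace ↥((relDiagram P Q f).obj k).left := by
  have := P.lfp_hom Q k.unop.g
  have : CompactSpace ↥(((Functor.const Q.Jᵒᵖ).obj S).obj (op k.unop.b)) := ‹CompactSpace S›
  have : QuasiSeparatedSpace ↥(((Functor.const Q.Jᵒᵖ).obj S).obj (op k.unop.b)) :=
    ‹QuasiSeparatedSpace S›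
  have : QuasiCompact k.unop.g := quasiCompact_of_compactSpace _
  have : QuasiSeparated k.unop.g := QuasiSeparated.of_quasiSeparatedSpace _
  have hq : QuasiCompact (pullback.snd k.unop.g (Q.π.app (op k.unop.b))) := inferInstance
  have hs : QuasiSeparated (pullback.snd k.unop.g (Q.π.app (op k.unop.b))) := inferInstance
  exact ⟨inferInstanceAs (LocallyOfFinitePresentation (pullback.snd k.unop.g (Q.π.app (op k.unop.b)))),
    hq, hs, QuasiCompact.compactSpace_of_compactSpace (pullback.snd k.unop.g (Q.π.app (op k.unop.b))),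
    quasiSeparatedSpace_of_quasiSeparated (pullback.snd k.unop.g (Q.π.app (op k.unop.b)))⟩

end ArrowIdx


/-- A structure recording `X` as a limit of finitely presented `S`-schemes with affine transition
maps. -/
structure FPSystem {X S : Scheme.{u}} (f : X ⟶ S) : Type (u + 1) where
  /-- the indices -/
  J : Type u
  [pre : Preorder J]
  [dir : IsDirectedOrder J]
  [ne : Nonempty J]
  /-- the diagram -/
  D : Jᵒᵖ ⥤ Over S
  /-- the projections -/
  π : (Functor.const Jᵒᵖ).obj (Over.mk f) ⟶ D
  isLimit : Nonempty (IsLimit (Cone.mk (Over.mk f) π))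
  isAffineHom : ∀ {i j : Jᵒᵖ} (a : i ⟶ j), IsAffineHom (D.map a).left
  lfp : ∀ j, LocallyOfFinitePresentation (D.obj j).hom
  quasiCompact : ∀ j, QuasiCompact (D.obj j).hom
  quasiSeparated : ∀ j, QuasiSeparated (D.obj j).hom
  compactSpace : ∀ j, CompactSpace ↥(D.obj j).left
  quasiSeparatedSpace : ∀ j, QuasiSeparatedSpace ↥(D.obj j).left

attribute [instance] FPSystem.pre FPSystem.dir FPSystem.ne FPSystem.lfp FPSystem.quasiCompact
  FPSystem.quasiSeparated FPSystem.compactSpace FPSystem.quasiSeparatedSpace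

/-- A quasi-compact scheme mapping to a scheme lands in a quasi-compact open. -/
lemma exists_compact_open_range {X S : Scheme.{u}} (f : X ⟶ S) [CompactSpace X] :
    ∃ O : S.Opens, IsCompact (O : Set S) ∧ Set.range f ⊆ O := by
  classical
  obtain ⟨t, ht⟩ := (isCompact_range f.continuous).elim_finite_subcover
    (fun U : S.affineOpens => (U.1 : Set S)) (fun U => U.1.2)
    (fun x _ => by
      obtain ⟨U, hU, hx, -⟩ := Opens.isBasis_iff_nbhd.mp S.isBasis_affineOpens
        (U := ⊤) (x := x) trivial
      exact Set.mem_iUnion.mpr ⟨⟨U, hU⟩, hx⟩)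
  refine ⟨⟨⋃ U ∈ t, (U.1 : Set S), isOpen_biUnion fun U _ => U.1.2⟩,
    t.finite_toSet.isCompact_biUnion fun U _ => U.2.isCompact, ht⟩

/-- Relative Noetherian approximation. -/
theorem nonempty_fpSystem {X S : Scheme.{u}} (f : X ⟶ S) [CompactSpace X] [QuasiSeparatedSpace X]
    [QuasiSeparatedSpace S] : Nonempty (FPSystem f) := by
  obtain ⟨O, hO, hfO⟩ := exists_compact_open_range f
  have : CompactSpace (O : Scheme.{u}) := isCompact_iff_compactSpace.mp hO
  have : QuasiSeparatedSpace (O : Scheme.{u}) := quasiSeparatedSpace_of_quasiSeparated O.ι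
  have : QuasiCompact O.ι := quasiCompact_of_compactSpace _
  let f' : X ⟶ O := IsOpenImmersion.lift O.ι f (by rwa [Scheme.Opens.range_ι])
  obtain ⟨P⟩ := nonempty_ftSystem X
  obtain ⟨Q⟩ := nonempty_ftSystem (O : Scheme.{u})
  let D := ArrowIdx.relDiagram P Q f' ⋙ Over.map O.ι
  let π : (Functor.const _).obj (Over.mk f) ⟶ D :=
    { app := fun k => Over.homMk ((ArrowIdx.relCone P Q f').π.app k).left (by
        have := Over.w ((ArrowIdx.relCone P Q f').π.app k)
        simp only [D, Functor.comp_obj, Over.map_obj_hom, Over.mk_hom, Functor.const_obj_obj]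
        rw [← Category.assoc, this]
        exact IsOpenImmersion.lift_fac _ _ _)
      naturality := fun k l h => by
        ext1
        have e := congrArg CommaMorphism.left ((ArrowIdx.relCone P Q f').w h)
        simp only [Over.comp_left] at e
        simpa [D] using e.symm }
  have hl : Nonempty (IsLimit (Cone.mk (Over.mk f) π)) := by
    refine ⟨IsLimit.ofExistsUnique fun T => ?_⟩
    obtain ⟨k₀⟩ : Nonempty (ArrowIdx P Q f')ᵒᵖ := ⟨op (Classical.arbitrary _)⟩
    have hw : ∀ k, ((T.π.app k).left ≫ ((ArrowIdx.relDiagram P Q f').obj k).hom) ≫ O.ι = T.pt.hom :=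
      fun k => by simpa [D] using Over.w (T.π.app k)
    let t := (T.π.app k₀).left ≫ ((ArrowIdx.relDiagram P Q f').obj k₀).hom
    let T' : Cone (ArrowIdx.relDiagram P Q f') :=
      { pt := Over.mk t
        π :=
          { app := fun k => Over.homMk (T.π.app k).left (by
              rw [← cancel_mono O.ι, hw]; exact (hw k₀).symm)
            naturality := fun k l h => by
              ext1
              simpa [D] using congrArg CommaMorphism.left (T.π.naturality h) } }
    let hl := ArrowIdx.isLimitRelCone P Q f'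
    refine ⟨Over.homMk (hl.lift T').left (by
      have e := Over.w (hl.lift T')
      show (hl.lift T').left ≫ f = T.pt.hom
      rw [← IsOpenImmersion.lift_fac O.ι f (by rwa [Scheme.Opens.range_ι]), ← Category.assoc]
      exact (congrArg (· ≫ O.ι) e).trans (hw k₀)), fun k => ?_, fun m hm => ?_⟩
    · ext1
      have e := congrArg CommaMorphism.left (hl.fac T' k)
      exact e
    · ext1
      let m' : T'.pt ⟶ (ArrowIdx.relCone P Q f').pt := Over.homMk m.left (by
        rw [← cancel_mono O.ι, Category.assoc]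
        show m.left ≫ f' ≫ O.ι = t ≫ O.ι
        rw [IsOpenImmersion.lift_fac]
        exact (Over.w m).trans (hw k₀).symm)
      have e := congrArg CommaMorphism.left (hl.uniq T' m' fun k => by
        ext1
        have e' := congrArg CommaMorphism.left (hm k)
        exact e')
      exact e
  have := fun k => ArrowIdx.fp_relDiagram P Q f' k
  exact ⟨{
    J := ArrowIdx P Q f'
    D := D
    π := π
    isLimit := hl
    isAffineHom := fun h => ArrowIdx.isAffineHom_relDiagram P Q f' h
    lfp := fun k => by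
      have := (this k).1
      exact inferInstanceAs (LocallyOfFinitePresentation (((ArrowIdx.relDiagram P Q f').obj k).hom ≫ O.ι))
    quasiCompact := fun k => by
      have := (this k).2.1
      exact inferInstanceAs (QuasiCompact (((ArrowIdx.relDiagram P Q f').obj k).hom ≫ O.ι))
    quasiSeparated := fun k => by
      have := (this k).2.2.1
      exact inferInstanceAs (QuasiSeparated (((ArrowIdx.relDiagram P Q f').obj k).hom ≫ O.ι))
    compactSpace := fun k => (this k).2.2.2.1
    quasiSeparatedSpace := fun k => (this k).2.2.2.2 }⟩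

end Groth.Agent.LimLib
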