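import Groth.Agent.LimLib.DomainHom
import Mathlib.AlgebraicGeometry.Morphisms.FinitePresentation

/-!
# Finite presentation from lifting of morphisms from limits of affine schemes
-/

set_option backward.isDefEq.respectTransparency false
set_option backward.defeqAttrib.useBackward true

universe u

open CategoryTheory Limits AlgebraicGeometry TopologicalSpace Opposite

namespace Groth.Agent.LimLib

/-- Maps out of `B` to directed colimits of `A`-algebras lift to a stage. -/
def Lifts (A B : Type u) [CommRing A] [CommRing B] [Algebra A B] : Prop :=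
  ∀ (J : Type u) [Preorder J] [IsDirectedOrder J] [Nonempty J] (F : J ⥤ CommRingCat.{u})
    (α : (Functor.const J).obj (CommRingCat.of A) ⟶ F) (s : Cocone F) (_ : IsColimit s)
    (b : CommRingCat.of B ⟶ s.pt) (j₀ : J),
    CommRingCat.ofHom (algebraMap A B) ≫ b = α.app j₀ ≫ s.ι.app j₀ →
    ∃ (j : J) (bj : CommRingCat.of B ⟶ F.obj j),
      CommRingCat.ofHom (algebraMap A B) ≫ bj = α.app j ∧ bj ≫ s.ι.app j = b

section quot

variable {P : Type u} [CommRing P] (I : Ideal P)

/-- The finitely generated subideals. -/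
abbrev FGSubIdeal := {J : Ideal P // J.FG ∧ J ≤ I}

/-- The quotients by the finitely generated subideals. -/
def quotRings : FGSubIdeal I ⥤ CommRingCat.{u} where
  obj J := CommRingCat.of (P ⧸ J.1)
  map {J K} h := CommRingCat.ofHom (Ideal.Quotient.factor h.le)
  map_id J := by ext x; rfl
  map_comp _ _ := by ext x; rfl

/-- The quotient by the ideal as a cocone. -/
def quotCocone : Cocone (quotRings I) where
  pt := CommRingCat.of (P ⧸ I)
  ι :=
    { app := fun J => CommRingCat.ofHom (Ideal.Quotient.factor J.2.2)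
      naturality := fun J K h => by
        ext x
        obtain ⟨x, rfl⟩ := Ideal.Quotient.mk_surjective (I := J.1) x
        rfl }

instance : Nonempty (FGSubIdeal I) := ⟨⟨⊥, Submodule.fg_bot, bot_le⟩⟩

instance : IsDirectedOrder (FGSubIdeal I) := ⟨fun a b =>
  ⟨⟨a.1 ⊔ b.1, Submodule.FG.sup a.2.1 b.2.1, sup_le a.2.2 b.2.2⟩, show a.1 ≤ _ from le_sup_left, show b.1 ≤ _ from le_sup_right⟩⟩

/-- A quotient is the colimit of the quotients by finitely generated subideals. -/
noncomputable def isColimitQuotCocone : IsColimit (quotCocone I) := by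
  have : PreservesColimit (quotRings I) (forget CommRingCat.{u}) := inferInstance
  have : ReflectsColimit (quotRings I) (forget CommRingCat.{u}) :=
    reflectsColimit_of_reflectsIsomorphisms _ _
  refine isColimitOfReflects (forget CommRingCat.{u}) ?_
  refine Types.FilteredColimit.isColimitOf _ _ (fun a => ?_) fun s t x y h => ?_
  · obtain ⟨a, rfl⟩ := Ideal.Quotient.mk_surjective (I := I) a
    exact ⟨⟨⊥, Submodule.fg_bot, bot_le⟩, Ideal.Quotient.mk _ a, rfl⟩
  · obtain ⟨x, rfl⟩ := Ideal.Quotient.mk_surjective (I := s.1) x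
    obtain ⟨y, rfl⟩ := Ideal.Quotient.mk_surjective (I := t.1) y
    have hxy : x - y ∈ I := Ideal.Quotient.eq.mp h
    refine ⟨⟨s.1 ⊔ t.1 ⊔ Ideal.span {x - y}, Submodule.FG.sup (Submodule.FG.sup s.2.1 t.2.1) (Submodule.fg_span_singleton _),
      sup_le (sup_le s.2.2 t.2.2) (by simpa [Ideal.span_le] using hxy)⟩,
      homOfLE (show s.1 ≤ _ from le_sup_left.trans le_sup_left), homOfLE (show t.1 ≤ _ from le_sup_right.trans le_sup_left), ?_⟩
    exact Ideal.Quotient.eq.mpr (Ideal.mem_sup_right (Ideal.subset_span rfl))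

end quot

/-- An algebra out of which maps lift from directed colimits is finitely presented. -/
theorem finitePresentation_of_lifts {A B : Type u} [CommRing A] [CommRing B] [Algebra A B]
    (h : Lifts A B) : Algebra.FinitePresentation A B := by
  classical
  -- finite type
  let S : Finset B →o Subalgebra A B :=
    ⟨fun s => Algebra.adjoin A (s : Set B), fun s t hst => Algebra.adjoin_mono (Finset.coe_subset.mpr hst)⟩
  have hcov : ∀ c : B, ∃ s, c ∈ S s := fun c => ⟨{c}, Algebra.subset_adjoin (by simp)⟩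
  let α : (Functor.const (Finset B)).obj (CommRingCat.of A) ⟶ subalgRings S :=
    { app := fun s => CommRingCat.ofHom (algebraMap A (S s))
      naturality := fun s t h => by ext x; rfl }
  obtain ⟨s, bs, -, hbs⟩ := h (Finset B) (subalgRings S) α (subalgCocone S)
    (isColimitSubalgCocone S hcov) (𝟙 _) ∅ (by ext x; rfl)
  have hft : Algebra.FiniteType A B := ⟨⟨s, top_le_iff.mp fun x _ => by
    have e : Subtype.val (p := (· ∈ S s)) (bs.hom x) = x :=
      RingHom.congr_fun (congrArg CommRingCat.Hom.hom hbs) x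
    rw [← e]
    exact Subtype.prop (p := (· ∈ S s)) (bs.hom x)⟩⟩
  obtain ⟨n, π, hπ⟩ := Algebra.FiniteType.iff_quotient_mvPolynomial''.1 hft
  let I := RingHom.ker π.toRingHom
  let α' : (Functor.const (FGSubIdeal I)).obj (CommRingCat.of A) ⟶ quotRings I :=
    { app := fun J => CommRingCat.ofHom (algebraMap A (MvPolynomial (Fin n) A ⧸ J.1))
      naturality := fun J K h => by ext x; rfl }
  let e := Ideal.quotientKerAlgEquivOfSurjective hπ
  obtain ⟨J₀, bJ, hbJ₁, hbJ₂⟩ := h (FGSubIdeal I) (quotRings I) α' (quotCocone I)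
    (isColimitQuotCocone I) (CommRingCat.ofHom e.symm.toRingEquiv.toRingHom)
    ⟨⊥, Submodule.fg_bot, bot_le⟩ (by
      ext x
      exact e.symm.commutes x)
  let Q := MvPolynomial (Fin n) A ⧸ J₀.1
  have : Algebra.FinitePresentation A Q := Algebra.FinitePresentation.quotient J₀.2.1
  let σ : B →ₐ[A] Q :=
    { bJ.hom with commutes' := fun a => ConcreteCategory.congr_hom hbJ₁ a }
  let ρ : Q →ₐ[A] B := Ideal.Quotient.liftₐ J₀.1 π fun a ha => J₀.2.2 ha
  have hρσ : ∀ b, ρ (σ b) = b := by
    intro b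
    have hb : (Ideal.Quotient.factor J₀.2.2 (bJ b) : MvPolynomial (Fin n) A ⧸ I) = e.symm b :=
      ConcreteCategory.congr_hom hbJ₂ b
    obtain ⟨x, hx⟩ := Ideal.Quotient.mk_surjective (I := J₀.1) (bJ b)
    have : σ b = Ideal.Quotient.mk J₀.1 x := hx.symm
    rw [this]
    rw [← hx] at hb
    have := congrArg e hb
    rw [AlgEquiv.apply_symm_apply] at this
    exact this
  let rel : Fin n → Q := fun i =>
    Ideal.Quotient.mk J₀.1 (MvPolynomial.X i) - σ (π (MvPolynomial.X i))
  refine Algebra.FinitePresentation.of_surjective (f := ρ) (fun b => ⟨σ b, hρσ b⟩)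
    ⟨Finset.univ.image rel, le_antisymm ?_ ?_⟩
  · rw [Finset.coe_image, Finset.coe_univ, Set.image_univ, Ideal.span_le]
    rintro _ ⟨i, rfl⟩
    show ρ (rel i) = 0
    rw [map_sub, hρσ]
    exact sub_self _
  · intro q hq
    have key : ∀ y : Q, y - σ (ρ y) ∈ Ideal.span (Set.range rel) := by
      intro y
      obtain ⟨y, rfl⟩ := Ideal.Quotient.mk_surjective y
      rw [← Ideal.Quotient.eq_zero_iff_mem, map_sub, sub_eq_zero]
      let θ : MvPolynomial (Fin n) A →ₐ[A] Q ⧸ Ideal.span (Set.range rel) :=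
        (Ideal.Quotient.mkₐ A _).comp (Ideal.Quotient.mkₐ A J₀.1)
      let θ' : MvPolynomial (Fin n) A →ₐ[A] Q ⧸ Ideal.span (Set.range rel) :=
        (Ideal.Quotient.mkₐ A _).comp (σ.comp π)
      suffices θ = θ' from DFunLike.congr_fun this y
      refine MvPolynomial.algHom_ext fun i => ?_
      exact Ideal.Quotient.eq.mpr (Ideal.subset_span ⟨i, rfl⟩)
    have := key q
    rw [show ρ q = 0 from hq, map_zero, sub_zero] at this
    simpa using this

/-- Surjectivity of `colim Hom(T_j, X) → Hom(lim T_j, X)` for systems of affine schemes implies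
local finite presentation. -/
theorem lfp_of_lifts {X S : Scheme.{u}} (f : X ⟶ S)
    (h : ∀ (J : Type u) [Preorder J] [IsDirected J (· ≤ ·)] [Nonempty J] (D : Jᵒᵖ ⥤ Scheme.{u})
      (t : D ⟶ (Functor.const Jᵒᵖ).obj S) (c : Limits.Cone D) (_ : Limits.IsLimit c),
      (∀ j, IsAffine (D.obj j)) → ∀ (j₀ : Jᵒᵖ) (g : c.pt ⟶ X), g ≫ f = c.π.app j₀ ≫ t.app j₀ →
        ∃ (j : Jᵒᵖ) (gj : D.obj j ⟶ X), gj ≫ f = t.app j ∧ c.π.app j ≫ gj = g) :
    LocallyOfFinitePresentation f := by
  refine ⟨fun {U} hU {V} hV e => ?_⟩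
  let _ : Algebra Γ(S, U) Γ(X, V) := (f.appLE U V e).hom.toAlgebra
  refine finitePresentation_of_lifts ?_
  intro J _ _ _ F α s hs b j₀ hb
  let D : Jᵒᵖ ⥤ Scheme.{u} := F.op ⋙ Scheme.Spec
  let c : Cone D := Scheme.Spec.mapCone s.op
  have hc : IsLimit c := isLimitOfPreserves Scheme.Spec hs.op
  have (j : Jᵒᵖ) : IsAffine (D.obj j) := inferInstanceAs (IsAffine (Spec _))
  have (i j : Jᵒᵖ) (a : i ⟶ j) : IsAffineHom (D.map a) := inferInstance
  let t : D ⟶ (Functor.const Jᵒᵖ).obj S :=
    { app := fun j => Spec.map (α.app j.unop) ≫ hU.fromSpec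
      naturality := fun i j a => by
        show Spec.map (F.map a.unop) ≫ Spec.map _ ≫ _ = (Spec.map _ ≫ _) ≫ 𝟙 _
        rw [Category.comp_id, ← Category.assoc, ← Spec.map_comp, ← α.naturality]
        simp }
  have hfV : Spec.map (f.appLE U V e) ≫ hU.fromSpec = hV.fromSpec ≫ f :=
    hU.SpecMap_appLE_fromSpec f hV e
  obtain ⟨j, gj, hgj₁, hgj₂⟩ := h J D t c hc inferInstance (op j₀) (Spec.map b ≫ hV.fromSpec) (by
    show (Spec.map b ≫ hV.fromSpec) ≫ f = Spec.map (s.ι.app j₀) ≫ Spec.map (α.app j₀) ≫ hU.fromSpec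
    rw [Category.assoc, ← hfV, ← Category.assoc, ← Category.assoc, ← Spec.map_comp, ← Spec.map_comp]
    exact congrArg (Spec.map · ≫ hU.fromSpec) hb)
  obtain ⟨k, a, hk⟩ := exists_map_eq_top D c hc (i := j) (gj ⁻¹ᵁ V) (by
    rw [← Scheme.Hom.comp_preimage, hgj₂, Scheme.Hom.comp_preimage]
    refine top_le_iff.mp fun x _ => ?_
    show hV.fromSpec _ ∈ V
    exact hV.range_fromSpec.le ⟨_, rfl⟩)
  have hr : Set.range (D.map a ≫ gj) ⊆ Set.range hV.fromSpec := by
    rintro _ ⟨x, rfl⟩
    rw [hV.range_fromSpec]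
    exact hk.ge (Set.mem_univ x)
  obtain ⟨bk, hbk⟩ := Spec.map_surjective (IsOpenImmersion.lift hV.fromSpec (D.map a ≫ gj) hr)
  have hbk' : Spec.map bk ≫ hV.fromSpec = D.map a ≫ gj := by
    rw [hbk]; exact IsOpenImmersion.lift_fac _ _ _
  refine ⟨k.unop, bk, Spec.map_injective ?_, Spec.map_injective ?_⟩
  · rw [← cancel_mono hU.fromSpec, Spec.map_comp, Category.assoc]
    show Spec.map bk ≫ Spec.map (f.appLE U V e) ≫ hU.fromSpec = t.app k
    rw [hfV, ← Category.assoc, hbk', Category.assoc, hgj₁]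
    exact (t.naturality a).trans (Category.comp_id _)
  · rw [← cancel_mono hV.fromSpec, Spec.map_comp, Category.assoc, hbk', ← Category.assoc]
    show (c.π.app k ≫ D.map a) ≫ gj = _
    rw [c.w a, hgj₂]

end Groth.Agent.LimLib
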