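import Groth.Agent.DVRCrit.Basic
import Groth.Agent.SchPoints.Basic
import Groth.Agent.CycLib.Residue

/-!
# Valuative criteria tested at the generic points of the irreducible components
-/

set_option autoImplicit false
set_option linter.style.haveILetI false
universe u

open CategoryTheory CategoryTheory.Limits AlgebraicGeometry IsLocalRing TopologicalSpace

namespace Groth.Agent.LimLib.DVR

open DVRCrit

variable {X Y U : Scheme.{u}}

/-- Every point is a specialization of the generic point of an irreducible component. -/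
lemma exists_generic (x : X) :
    ∃ η : X, closure {η} ∈ irreducibleComponents (X : Type u) ∧ η ⤳ x := by
  refine ⟨(isIrreducible_irreducibleComponent (x := x)).genericPoint, ?_, ?_⟩
  · rw [isIrreducible_irreducibleComponent.isGenericPoint_genericPoint isClosed_irreducibleComponent]
    exact irreducibleComponent_mem_irreducibleComponents x
  · exact (isIrreducible_irreducibleComponent.isGenericPoint_genericPoint
      isClosed_irreducibleComponent).specializes mem_irreducibleComponent

/-- A quasi-compact morphism with dense image hits the generic points of all components. -/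
lemma exists_eq_of_denseRange (h : U ⟶ X) [QuasiCompact h] (hd : DenseRange h.base) (η : X)
    (hη : closure {η} ∈ irreducibleComponents (X : Type u)) : ∃ w, h w = η := by
  obtain ⟨w, hw⟩ := SchPoints.exists_specializes_of_mem_closure_range h (y := η) (hd η)
  refine ⟨w, ?_⟩
  have h₁ : closure {η} ⊆ closure {h w} := hw.closure_subset
  have h₂ := hη.2 isIrreducible_singleton.closure h₁
  exact ((Specializes.antisymm (specializes_iff_closure_subset.mpr h₂) hw).eq).symm

/-- Morphisms from the spectrum of a local ring agreeing after an injective ring map, and sending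
the closed point into one affine open, are equal. -/
lemma hom_ext_of_mem {R L : Type u} [CommRing R] [IsLocalRing R] [CommRing L] (φ : R →+* L)
    (hφ : Function.Injective φ) (l₁ l₂ : Spec (CommRingCat.of R) ⟶ X)
    (h : Spec.map (CommRingCat.ofHom φ) ≫ l₁ = Spec.map (CommRingCat.ofHom φ) ≫ l₂)
    {U : X.Opens} (hU : IsAffineOpen U) (hc₁ : l₁ (closedPoint R) ∈ U)
    (hc₂ : l₂ (closedPoint R) ∈ U) : l₁ = l₂ := by
  have h₁ := forall_mem_of_closedPoint (R := CommRingCat.of R) l₁ hc₁
  have h₂ := forall_mem_of_closedPoint (R := CommRingCat.of R) l₂ hc₂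
  rw [← eq_map_ev_fromSpec l₁ hU h₁, ← eq_map_ev_fromSpec l₂ hU h₂]
  congr 2
  ext a
  apply hφ
  have e := ev_congr h U (fun p => h₁ (Spec.map (CommRingCat.ofHom φ) p))
    (fun p => h₂ (Spec.map (CommRingCat.ofHom φ) p))
  rw [ev_comp _ l₁ U h₁, ev_comp _ l₂ U h₂] at e
  exact ConcreteCategory.congr_hom e a

/-- A ring map of local rings takes the closed point to the closed point if it is local. -/
lemma map_closedPoint {R S : Type u} [CommRing R] [IsLocalRing R] [CommRing S] [IsLocalRing S]
    (g : R →+* S) [IsLocalHom g] :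
    (Spec.map (CommRingCat.ofHom g)) (closedPoint S) = closedPoint R := by
  show PrimeSpectrum.comap g (closedPoint S) = closedPoint R
  exact comap_closedPoint g

section descend

variable {K L : Type u} [Field K] [Field L] (e : K →+* L) (V : ValuationSubring L)

/-- The inclusion of valuation rings over an extension of fields. -/
def comapHom : V.comap e →+* V := (e.comp (V.comap e).subtype).codRestrict V.toSubring fun a => a.2

lemma isLocalHom_comapHom : IsLocalHom (comapHom e V) := by
  refine ⟨fun a ha => ?_⟩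
  have ha0 : (a : K) ≠ 0 := fun h => not_isUnit_zero (M₀ := V)
    (by rwa [show comapHom e V a = 0 from Subtype.ext (by show e a = 0; rw [h, map_zero])] at ha)
  obtain ⟨b, hb⟩ := isUnit_iff_exists_inv.mp ha
  have hb' : e a * (b : L) = 1 := congrArg Subtype.val hb
  refine isUnit_iff_exists_inv.mpr ⟨⟨(a : K)⁻¹, ?_⟩, Subtype.ext (mul_inv_cancel₀ ha0)⟩
  rw [ValuationSubring.mem_comap, map_inv₀, inv_eq_of_mul_eq_one_right hb']
  exact b.2

/-- A lift over the bigger field gives values in the smaller valuation ring. -/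
lemma ev_mem_comap (i : Spec (CommRingCat.of K) ⟶ X) (m : Spec (CommRingCat.of V) ⟶ X)
    (hm : Spec.map (CommRingCat.ofHom V.subtype) ≫ m = Spec.map (CommRingCat.ofHom e) ≫ i)
    {O : X.Opens} (hc : m (closedPoint V) ∈ O) :
    ∃ h : ∀ p, i p ∈ O, ∀ b, (ev i O h).hom b ∈ V.comap e := by
  obtain ⟨h', hb⟩ := ev_mem_of_lift V (Spec.map (CommRingCat.ofHom e) ≫ i) m hm hc
  have h : ∀ p, i p ∈ O := fun p => by
    rw [Subsingleton.elim p (Spec.map (CommRingCat.ofHom e) default)]
    exact h' default
  refine ⟨h, fun b => ?_⟩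
  have := hb b
  rw [ev_comp _ i O h] at this
  exact this

end descend

/-- A valuation ring of a finitely generated field extension inducing a given one which is a
discrete valuation ring can be chosen discrete. -/
lemma exists_dvr_extension {K L : Type u} [Field K] [Field L] [Algebra K L]
    [Algebra.EssFiniteType K L] (A : ValuationSubring K) (hA : IsDiscreteValuationRing A) :
    ∃ A' : ValuationSubring L, IsDiscreteValuationRing A' ∧ A'.comap (algebraMap K L) = A := by
  haveI := hA
  obtain ⟨s, hs⟩ := IntermediateField.fg_top K L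
  let φ : A →+* L := (algebraMap K L).comp A.subtype
  have hgen : Subfield.closure (Set.range φ ∪ (s : Set L)) = ⊤ := by
    have h₁ : (IntermediateField.adjoin K (s : Set L)).toSubfield = ⊤ := by rw [hs]; rfl
    rw [IntermediateField.adjoin_toSubfield] at h₁
    rw [eq_top_iff, ← h₁, Subfield.closure_le]
    rintro _ (⟨k, rfl⟩ | hx)
    · rcases A.mem_or_inv_mem k with hk | hk
      · exact Subfield.subset_closure (.inl ⟨⟨k, hk⟩, rfl⟩)
      · rw [← inv_inv k, map_inv₀]
        exact inv_mem (Subfield.subset_closure (.inl ⟨⟨k⁻¹, hk⟩, rfl⟩))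
    · exact Subfield.subset_closure (.inr hx)
  obtain ⟨π, hπ⟩ := IsDiscreteValuationRing.exists_irreducible A
  obtain ⟨A', hA', hmem, hdom⟩ := exists_dvr_dominating' φ s.finite_toSet hgen
    ⟨π, hπ.not_isUnit, fun h => hπ.ne_zero (Subtype.ext ((map_eq_zero (algebraMap K L)).mp h))⟩
  refine ⟨A', hA', ?_⟩
  ext x
  refine ⟨fun hx => ?_, fun hx => hmem ⟨x, hx⟩⟩
  by_contra hxA
  have hxA' : x⁻¹ ∈ A := (A.mem_or_inv_mem x).resolve_left hxA
  have hm : (⟨x⁻¹, hxA'⟩ : A) ∈ maximalIdeal A := by
    intro hu
    obtain ⟨w, hw⟩ := isUnit_iff_exists_inv.mp hu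
    have : x⁻¹ * (w : K) = 1 := congrArg Subtype.val hw
    exact hxA (by rw [← inv_inv x, inv_eq_of_mul_eq_one_right this]; exact w.2)
  have h₁ := hdom _ hm
  have h₂ := (A'.valuation_le_one_iff _).mpr hx
  have h₃ : A'.valuation (algebraMap K L x⁻¹) * A'.valuation (algebraMap K L x) = 1 := by
    rw [← map_mul, ← map_mul, inv_mul_cancel₀ (fun h : x = 0 => hxA (h ▸ zero_mem A)), map_one, map_one]
  exact lt_irrefl _ (h₃ ▸ (mul_le_of_le_one_right' h₂).trans_lt h₁)

/-- A valuation ring extends along any extension of fields. -/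
lemma exists_valuation_extension {K L : Type u} [Field K] [Field L] (j : K →+* L)
    (V : ValuationSubring K) : ∃ B : ValuationSubring L, B.comap j = V := by
  obtain ⟨B, hB, hloc⟩ := IsLocalRing.exists_factor_valuationRing (j.comp V.subtype)
  refine ⟨B, le_antisymm (fun z hz => ?_) fun z hz => hB ⟨z, hz⟩⟩
  by_contra hzV
  have hz' : z⁻¹ ∈ V := (V.mem_or_inv_mem z).resolve_left hzV
  have hu : IsUnit (⟨z⁻¹, hz'⟩ : V) := by
    refine hloc.map_nonunit _ (isUnit_iff_exists_inv.mpr ⟨⟨j z, hz⟩, Subtype.ext ?_⟩)
    show j z⁻¹ * j z = 1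
    rw [← map_mul, inv_mul_cancel₀ (fun h : z = 0 => hzV (h ▸ zero_mem V)), map_one]
  obtain ⟨w, hw⟩ := isUnit_iff_exists_inv.mp hu
  have : z⁻¹ * (w : K) = 1 := congrArg Subtype.val hw
  exact hzV (by rw [← inv_inv z, inv_eq_of_mul_eq_one_right this]; exact w.2)

section composite

variable {L : Type u} [Field L] (W : ValuationSubring L) (B : ValuationSubring (ResidueField W))

/-- The composite of a valuation ring with a valuation ring of its residue field. -/
def composite : ValuationSubring L :=
  ValuationSubring.ofSubring ((B.toSubring.comap (IsLocalRing.residue W)).map W.subtype) fun x => by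
    have key : ∀ (w : W), ¬ IsLocalRing.residue W w ∈ B → ∃ w' : W,
        IsLocalRing.residue W w' ∈ B ∧ (w : L)⁻¹ = w' := by
      intro w hw
      have hu : IsUnit w := by
        by_contra hn
        exact hw (by rw [(IsLocalRing.residue_eq_zero_iff w).mpr hn]; exact zero_mem B)
      obtain ⟨w', hw'⟩ := isUnit_iff_exists_inv.mp hu
      refine ⟨w', ?_, inv_eq_of_mul_eq_one_right (congrArg Subtype.val hw')⟩
      have h1 : IsLocalRing.residue W w * IsLocalRing.residue W w' = 1 := by
        rw [← map_mul, hw', map_one]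
      rw [← inv_eq_of_mul_eq_one_right h1]
      exact (B.mem_or_inv_mem _).resolve_left hw
    rcases W.mem_or_inv_mem x with hx | hx
    · by_cases h : IsLocalRing.residue W ⟨x, hx⟩ ∈ B
      · exact Or.inl ⟨⟨x, hx⟩, h, rfl⟩
      · obtain ⟨w', h', e⟩ := key _ h
        exact Or.inr ⟨w', h', e.symm⟩
    · by_cases h : IsLocalRing.residue W ⟨x⁻¹, hx⟩ ∈ B
      · exact Or.inr ⟨⟨x⁻¹, hx⟩, h, rfl⟩
      · obtain ⟨w', h', e⟩ := key _ h
        exact Or.inl ⟨w', h', by rw [show (W.subtype w' : L) = w' from rfl, ← e]; exact inv_inv x⟩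

lemma mem_composite {x : L} :
    x ∈ composite W B ↔ ∃ h : x ∈ W, IsLocalRing.residue W ⟨x, h⟩ ∈ B :=
  ⟨fun ⟨w, hw, e⟩ => e ▸ ⟨w.2, hw⟩, fun ⟨h, h'⟩ => ⟨⟨x, h⟩, h', rfl⟩⟩

/-- The inclusion of the composite. -/
def compositeIncl : composite W B →+* W :=
  (composite W B).subtype.codRestrict W.toSubring fun a => ((mem_composite W B).mp a.2).fst

/-- The residue map of the composite. -/
noncomputable def compositeRes : composite W B →+* B :=
  ((IsLocalRing.residue W).comp (compositeIncl W B)).codRestrict B.toSubring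
    fun a => ((mem_composite W B).mp a.2).snd

end composite

section criteria

variable (f : X ⟶ Y) [LocallyOfFiniteType f] [IsLocallyNoetherian Y]

/-- Separatedness from uniqueness at the generic points. -/
theorem isSeparated_of_generic
    (H : ∀ η : X, closure {η} ∈ irreducibleComponents (X : Type u) →
      ∀ R : ValuationSubring (X.residueField η), IsDiscreteValuationRing R →
      ∀ g₁ g₂ : Spec (CommRingCat.of R) ⟶ X, g₁ ≫ f = g₂ ≫ f →
        Spec.map (CommRingCat.ofHom R.subtype) ≫ g₁ = X.fromSpecResidueField η →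
        Spec.map (CommRingCat.ofHom R.subtype) ≫ g₂ = X.fromSpecResidueField η → g₁ = g₂) :
    IsSeparated f := by
  haveI : IsLocallyNoetherian X := LocallyOfFiniteType.isLocallyNoetherian f
  haveI : IsLocallyNoetherian (pullback f f) :=
    LocallyOfFiniteType.isLocallyNoetherian (pullback.fst f f)
  haveI : QuasiSeparated f := by
    haveI : QuasiSeparated (f ≫ terminal.from Y) := by
      rw [terminal.hom_ext (f ≫ terminal.from Y) (terminal.from X)]
      infer_instance
    exact QuasiSeparated.of_comp f (terminal.from Y)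
  set W := pullback f f
  refine ⟨IsClosedImmersion.of_isPreimmersion _ ?_⟩
  refine ((isClosedMap_iff_specializingMap (pullback.diagonal f)).mpr ?_).isClosed_range
  intro x₀ z hz
  obtain ⟨x, hxgen, hxx₀⟩ := exists_generic x₀
  replace hz : pullback.diagonal f x₀ ⤳ z := hz
  suffices ∃ y, pullback.diagonal f y = z by
    obtain ⟨y, hy⟩ := this
    refine ⟨y, ?_, hy⟩
    show x₀ ⤳ y
    rw [← (pullback.diagonal f).isEmbedding.isInducing.specializes_iff, hy]
    exact hz
  replace hz : pullback.diagonal f x ⤳ z :=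
    (hxx₀.map (pullback.diagonal f).continuous).trans hz
  by_cases hne : z = pullback.diagonal f x
  · exact ⟨x, hne.symm⟩
  set z' := pullback.diagonal f x with hz'
  let φ : W.presheaf.stalk z ⟶ W.residueField z' :=
    W.presheaf.stalkSpecializes hz ≫ W.residue z'
  have hφ : Spec.map φ ≫ W.fromSpecStalk z = W.fromSpecResidueField z' := by
    rw [Spec.map_comp, Category.assoc, Scheme.SpecMap_stalkSpecializes_fromSpecStalk]
    rfl
  let β : W.residueField z' ⟶ X.residueField x := (pullback.diagonal f).residueFieldMap x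
  have hbij : Function.Bijective β.hom := by
    refine ⟨RingHom.injective _, fun t ↦ ?_⟩
    obtain ⟨t, rfl⟩ := X.residue_surjective x t
    obtain ⟨u, rfl⟩ := (pullback.diagonal f).stalkMap_surjective x t
    exact ⟨(pullback.diagonalObj f).residue _ u,
      ConcreteCategory.congr_hom (Scheme.residue_residueFieldMap (pullback.diagonal f) x) u⟩
  obtain ⟨O, hO, hzO, -⟩ := exists_isAffineOpen_mem_and_subset (X := W) (x := z) (U := ⊤) trivial
  have hgen₀ : Subfield.closure (Set.range φ.hom) = ⊤ := by
    have hz'O : z' ∈ O := hz.mem_open O.2 hzO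
    have hall : ∀ p, W.fromSpecResidueField z' p ∈ O := fun p ↦ by simpa using hz'O
    rw [eq_top_iff, ← closure_range_ev_residueField z' hO hall,
      ev_fromSpecResidueField hO z' hz'O]
    refine Subfield.closure_mono ?_
    rintro _ ⟨a, rfl⟩
    refine ⟨W.presheaf.germ O z hzO a, ?_⟩
    have h1 : W.presheaf.germ O z hzO ≫ φ = W.presheaf.germ O z' hz'O ≫ W.residue z' :=
      (W.presheaf.germ_stalkSpecializes_assoc _ hz _)
    exact ConcreteCategory.congr_hom h1 a
  let φ' : W.presheaf.stalk z →+* X.residueField x := β.hom.comp φ.hom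
  have hgen : Subfield.closure (Set.range φ' ∪ ∅) = ⊤ := by
    rw [Set.union_empty, show Set.range φ' = β.hom '' Set.range φ.hom from Set.range_comp β.hom φ.hom,
      ← RingHom.map_field_closure, hgen₀, ← RingHom.fieldRange_eq_map]
    exact RingHom.fieldRange_eq_top_iff.mpr hbij.2
  have hne' : ∃ a ∈ maximalIdeal (W.presheaf.stalk z), φ' a ≠ 0 := by
    by_contra! hcon
    apply hne
    have : Spec.map φ (closedPoint (W.residueField z')) = closedPoint (W.presheaf.stalk z) := by
      refine PrimeSpectrum.ext (le_antisymm (IsLocalRing.le_maximalIdeal ?_) fun a ha ↦ ?_)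
      · exact (Spec.map φ (closedPoint (W.residueField z'))).2.ne_top
      · show φ.hom a ∈ maximalIdeal (W.residueField z')
        have : β.hom (φ.hom a) = 0 := hcon a ha
        rw [(map_eq_zero β.hom).mp this]
        exact zero_mem _
    have h2 := congrArg (fun g : Spec (W.residueField z') ⟶ W ↦ g (closedPoint (W.residueField z'))) hφ
    erw [Scheme.Hom.comp_apply, this, Scheme.fromSpecStalk_closedPoint,
      Scheme.fromSpecResidueField_apply] at h2
    exact h2
  obtain ⟨R, hR, hmem, hdom⟩ := exists_dvr_dominating' φ' Set.finite_empty hgen hne'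
  haveI := hR
  let h : Spec (CommRingCat.of R) ⟶ W :=
    Spec.map (CommRingCat.ofHom (φ'.codRestrict R.toSubring hmem)) ≫ W.fromSpecStalk z
  have hh : Spec.map (CommRingCat.ofHom R.subtype) ≫ h =
      X.fromSpecResidueField x ≫ pullback.diagonal f := by
    rw [← (pullback.diagonal f).SpecMap_residueFieldMap_fromSpecResidueField x]
    erw [← hφ]
    rw [← Category.assoc, ← Category.assoc, ← Spec.map_comp, ← Spec.map_comp]
    rfl
  let c : Spec (CommRingCat.of R) := closedPoint R
  have hclosed : h c = z := by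
    have : Spec.map (CommRingCat.ofHom (φ'.codRestrict R.toSubring hmem)) c =
        closedPoint (W.presheaf.stalk z) := by
      refine PrimeSpectrum.ext (le_antisymm (IsLocalRing.le_maximalIdeal ?_) fun a ha ↦ ?_)
      · exact (Spec.map (CommRingCat.ofHom (φ'.codRestrict R.toSubring hmem)) c).2.ne_top
      · exact (R.valuation_lt_one_iff ⟨φ' a, hmem a⟩).mpr (hdom a ha)
    show (Spec.map (CommRingCat.ofHom (φ'.codRestrict R.toSubring hmem)) ≫ W.fromSpecStalk z) c = z
    rw [Scheme.Hom.comp_apply, this, Scheme.fromSpecStalk_closedPoint]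
  have heq : h ≫ pullback.fst f f = h ≫ pullback.snd f f := by
    refine H x hxgen R hR _ _ (by simp [pullback.condition]) ?_ ?_
    · erw [← Category.assoc, hh]; simp
    · erw [← Category.assoc, hh]; simp
  have hd : h = (h ≫ pullback.fst f f) ≫ pullback.diagonal f :=
    pullback.hom_ext (by simp) (by simp [heq])
  exact ⟨(h ≫ pullback.fst f f) c, by rw [← Scheme.Hom.comp_apply, ← hd, hclosed]⟩

/-- The existence part of the valuative criterion from existence at the generic points, for
separated morphisms. -/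
theorem existence_of_generic [IsSeparated f] [QuasiCompact f]
    (H : ∀ η : X, closure {η} ∈ irreducibleComponents (X : Type u) →
      ∀ R : ValuationSubring (X.residueField η), IsDiscreteValuationRing R →
      ∀ y : Spec (CommRingCat.of R) ⟶ Y,
        Spec.map (CommRingCat.ofHom R.subtype) ≫ y = X.fromSpecResidueField η ≫ f →
        ∃ l : Spec (CommRingCat.of R) ⟶ X, l ≫ f = y ∧
          Spec.map (CommRingCat.ofHom R.subtype) ≫ l = X.fromSpecResidueField η) :
    ValuativeCriterion.Existence f := by
  refine existence_of_centers f fun x O hO hx V hV => ?_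
  obtain ⟨η, hη, hspec⟩ := exists_generic x
  let k₀ : X.presheaf.stalk x ⟶ X.residueField η := X.presheaf.stalkSpecializes hspec ≫ X.residue η
  have hψ : Spec.map k₀ ≫ X.fromSpecStalk x = X.fromSpecResidueField η := by
    rw [Spec.map_comp, Category.assoc, Scheme.SpecMap_stalkSpecializes_fromSpecStalk]
    rfl
  obtain ⟨W, hW, hloc⟩ := IsLocalRing.exists_factor_valuationRing k₀.hom
  let ψ : X.presheaf.stalk x →+* W := k₀.hom.codRestrict W.toSubring hW
  haveI : IsLocalHom ψ := hloc
  -- the valuation ring `W` centred at `x`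
  let l₂ : Spec (CommRingCat.of W) ⟶ X := Spec.map (CommRingCat.ofHom ψ) ≫ X.fromSpecStalk x
  have hl₂ : Spec.map (CommRingCat.ofHom W.subtype) ≫ l₂ = X.fromSpecResidueField η := by
    rw [← hψ, ← Category.assoc, ← Spec.map_comp]
    rfl
  have hl₂c : l₂ (closedPoint W) = x := by
    show X.fromSpecStalk x (Spec.map (CommRingCat.ofHom ψ) (closedPoint W)) = x
    rw [map_closedPoint]
    exact Scheme.fromSpecStalk_closedPoint
  let j : X.residueField x →+* ResidueField W := IsLocalRing.ResidueField.map ψ
  have hj : Spec.map (CommRingCat.ofHom (IsLocalRing.residue W)) ≫ l₂ =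
      Spec.map (CommRingCat.ofHom j) ≫ X.fromSpecResidueField x := by
    show _ ≫ _ ≫ _ = _ ≫ Spec.map (X.residue x) ≫ X.fromSpecStalk x
    rw [← Category.assoc, ← Category.assoc, ← Spec.map_comp, ← Spec.map_comp]
    rfl
  obtain ⟨B, hB⟩ := exists_valuation_extension j V
  let W' := composite W B
  have hfx : f x ∈ O := by simpa using hx default
  have hηO : ∀ p, (X.fromSpecResidueField η ≫ f) p ∈ O := fun p => by
    simpa using (hspec.map f.continuous).mem_open O.2 hfx
  have hl₂O : ∀ p, (l₂ ≫ f) p ∈ O :=
    forall_mem_of_closedPoint (R := CommRingCat.of W) (l₂ ≫ f)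
      (by show f (l₂ (closedPoint W)) ∈ O; rw [hl₂c]; exact hfx)
  have hW' : ∀ a, (ev (X.fromSpecResidueField η ≫ f) O hηO).hom a ∈ W' := by
    intro a
    let b : W := (ev (l₂ ≫ f) O hl₂O).hom a
    have hb : (b : X.residueField η) = (ev (X.fromSpecResidueField η ≫ f) O hηO).hom a := by
      refine (ConcreteCategory.congr_hom ((ev_comp (CommRingCat.ofHom W.subtype) (l₂ ≫ f) O
        hl₂O).symm.trans (ev_congr ?_ O _ hηO)) a :)
      rw [← Category.assoc, hl₂]
    have hres : IsLocalRing.residue W b = j ((ev (X.fromSpecResidueField x ≫ f) O hx).hom a) := by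
      refine (ConcreteCategory.congr_hom ((ev_comp (CommRingCat.ofHom (IsLocalRing.residue W))
        (l₂ ≫ f) O hl₂O).symm.trans ((ev_congr ?_ O _ (fun p => ?_)).trans
          (ev_comp (CommRingCat.ofHom j) (X.fromSpecResidueField x ≫ f) O hx))) a :)
      · rw [← Category.assoc, hj, Category.assoc]
      · rw [Scheme.Hom.comp_apply]; exact hx _
    rw [← hb, mem_composite]
    refine ⟨b.2, ?_⟩
    rw [show (⟨(b : X.residueField η), b.2⟩ : W) = b from rfl, hres]
    exact (SetLike.ext_iff.mp hB _).mpr (hV a)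
  obtain ⟨U, hU, hUO, hηU, hmem⟩ := exists_center_of_forall_dvr f (X.fromSpecResidueField η)
    (fun U hU h => closure_range_ev_residueField η hU h) hO hηO W' hW' (fun R hR hR' => by
      obtain ⟨y, hy, hyO⟩ := exists_lift_of_ev_mem R _ hO hηO hR'
      obtain ⟨l, hl, hl'⟩ := H η hη R hR y hy
      exact ⟨l, hl', show (l ≫ f) (closedPoint R) ∈ O from hl.symm ▸ hyO _⟩)
  obtain ⟨l', hl', hl'U⟩ := exists_lift_of_ev_mem W' _ hU hηU hmem
  let l₁ : Spec (CommRingCat.of W) ⟶ X :=
    Spec.map (CommRingCat.ofHom (compositeIncl W B)) ≫ l'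
  have hl₁ : Spec.map (CommRingCat.ofHom W.subtype) ≫ l₁ = X.fromSpecResidueField η := by
    rw [← hl', ← Category.assoc, ← Spec.map_comp]
    rfl
  have hl₁₂ : l₁ ≫ f = l₂ ≫ f := by
    refine hom_ext_of_mem W.subtype Subtype.val_injective _ _ ?_ hO ?_ (hl₂O _)
    · exact (Category.assoc _ _ _).symm.trans
        ((congrArg (· ≫ f) (hl₁.trans hl₂.symm)).trans (Category.assoc _ _ _))
    · exact hUO (hl'U _)
  have heq : l₁ = l₂ := by
    let S : ValuativeCommSq f :=
      { R := W
        K := X.residueField η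
        i₁ := X.fromSpecResidueField η
        i₂ := l₁ ≫ f
        commSq := ⟨by
          show _ = Spec.map (CommRingCat.ofHom W.subtype) ≫ l₁ ≫ f
          rw [← Category.assoc, hl₁]⟩ }
    have := IsSeparated.valuativeCriterion f S
    let a₁ : S.commSq.LiftStruct := ⟨l₁, hl₁, rfl⟩
    let a₂ : S.commSq.LiftStruct := ⟨l₂, hl₂, hl₁₂.symm⟩
    exact congrArg CommSq.LiftStruct.l (Subsingleton.elim a₁ a₂)
  let m : Spec (CommRingCat.of B) ⟶ X := Spec.map (CommRingCat.ofHom (compositeRes W B)) ≫ l'
  have hm : Spec.map (CommRingCat.ofHom B.subtype) ≫ m =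
      Spec.map (CommRingCat.ofHom j) ≫ X.fromSpecResidueField x := by
    rw [← hj, ← heq]
    show _ ≫ _ ≫ l' = _ ≫ _ ≫ l'
    rw [← Category.assoc, ← Category.assoc, ← Spec.map_comp, ← Spec.map_comp]
    rfl
  obtain ⟨hxU, hmemx⟩ := ev_mem_comap j B (X.fromSpecResidueField x) m hm (O := U)
    (hl'U _)
  exact ⟨U, hU, hUO, hxU, fun b => hB ▸ hmemx b⟩

omit [IsLocallyNoetherian Y] in
/-- For a fraction ring, restrictions along the generic point are isomorphic. -/
lemma exists_fracHom {L : Type u} [Field L] (A : ValuationSubring L) :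
    ∃ e : L →+* FractionRing A, e.comp A.subtype = algebraMap A (FractionRing A) ∧
      IsIso (Spec.map (CommRingCat.ofHom e)) := by
  refine ⟨(FractionRing.algEquiv A L).symm.toRingHom,
    RingHom.ext fun r => (FractionRing.algEquiv A L).symm.commutes r, ?_⟩
  haveI : IsIso (CommRingCat.ofHom (FractionRing.algEquiv A L).symm.toRingHom) :=
    (ConcreteCategory.isIso_iff_bijective _).mpr (FractionRing.algEquiv A L).symm.bijective
  infer_instance

variable (h : U ⟶ X) [LocallyOfFiniteType h] [QuasiCompact h]

/-- Separatedness from uniqueness tested through a morphism with dense image. -/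
theorem isSeparated_of_dense (hd : DenseRange h.base)
    (H : ∀ (A : Type u) [CommRing A] [IsDomain A] [IsDiscreteValuationRing A]
      (u : Spec (CommRingCat.of (FractionRing A)) ⟶ U) (y : Spec (CommRingCat.of A) ⟶ Y),
      u ≫ h ≫ f = Spec.map (CommRingCat.ofHom (algebraMap A (FractionRing A))) ≫ y →
        ∀ l₁ l₂ : Spec (CommRingCat.of A) ⟶ X, l₁ ≫ f = y →
          Spec.map (CommRingCat.ofHom (algebraMap A (FractionRing A))) ≫ l₁ = u ≫ h →
          l₂ ≫ f = y →
          Spec.map (CommRingCat.ofHom (algebraMap A (FractionRing A))) ≫ l₂ = u ≫ h → l₁ = l₂) :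
    IsSeparated f := by
  refine isSeparated_of_generic f fun η hη R hR g₁ g₂ hf hg₁ hg₂ => ?_
  obtain ⟨w, rfl⟩ := exists_eq_of_denseRange h hd η hη
  letI : Algebra (X.residueField (h w)) (U.residueField w) := (h.residueFieldMap w).hom.toAlgebra
  haveI : Algebra.EssFiniteType (X.residueField (h w)) (U.residueField w) :=
    CycLib.residueFieldMap_essFiniteType h w
  obtain ⟨A', hA', rfl⟩ := exists_dvr_extension (L := U.residueField w) R hR
  haveI := hA'
  let ι := algebraMap (X.residueField (h w)) (U.residueField w)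
  haveI := isLocalHom_comapHom ι A'
  obtain ⟨e, he, _⟩ := exists_fracHom A'
  let p := Spec.map (CommRingCat.ofHom (comapHom ι A'))
  let u := Spec.map (CommRingCat.ofHom e) ≫ U.fromSpecResidueField w
  have hu : ∀ g, Spec.map (CommRingCat.ofHom (A'.comap ι).subtype) ≫ g =
      X.fromSpecResidueField (h w) →
      Spec.map (CommRingCat.ofHom (algebraMap A' (FractionRing A'))) ≫ p ≫ g = u ≫ h := by
    intro g hg
    rw [Category.assoc, ← h.SpecMap_residueFieldMap_fromSpecResidueField w, ← hg, ← he]
    simp only [p, ← Category.assoc, ← Spec.map_comp]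
    rfl
  have heq : p ≫ g₁ = p ≫ g₂ := H A' u (p ≫ g₁ ≫ f)
    (by rw [← Category.assoc, ← hu g₁ hg₁]; simp only [Category.assoc]) _ _
    (Category.assoc _ _ _) (hu g₁ hg₁) (by rw [Category.assoc, hf]) (hu g₂ hg₂)
  have hc : g₁ (closedPoint (A'.comap ι)) = g₂ (closedPoint (A'.comap ι)) := by
    rw [← map_closedPoint (comapHom ι A')]
    exact congrArg (fun g : Spec (CommRingCat.of A') ⟶ X => g (closedPoint A')) heq
  obtain ⟨V, hV, hxV, -⟩ := exists_isAffineOpen_mem_and_subset (X := X)
    (x := g₁ (closedPoint (A'.comap ι))) (U := ⊤) trivial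
  exact hom_ext_of_mem _ Subtype.val_injective g₁ g₂ (hg₁.trans hg₂.symm) hV hxV (hc ▸ hxV)

/-- The existence part of the valuative criterion from existence tested through a morphism with
dense image, for separated morphisms. -/
theorem existence_of_dense [IsSeparated f] [QuasiCompact f] (hd : DenseRange h.base)
    (H : ∀ (A : Type u) [CommRing A] [IsDomain A] [IsDiscreteValuationRing A]
      (u : Spec (CommRingCat.of (FractionRing A)) ⟶ U) (y : Spec (CommRingCat.of A) ⟶ Y),
      u ≫ h ≫ f = Spec.map (CommRingCat.ofHom (algebraMap A (FractionRing A))) ≫ y →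
        ∃ l : Spec (CommRingCat.of A) ⟶ X, l ≫ f = y ∧
          Spec.map (CommRingCat.ofHom (algebraMap A (FractionRing A))) ≫ l = u ≫ h) :
    ValuativeCriterion.Existence f := by
  refine existence_of_generic f fun η hη R hR y hy => ?_
  obtain ⟨w, rfl⟩ := exists_eq_of_denseRange h hd η hη
  letI : Algebra (X.residueField (h w)) (U.residueField w) := (h.residueFieldMap w).hom.toAlgebra
  haveI : Algebra.EssFiniteType (X.residueField (h w)) (U.residueField w) :=
    CycLib.residueFieldMap_essFiniteType h w
  obtain ⟨A', hA', rfl⟩ := exists_dvr_extension (L := U.residueField w) R hR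
  haveI := hA'
  let ι := algebraMap (X.residueField (h w)) (U.residueField w)
  haveI := isLocalHom_comapHom ι A'
  obtain ⟨e, he, _⟩ := exists_fracHom A'
  let p := Spec.map (CommRingCat.ofHom (comapHom ι A'))
  let u := Spec.map (CommRingCat.ofHom e) ≫ U.fromSpecResidueField w
  have h₀ : U.fromSpecResidueField w ≫ h =
      Spec.map (CommRingCat.ofHom ι) ≫ X.fromSpecResidueField (h w) :=
    (h.SpecMap_residueFieldMap_fromSpecResidueField w).symm
  obtain ⟨l', hl'f, hl'⟩ := H A' u (p ≫ y) (by
    simp only [u, Category.assoc]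
    rw [reassoc_of% h₀, ← hy, ← he]
    simp only [p, ← Category.assoc, ← Spec.map_comp]
    rfl)
  have hm : Spec.map (CommRingCat.ofHom A'.subtype) ≫ l' =
      Spec.map (CommRingCat.ofHom ι) ≫ X.fromSpecResidueField (h w) := by
    rw [← cancel_epi (Spec.map (CommRingCat.ofHom e)), ← h₀, ← Category.assoc, ← Spec.map_comp,
      ← CommRingCat.ofHom_comp, he]
    exact hl'.trans (Category.assoc _ _ _)
  obtain ⟨O, hO, hyO, -⟩ := exists_isAffineOpen_mem_and_subset (X := Y)
    (x := y (closedPoint (A'.comap ι))) (U := ⊤) trivial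
  have hfc : f (l' (closedPoint A')) = y (closedPoint (A'.comap ι)) := by
    rw [← map_closedPoint (comapHom ι A')]
    exact congrArg (fun g : Spec (CommRingCat.of A') ⟶ Y => g (closedPoint A')) hl'f
  obtain ⟨V, hV, hxV, hVO⟩ := exists_isAffineOpen_mem_and_subset (X := X)
    (x := l' (closedPoint A')) (U := f ⁻¹ᵁ O) (show f (l' (closedPoint A')) ∈ O by rwa [hfc])
  obtain ⟨hiV, hmem⟩ := ev_mem_comap ι A' (X.fromSpecResidueField (h w)) l' hm hxV
  obtain ⟨l, hl, hlV⟩ := exists_lift_of_ev_mem (A'.comap ι) _ hV hiV hmem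
  refine ⟨l, hom_ext_of_mem (A'.comap ι).subtype Subtype.val_injective _ _ ?_ hO (hVO (hlV _)) hyO, hl⟩
  exact (Category.assoc _ _ _).symm.trans ((congrArg (· ≫ f) hl).trans hy.symm)

end criteria

end Groth.Agent.LimLib.DVR
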