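import Mathlib.AlgebraicGeometry.AffineTransitionLimit

/-!
# Cofiltered limits with affine transition maps: base change and descent of properties

`bcDiag D i₀ g₀` is the base change of a diagram along `g₀ : Y₀ ⟶ D.obj i₀`, `bcCone` turns a
pullback square over the limit into a limit cone over it.  `Descends P Q` says that a morphism
satisfying `Q` at a stage, whose base change to the limit satisfies `P`, satisfies `P` after
base change to a finer stage.
-/

set_option backward.isDefEq.respectTransparency false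
set_option backward.defeqAttrib.useBackward true

universe u

open CategoryTheory Limits AlgebraicGeometry

namespace Groth.Agent.LimLib

variable {I : Type u} [SmallCategory I] (D : I ⥤ Scheme.{u})

/-- The base change of a diagram along a morphism to one of its objects. -/
@[simps]
noncomputable def bcDiag (i₀ : I) {Y₀ : Scheme.{u}} (g₀ : Y₀ ⟶ D.obj i₀) : Over i₀ ⥤ Scheme.{u} where
  obj j := pullback g₀ (D.map j.hom)
  map {j k} a := pullback.lift (pullback.fst _ _) (pullback.snd _ _ ≫ D.map a.left) (by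
    rw [pullback.condition, Category.assoc, ← D.map_comp, Over.w a])
  map_id j := by apply pullback.hom_ext <;> simp
  map_comp {j k l} a b := by apply pullback.hom_ext <;> simp

/-- The projection of the base changed diagram to the original one. -/
@[simps]
noncomputable def bcι (i₀ : I) {Y₀ : Scheme.{u}} (g₀ : Y₀ ⟶ D.obj i₀) :
    bcDiag D i₀ g₀ ⟶ Over.forget i₀ ⋙ D where
  app j := pullback.snd _ _
  naturality {j k} a := by simp

section

variable [∀ (i j : I) (f : i ⟶ j), IsAffineHom (D.map f)] (i₀ : I) {Y₀ : Scheme.{u}}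
  (g₀ : Y₀ ⟶ D.obj i₀)

instance isAffineHom_bcDiag_map (j k : Over i₀) (a : j ⟶ k) :
    IsAffineHom ((bcDiag D i₀ g₀).map a) := by
  have h : IsPullback ((bcDiag D i₀ g₀).map a) (pullback.snd g₀ (D.map j.hom))
      (pullback.snd g₀ (D.map k.hom)) (D.map a.left) := by
    apply IsPullback.of_right (h₁₂ := pullback.fst g₀ (D.map k.hom)) (v₁₃ := g₀)
      (h₂₂ := D.map k.hom) ?_ (by simp) (IsPullback.of_hasPullback _ _)
    simpa [← D.map_comp] using IsPullback.of_hasPullback g₀ (D.map j.hom)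
  exact MorphismProperty.of_isPullback h.flip (inferInstanceAs (IsAffineHom (D.map a.left)))

instance isAffineHom_fst_bc (j : Over i₀) :
    IsAffineHom (pullback.fst g₀ (D.map j.hom)) :=
  MorphismProperty.pullback_fst _ _ (inferInstanceAs (IsAffineHom (D.map j.hom)))

instance compactSpace_bcDiag [CompactSpace Y₀] (j : Over i₀) :
    CompactSpace ((bcDiag D i₀ g₀).obj j) :=
  QuasiCompact.compactSpace_of_compactSpace (pullback.fst g₀ (D.map j.hom))

instance quasiSeparatedSpace_bcDiag [QuasiSeparatedSpace Y₀] (j : Over i₀) :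
    QuasiSeparatedSpace ((bcDiag D i₀ g₀).obj j) :=
  quasiSeparatedSpace_of_quasiSeparated (pullback.fst g₀ (D.map j.hom))

instance isAffine_bcDiag [IsAffine Y₀] (j : Over i₀) :
    IsAffine ((bcDiag D i₀ g₀).obj j) :=
  isAffine_of_isAffineHom (pullback.fst g₀ (D.map j.hom))

end

variable {D} {c : Cone D} {i₀ : I} {Y₀ Y : Scheme.{u}} {g₀ : Y₀ ⟶ D.obj i₀}
  {qY : Y ⟶ Y₀} {g : Y ⟶ c.pt}

/-- The cone over the base changed diagram given by a pullback square over the limit. -/
@[simps]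
noncomputable def bcCone (hY : IsPullback qY g g₀ (c.π.app i₀)) : Cone (bcDiag D i₀ g₀) where
  pt := Y
  π :=
  { app := fun j => pullback.lift qY (g ≫ c.π.app j.left) (by
      rw [hY.w, Category.assoc, c.w])
    naturality := fun j k a => by apply pullback.hom_ext <;> simp }

lemma isPullback_bcCone (hY : IsPullback qY g g₀ (c.π.app i₀)) (j : Over i₀) :
    IsPullback ((bcCone hY).π.app j) g ((bcι D i₀ g₀).app j) (c.π.app j.left) := by
  apply IsPullback.of_right (h₁₂ := pullback.fst g₀ (D.map j.hom)) (v₁₃ := g₀)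
    (h₂₂ := D.map j.hom) ?_ (by simp) (IsPullback.of_hasPullback _ _)
  simpa using hY

attribute [local instance] CategoryTheory.isConnected_of_hasTerminal

/-- A pullback square over the limit gives a limit cone. -/
noncomputable def isLimitBcCone [IsCofiltered I] (hc : IsLimit c)
    (hY : IsPullback qY g g₀ (c.π.app i₀)) : IsLimit (bcCone hY) :=
  isLimitOfIsPullbackOfIsConnected (bcι D i₀ g₀) (bcCone hY) (c.whisker (Over.forget i₀))
    { hom := g, w := fun j => by simp }
    (fun j => isPullback_bcCone hY j)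
    ((Functor.Initial.isLimitWhiskerEquiv (Over.forget i₀) c).symm hc)

/-- If `b` factors through `a`, properties stable under base change pass from the base change
along `a` to the one along `b`. -/
lemma property_of_factor {P : MorphismProperty Scheme.{u}} [P.IsStableUnderBaseChange]
    {X S A B Xa Xb : Scheme.{u}} {f : X ⟶ S} {a : A ⟶ S} {b : B ⟶ S}
    {qa : Xa ⟶ X} {pa : Xa ⟶ A} (ha : IsPullback qa pa f a)
    {qb : Xb ⟶ X} {pb : Xb ⟶ B} (hb : IsPullback qb pb f b)
    (v : B ⟶ A) (hv : v ≫ a = b) (h : P pa) : P pb := by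
  subst hv
  have : IsPullback (ha.lift qb (pb ≫ v) (by rw [hb.w, Category.assoc])) pb pa v :=
    IsPullback.of_right (by simpa using hb) (by simp) ha
  exact P.of_isPullback this h

/-- `P` descends for morphisms satisfying `Q`, along cofiltered limits of qcqs schemes with affine
transition maps. -/
def Descends (P Q : MorphismProperty Scheme.{u}) : Prop :=
  ∀ {I : Type u} [SmallCategory I] [IsCofiltered I] (D : I ⥤ Scheme.{u}) (c : Cone D),
    IsLimit c → (∀ (i j : I) (a : i ⟶ j), IsAffineHom (D.map a)) →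
    (∀ i, CompactSpace (D.obj i)) → (∀ i, QuasiSeparatedSpace (D.obj i)) →
    ∀ (i : I) (X₀ : Scheme.{u}) (f₀ : X₀ ⟶ D.obj i), CompactSpace X₀ → QuasiSeparatedSpace X₀ →
    Q f₀ → ∀ (X : Scheme.{u}) (q : X ⟶ X₀) (f : X ⟶ c.pt), IsPullback q f f₀ (c.π.app i) → P f →
    ∃ (j : I) (φ : j ⟶ i), P (pullback.snd f₀ (D.map φ))

/-- `P` descends for morphisms satisfying `Q`, along cofiltered limits of affine schemes. -/
def DescendsAffine (P Q : MorphismProperty Scheme.{u}) : Prop :=
  ∀ {I : Type u} [SmallCategory I] [IsCofiltered I] (D : I ⥤ Scheme.{u}) (c : Cone D),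
    IsLimit c → (∀ i, IsAffine (D.obj i)) →
    ∀ (i : I) (X₀ : Scheme.{u}) (f₀ : X₀ ⟶ D.obj i), CompactSpace X₀ → QuasiSeparatedSpace X₀ →
    Q f₀ → ∀ (X : Scheme.{u}) (q : X ⟶ X₀) (f : X ⟶ c.pt), IsPullback q f f₀ (c.π.app i) → P f →
    ∃ (j : I) (φ : j ⟶ i), P (pullback.snd f₀ (D.map φ))

section stage

variable [IsCofiltered I] (hc : IsLimit c)
  [∀ (i j : I) (f : i ⟶ j), IsAffineHom (D.map f)]
  {X₀ X : Scheme.{u}} (f₀ : X₀ ⟶ Y₀) {f : X ⟶ Y} {qX : X ⟶ X₀}
  (hY : IsPullback qY g g₀ (c.π.app i₀)) (hX : IsPullback qX f f₀ qY)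
  {P Q : MorphismProperty Scheme.{u}}

omit [IsCofiltered I] [∀ (i j : I) (f : i ⟶ j), IsAffineHom (D.map f)] in
include hY hX in
lemma isPullback_bc_top :
    ∃ (q : X ⟶ pullback f₀ (pullback.fst g₀ (D.map (Over.mk (𝟙 i₀)).hom))),
      IsPullback q f (pullback.snd f₀ (pullback.fst g₀ (D.map (Over.mk (𝟙 i₀)).hom)))
        ((bcCone hY).π.app (Over.mk (𝟙 i₀))) := by
  refine ⟨pullback.lift qX (f ≫ (bcCone hY).π.app (Over.mk (𝟙 i₀))) (by simp [hX.w]), ?_⟩
  exact IsPullback.of_right (by simpa using hX) (by simp) (IsPullback.of_hasPullback _ _)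

omit [IsCofiltered I] [∀ (i j : I) (f : i ⟶ j), IsAffineHom (D.map f)] in
lemma exists_stage_of_bc [P.RespectsIso]
    (H : ∃ (j : Over i₀) (φ : j ⟶ Over.mk (𝟙 i₀)),
      P (pullback.snd (pullback.snd f₀ (pullback.fst g₀ (D.map (Over.mk (𝟙 i₀)).hom)))
        ((bcDiag D i₀ g₀).map φ))) :
    ∃ (i : I) (φ : i ⟶ i₀) (Xi Yi : Scheme.{u}) (fi : Xi ⟶ Yi) (gi : Yi ⟶ D.obj i)
      (pY : Yi ⟶ Y₀) (pX : Xi ⟶ X₀),
      IsPullback pY gi g₀ (D.map φ) ∧ IsPullback pX fi f₀ pY ∧ P fi := by
  obtain ⟨j, φ, h⟩ := H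
  refine ⟨j.left, j.hom, _, pullback g₀ (D.map j.hom), _, pullback.snd _ _, pullback.fst _ _,
    pullback.fst (pullback.snd f₀ (pullback.fst g₀ (D.map (Over.mk (𝟙 i₀)).hom)))
      ((bcDiag D i₀ g₀).map φ) ≫ pullback.fst _ _,
    IsPullback.of_hasPullback _ _, ?_, h⟩
  simpa using (IsPullback.of_hasPullback _ ((bcDiag D i₀ g₀).map φ)).paste_horiz
    (IsPullback.of_hasPullback f₀ (pullback.fst g₀ (D.map (Over.mk (𝟙 i₀)).hom)))

include hc hY hX in
/-- The descent property, in the form of a base change of a morphism over a stage. -/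
lemma Descends.exists_stage [P.RespectsIso] [Q.IsStableUnderBaseChange] (h : Descends P Q)
    [CompactSpace Y₀] [QuasiSeparatedSpace Y₀] [CompactSpace X₀] [QuasiSeparatedSpace X₀]
    (hQ : Q f₀) (hP : P f) :
    ∃ (i : I) (φ : i ⟶ i₀) (Xi Yi : Scheme.{u}) (fi : Xi ⟶ Yi) (gi : Yi ⟶ D.obj i)
      (pY : Yi ⟶ Y₀) (pX : Xi ⟶ X₀),
      IsPullback pY gi g₀ (D.map φ) ∧ IsPullback pX fi f₀ pY ∧ P fi := by
  obtain ⟨q, hq⟩ := isPullback_bc_top f₀ hY hX
  exact exists_stage_of_bc f₀ (h (bcDiag D i₀ g₀) (bcCone hY) (isLimitBcCone hc hY)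
    (fun j k a => inferInstance) inferInstance inferInstance _ _ _
    (QuasiCompact.compactSpace_of_compactSpace (pullback.fst f₀ _))
    (quasiSeparatedSpace_of_quasiSeparated (pullback.fst f₀ _))
    (Q.pullback_snd _ _ hQ) X q f hq hP)

include hc hY hX in
lemma DescendsAffine.exists_stage [P.RespectsIso] [Q.IsStableUnderBaseChange]
    (h : DescendsAffine P Q) [IsAffine Y₀] [CompactSpace X₀] [QuasiSeparatedSpace X₀]
    (hQ : Q f₀) (hP : P f) :
    ∃ (i : I) (φ : i ⟶ i₀) (Xi Yi : Scheme.{u}) (fi : Xi ⟶ Yi) (gi : Yi ⟶ D.obj i)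
      (pY : Yi ⟶ Y₀) (pX : Xi ⟶ X₀),
      IsPullback pY gi g₀ (D.map φ) ∧ IsPullback pX fi f₀ pY ∧ P fi := by
  obtain ⟨q, hq⟩ := isPullback_bc_top f₀ hY hX
  exact exists_stage_of_bc f₀ (h (bcDiag D i₀ g₀) (bcCone hY) (isLimitBcCone hc hY)
    inferInstance _ _ _
    (QuasiCompact.compactSpace_of_compactSpace (pullback.fst f₀ _))
    (quasiSeparatedSpace_of_quasiSeparated (pullback.fst f₀ _))
    (Q.pullback_snd _ _ hQ) X q f hq hP)

end stage

/-- A property local on the target descends as soon as it does so over affine diagrams. -/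
theorem Descends.of_affine {P Q : MorphismProperty Scheme.{u}} [IsZariskiLocalAtTarget P]
    [P.IsStableUnderBaseChange] [Q.IsStableUnderBaseChange] (h : DescendsAffine P Q) :
    Descends P Q := by
  intro I _ _ D c hc hD hqc hqs i X₀ f₀ _ _ hQ X q f hf hP
  let 𝒰 := (D.obj i).affineCover.finiteSubcover
  have (a : 𝒰.I₀) : IsAffine (𝒰.X a) := inferInstanceAs (IsAffine (Spec _))
  have key (a : 𝒰.I₀) : ∃ (j : I) (φ : j ⟶ i), P (pullback.snd f₀
      (pullback.fst (𝒰.f a) (D.map φ) ≫ 𝒰.f a)) := by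
    have : CompactSpace ↑(pullback f₀ (𝒰.f a)) :=
      QuasiCompact.compactSpace_of_compactSpace (pullback.fst f₀ (𝒰.f a))
    have : QuasiSeparatedSpace ↑(pullback f₀ (𝒰.f a)) :=
      quasiSeparatedSpace_of_quasiSeparated (pullback.fst f₀ (𝒰.f a))
    have hY := IsPullback.of_hasPullback (𝒰.f a) (c.π.app i)
    let qX : pullback f (pullback.snd (𝒰.f a) (c.π.app i)) ⟶ pullback f₀ (𝒰.f a) :=
      pullback.lift (pullback.fst _ _ ≫ q) (pullback.snd _ _ ≫ pullback.fst _ _) (by
        rw [Category.assoc, hf.w, pullback.condition_assoc, Category.assoc, ← pullback.condition])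
    have hX : IsPullback qX (pullback.snd f (pullback.snd (𝒰.f a) (c.π.app i)))
        (pullback.snd f₀ (𝒰.f a)) (pullback.fst (𝒰.f a) (c.π.app i)) := by
      refine IsPullback.of_right ?_ (by simp [qX]) (IsPullback.of_hasPullback _ _)
      simpa [qX, pullback.condition] using (IsPullback.of_hasPullback _ _).paste_horiz hf
    obtain ⟨j, φ, Xj, Yj, fj, gj, pY, pX, hYj, hXj, hPj⟩ :=
      h.exists_stage hc (pullback.snd f₀ (𝒰.f a)) hY hX (Q.pullback_snd _ _ hQ)
        (P.pullback_snd _ _ hP)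
    refine ⟨j, φ, property_of_factor (hXj.paste_horiz (IsPullback.of_hasPullback _ _))
      (IsPullback.of_hasPullback _ _) hYj.isoPullback.inv (by simp) hPj⟩
  choose j φ hj using key
  obtain ⟨k, φ₀, ψ, hψ⟩ := IsCofiltered.wideCospan φ
  refine ⟨k, φ₀, IsZariskiLocalAtTarget.of_openCover (P := P) (𝒰.pullback₁ (D.map φ₀)) fun a => ?_⟩
  refine property_of_factor (IsPullback.of_hasPullback _ _)
    ((IsPullback.of_hasPullback _ _).paste_horiz (IsPullback.of_hasPullback f₀ (D.map φ₀)))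
    (pullback.lift (pullback.snd _ _) (pullback.fst _ _ ≫ D.map (ψ a))
      (by rw [← pullback.condition, Category.assoc, ← D.map_comp, hψ])) ?_ (hj a)
  dsimp only [Precoverage.ZeroHypercover.pullback₁_toPreZeroHypercover,
    PreZeroHypercover.pullback₁_f]
  rw [pullback.lift_fst_assoc, ← pullback.condition]

end Groth.Agent.LimLib
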