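import Groth.Agent.LimLib.Basic
import Mathlib.AlgebraicGeometry.Morphisms.Finite

/-!
# Descent of closed immersions, affine and finite morphisms along affine-transition limits
-/

set_option backward.isDefEq.respectTransparency false
set_option backward.defeqAttrib.useBackward true

universe u

open CategoryTheory Limits AlgebraicGeometry

namespace Groth.Agent.LimLib

/-- In a pushout square of commutative rings, the images of the two legs generate. -/
lemma closure_range_union_of_isPushout {A B C P : CommRingCat.{u}} {f : A ⟶ B} {g : A ⟶ C}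
    {inl : B ⟶ P} {inr : C ⟶ P} (h : IsPushout f g inl inr) :
    Subring.closure (Set.range inl.hom ∪ Set.range inr.hom) = ⊤ := by
  set T := Subring.closure (Set.range inl.hom ∪ Set.range inr.hom)
  let a : B ⟶ CommRingCat.of T := CommRingCat.ofHom
    (inl.hom.codRestrict T fun x => Subring.subset_closure (Or.inl ⟨x, rfl⟩))
  let b : C ⟶ CommRingCat.of T := CommRingCat.ofHom
    (inr.hom.codRestrict T fun x => Subring.subset_closure (Or.inr ⟨x, rfl⟩))
  have w : f ≫ a = g ≫ b := by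
    ext x
    exact congr($(h.w).hom x)
  have hd : h.desc a b w ≫ CommRingCat.ofHom T.subtype = 𝟙 P := by
    apply h.hom_ext
    · rw [IsPushout.inl_desc_assoc, Category.comp_id]; rfl
    · rw [IsPushout.inr_desc_assoc, Category.comp_id]; rfl
  refine eq_top_iff.mpr fun x _ => ?_
  have := congr($(hd).hom x)
  simp only [CommRingCat.hom_comp, CommRingCat.hom_id, RingHom.comp_apply, RingHom.id_apply] at this
  exact this ▸ ((h.desc a b w).hom x).2

/-- A finite type ring map has a finite set generating together with its range. -/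
lemma exists_finset_closure_of_finiteType {R S : Type u} [CommRing R] [CommRing S] (f : R →+* S)
    (hf : f.FiniteType) :
    ∃ s : Finset S, Subring.closure (Set.range f ∪ ↑s) = ⊤ := by
  algebraize [f]
  obtain ⟨s, hs⟩ := Algebra.FiniteType.out (R := R) (A := S)
  refine ⟨s, ?_⟩
  have := congrArg Subalgebra.toSubring hs
  rwa [Algebra.adjoin_eq_ring_closure, Algebra.top_toSubring] at this

variable {I : Type u} [SmallCategory I] [IsCofiltered I] {D : I ⥤ Scheme.{u}} {c : Cone D}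

/-- Finitely many global sections of the limit of an affine diagram come from one stage. -/
lemma exists_lifts_over (hc : IsLimit c) [∀ i, IsAffine (D.obj i)] (i : I) {ι : Type*} [Finite ι]
    (x : ι → Γ(c.pt, ⊤)) :
    ∃ (j : I) (φ : j ⟶ i) (t : ι → Γ(D.obj j, ⊤)), ∀ a, (c.π.app j).appTop (t a) = x a := by
  choose k y hy using fun a => exists_appTop_π_eq_of_isAffine_of_isLimit D c hc (x a)
  choose k' e₁ e₂ _h using fun a => IsCofilteredOrEmpty.cone_objs (k a) i
  obtain ⟨j, φ, ψ, hψ⟩ := IsCofiltered.wideCospan e₂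
  refine ⟨j, φ, fun a => (D.map (ψ a ≫ e₁ a)).appTop (y a), fun a => ?_⟩
  rw [← CommRingCat.comp_apply, ← Scheme.Hom.comp_appTop, c.w]
  exact hy a

/-- Finitely many sections at a stage vanishing on the limit vanish at one finer stage. -/
lemma exists_vanish (hc : IsLimit c) [∀ i, IsAffine (D.obj i)] (i : I) {ι : Type*} [Finite ι]
    (x : ι → Γ(D.obj i, ⊤)) (hx : ∀ a, (c.π.app i).appTop (x a) = 0) :
    ∃ (j : I) (φ : j ⟶ i), ∀ a, (D.map φ).appTop (x a) = 0 := by
  choose k f hf using fun a =>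
    exists_appTop_map_eq_zero_of_isAffine_of_isLimit D c hc i (x a) (hx a)
  obtain ⟨j, φ, ψ, hψ⟩ := IsCofiltered.wideCospan f
  refine ⟨j, φ, fun a => ?_⟩
  rw [← hψ a, D.map_comp, Scheme.Hom.comp_appTop, CommRingCat.comp_apply, hf, map_zero]

variable {i : I} {X₀ X : Scheme.{u}} {f₀ : X₀ ⟶ D.obj i} {q : X ⟶ X₀} {f : X ⟶ c.pt}

omit [IsCofiltered I] in
/-- Composites of maps on global sections. -/
lemma appTop_apply {A B C : Scheme.{u}} (a : A ⟶ B) (b : B ⟶ C) (z : Γ(C, ⊤)) :
    a.appTop (b.appTop z) = (a ≫ b).appTop z := by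
  rw [Scheme.Hom.comp_appTop, CommRingCat.comp_apply]

/-- Finitely many sections at a stage of a base change vanishing on the limit vanish later. -/
lemma exists_vanish_bc (hc : IsLimit c) [∀ i, IsAffine (D.obj i)] [IsAffine X₀]
    (hf : IsPullback q f f₀ (c.π.app i)) {j : I} (φ : j ⟶ i) {ι : Type*} [Finite ι]
    (d : ι → Γ(pullback f₀ (D.map φ), ⊤))
    (hd : ∀ (m : X ⟶ pullback f₀ (D.map φ)), m ≫ pullback.fst _ _ = q →
      m ≫ pullback.snd _ _ = f ≫ c.π.app j → ∀ a, m.appTop (d a) = 0) :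
    ∃ (k : I) (ψ : k ⟶ j) (v : pullback f₀ (D.map (ψ ≫ φ)) ⟶ pullback f₀ (D.map φ)),
      v ≫ pullback.fst _ _ = pullback.fst _ _ ∧ v ≫ pullback.snd _ _ = pullback.snd _ _ ≫ D.map ψ ∧
      ∀ a, v.appTop (d a) = 0 := by
  obtain ⟨k, ψ, hk⟩ := exists_vanish (isLimitBcCone hc hf) (Over.mk φ) d fun a =>
    hd ((bcCone hf).π.app (Over.mk φ)) (pullback.lift_fst _ _ _) (pullback.lift_snd _ _ _) a
  obtain ⟨k₀, ⟨⟨⟩⟩, kh⟩ := k
  obtain ⟨ψ₀, e, rfl⟩ : ∃ (ψ₀ : k₀ ⟶ j) (e : ψ₀ ≫ φ = kh), ψ = Over.homMk ψ₀ e :=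
    ⟨ψ.left, Over.w ψ, by ext; rfl⟩
  subst e
  exact ⟨k₀, ψ₀, (bcDiag D i f₀).map (Over.homMk ψ₀ rfl : Over.mk (ψ₀ ≫ φ) ⟶ Over.mk φ),
    pullback.lift_fst _ _ _, pullback.lift_snd _ _ _, hk⟩

/-- `DescendsAffine` for affine morphisms, with no finiteness. -/
theorem descendsAffine_isAffineHom : DescendsAffine.{u} @IsAffineHom ⊤ := by
  intro I _ _ D c hc hD i X₀ f₀ _ _ _ X q f hf hP
  have : IsAffine c.pt := Scheme.isAffine_of_isLimit _ hc
  have : IsAffine (bcCone hf).pt := isAffine_of_isAffineHom f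
  obtain ⟨j, hj⟩ := Scheme.exists_isAffine_of_isLimit _ _ (isLimitBcCone hc hf)
  have : IsAffine (pullback f₀ (D.map j.hom)) := hj
  exact ⟨j.left, j.hom, inferInstance⟩

/-- To descend a property implying affineness one may assume that the source is affine. -/
theorem DescendsAffine.of_isAffine {P Q : MorphismProperty Scheme.{u}}
    [P.IsStableUnderBaseChange] [Q.IsStableUnderBaseChange] (hPA : P ≤ @IsAffineHom)
    (h : ∀ {I : Type u} [SmallCategory I] [IsCofiltered I] (D : I ⥤ Scheme.{u}) (c : Cone D),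
      IsLimit c → ∀ [∀ i, IsAffine (D.obj i)] (i : I) (X₀ : Scheme.{u}) [IsAffine X₀]
      (f₀ : X₀ ⟶ D.obj i), Q f₀ → ∀ (X : Scheme.{u}) (q : X ⟶ X₀) (f : X ⟶ c.pt),
      IsPullback q f f₀ (c.π.app i) → P f →
      ∃ (j : I) (φ : j ⟶ i), P (pullback.snd f₀ (D.map φ))) :
    DescendsAffine P Q := by
  intro I _ _ D c hc hD i X₀ f₀ hc₁ hc₂ hQ X q f hf hP
  obtain ⟨j, φ, hj⟩ := descendsAffine_isAffineHom D c hc hD i X₀ f₀ hc₁ hc₂ trivial X q f hf
    (hPA _ hP)
  have : IsAffine (pullback f₀ (D.map φ)) := isAffine_of_isAffineHom (pullback.snd f₀ (D.map φ))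
  have hf' : IsPullback (pullback.lift q (f ≫ c.π.app j) (by rw [hf.w, Category.assoc, c.w])) f
      (pullback.snd f₀ (D.map φ)) (c.π.app j) := by
    refine IsPullback.of_right ?_ (by simp) (IsPullback.of_hasPullback _ _)
    simpa using hf
  obtain ⟨k, ψ, hk⟩ := h D c hc j _ _ (Q.pullback_snd _ _ hQ) X _ f hf' hP
  refine ⟨k, ψ ≫ φ, property_of_factor
    ((IsPullback.of_hasPullback _ (D.map ψ)).paste_horiz (IsPullback.of_hasPullback f₀ (D.map φ)))
    (IsPullback.of_hasPullback f₀ (D.map (ψ ≫ φ))) (𝟙 _) (by simp) hk⟩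

omit [IsCofiltered I] in
/-- Each stage of a base change is generated by generators of the original morphism. -/
lemma eq_top_of_subring [∀ i, IsAffine (D.obj i)] [IsAffine X₀] {j : I} (φ : j ⟶ i)
    {s : Set Γ(X₀, ⊤)} (hs : Subring.closure (Set.range f₀.appTop.hom ∪ s) = ⊤)
    (T : Subring Γ(pullback f₀ (D.map φ), ⊤))
    (h₁ : ∀ y, (pullback.snd f₀ (D.map φ)).appTop.hom y ∈ T)
    (h₂ : ∀ x ∈ s, (pullback.fst f₀ (D.map φ)).appTop.hom x ∈ T) : T = ⊤ := by
  rw [eq_top_iff, ← closure_range_union_of_isPushout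
    (isPushout_appTop_of_isPullback (IsPullback.of_hasPullback f₀ (D.map φ))),
    Subring.closure_le]
  rintro _ (⟨x, rfl⟩ | ⟨y, rfl⟩)
  · suffices Subring.closure (Set.range f₀.appTop.hom ∪ s) ≤
        T.comap (pullback.fst f₀ (D.map φ)).appTop.hom from this (hs ▸ Subring.mem_top x)
    rw [Subring.closure_le]
    rintro _ (⟨z, rfl⟩ | hz)
    · show _ ∈ T
      rw [← CommRingCat.comp_apply, ← Scheme.Hom.comp_appTop, pullback.condition,
        Scheme.Hom.comp_appTop, CommRingCat.comp_apply]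
      exact h₁ _
    · exact h₂ _ hz
  · exact h₁ y

/-- Closed immersions descend for morphisms locally of finite type. -/
theorem descendsAffine_isClosedImmersion :
    DescendsAffine.{u} @IsClosedImmersion @LocallyOfFiniteType := by
  refine DescendsAffine.of_isAffine (fun _ _ f hf => by have := hf; infer_instance) ?_
  intro I _ _ D c hc _ i X₀ _ f₀ hQ X q f hf hP
  have : IsAffine c.pt := Scheme.isAffine_of_isLimit _ hc
  obtain ⟨-, hsurj⟩ := IsClosedImmersion.isAffine_surjective_of_isAffine f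
  obtain ⟨s, hs⟩ := exists_finset_closure_of_finiteType f₀.appTop.hom
    (HasRingHomProperty.appTop (P := @LocallyOfFiniteType) f₀ hQ)
  choose y hy using fun x : s => hsurj (q.appTop x.1)
  obtain ⟨j, φ, t, ht⟩ := exists_lifts_over hc i y
  obtain ⟨k, ψ, v, hv₁, hv₂, hk⟩ := exists_vanish_bc hc hf φ (fun x : s =>
    (pullback.snd f₀ (D.map φ)).appTop (t x) - (pullback.fst f₀ (D.map φ)).appTop x.1)
    fun m hm₁ hm₂ x => by
      rw [map_sub, sub_eq_zero, appTop_apply, appTop_apply, hm₁, hm₂, ← appTop_apply]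
      exact (congrArg f.appTop (ht x)).trans (hy x)
  refine ⟨k, ψ ≫ φ, IsClosedImmersion.of_surjective_of_isAffine _ ?_⟩
  refine RingHom.range_eq_top.mp ?_
  refine eq_top_of_subring (ψ ≫ φ) hs _ (fun y => ⟨y, rfl⟩) fun x hx =>
    ⟨(D.map ψ).appTop (t ⟨x, hx⟩), ?_⟩
  have := hk ⟨x, hx⟩
  rw [map_sub, sub_eq_zero, appTop_apply, appTop_apply, hv₁, hv₂, ← appTop_apply] at this
  exact this

/-- Finite morphisms descend for morphisms locally of finite type. -/
theorem descendsAffine_isFinite :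
    DescendsAffine.{u} @IsFinite @LocallyOfFiniteType := by
  refine DescendsAffine.of_isAffine (fun _ _ f hf => by have := hf; infer_instance) ?_
  intro I _ _ D c hc _ i X₀ _ f₀ hQ X q f hf hP
  have : IsAffine c.pt := Scheme.isAffine_of_isLimit _ hc
  have hint := (f.finite_appTop).to_isIntegral
  obtain ⟨s, hs⟩ := exists_finset_closure_of_finiteType f₀.appTop.hom
    (HasRingHomProperty.appTop (P := @LocallyOfFiniteType) f₀ hQ)
  choose p hpm hp using fun x : s => hint (q.appTop x.1)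
  obtain ⟨j, φ, t, ht⟩ := exists_lifts_over hc i
    (fun a : Σ x : s, Fin ((p x).natDegree + 1) => (p a.1).coeff a.2)
  have hlift (x : s) : ∃ r : Polynomial Γ(D.obj j, ⊤),
      r.map (c.π.app j).appTop.hom = p x ∧ r.Monic := by
    have hl : p x ∈ Polynomial.lifts (c.π.app j).appTop.hom := by
      rw [Polynomial.lifts_iff_coeff_lifts]
      intro n
      by_cases hn : n < (p x).natDegree + 1
      · exact ⟨_, ht ⟨x, n, hn⟩⟩
      · exact ⟨0, by rw [map_zero, Polynomial.coeff_eq_zero_of_natDegree_lt (Nat.le_of_not_lt hn)]⟩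
    obtain ⟨r, hr, -, hm⟩ := Polynomial.lifts_and_natDegree_eq_and_monic hl (hpm x)
    exact ⟨r, hr, hm⟩
  choose r hr hrm using hlift
  have key {A : Scheme.{u}} (v : A ⟶ pullback f₀ (D.map φ)) (a : A ⟶ D.obj j) (b : A ⟶ X₀)
      (h₁ : v ≫ pullback.snd _ _ = a) (h₂ : v ≫ pullback.fst _ _ = b) (r : Polynomial Γ(D.obj j, ⊤))
      (z : Γ(X₀, ⊤)) :
      v.appTop (r.eval₂ (pullback.snd f₀ (D.map φ)).appTop.hom
        ((pullback.fst f₀ (D.map φ)).appTop z)) = r.eval₂ a.appTop.hom (b.appTop z) := by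
    subst h₁; subst h₂
    exact (Polynomial.hom_eval₂ r _ v.appTop.hom _).trans (by
      rw [← CommRingCat.hom_comp, ← Scheme.Hom.comp_appTop, ← appTop_apply])
  obtain ⟨k, ψ, v, hv₁, hv₂, hk⟩ := exists_vanish_bc hc hf φ (fun x : s =>
    (r x).eval₂ (pullback.snd f₀ (D.map φ)).appTop.hom ((pullback.fst f₀ (D.map φ)).appTop x.1))
    fun m hm₁ hm₂ x => by
      rw [key m _ _ hm₂ hm₁, Scheme.Hom.comp_appTop, CommRingCat.hom_comp, ← Polynomial.eval₂_map,
        hr]
      exact hp x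
  refine ⟨k, ψ ≫ φ, ?_⟩
  rw [HasAffineProperty.iff_of_isAffine (P := @IsFinite)]
  refine ⟨inferInstance, RingHom.IsIntegral.to_finite ?_
    (HasRingHomProperty.appTop (P := @LocallyOfFiniteType) _
      (MorphismProperty.pullback_snd _ _ hQ))⟩
  intro z
  let _ := (pullback.snd f₀ (D.map (ψ ≫ φ))).appTop.hom.toAlgebra
  have := eq_top_of_subring (ψ ≫ φ) hs
    (integralClosure Γ(D.obj k, ⊤) Γ(pullback f₀ (D.map (ψ ≫ φ)), ⊤)).toSubring
    (fun y => isIntegral_algebraMap (x := y)) fun x hx => ?_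
  · exact this.ge (Subring.mem_top z)
  refine ⟨(r ⟨x, hx⟩).map (D.map ψ).appTop.hom, (hrm _).map _, ?_⟩
  rw [Polynomial.eval₂_map, ← hk ⟨x, hx⟩, key v _ _ hv₂ hv₁, Scheme.Hom.comp_appTop,
    CommRingCat.hom_comp]
  rfl

end Groth.Agent.LimLib
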