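import Groth.Agent.LimLib.OpensLimit
import Groth.Agent.LimLib.Sections
import Mathlib.AlgebraicGeometry.Morphisms.SchemeTheoreticallyDominant
import Mathlib.Algebra.Category.Ring.FilteredColimits

/-!
# Morphisms from an affine scheme to schemes of finite type, for unions of subalgebras of a domain
-/

set_option backward.isDefEq.respectTransparency false
set_option backward.defeqAttrib.useBackward true
set_option maxHeartbeats 800000

universe u

open CategoryTheory Limits AlgebraicGeometry TopologicalSpace Opposite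

namespace Groth.Agent.LimLib

/-- Over an affine system with injective maps to the sections of the limit, morphisms to affine
schemes of finite type descend. -/
lemma exists_hom_of_injective {J : Type u} [SmallCategory J] [IsCofiltered J] {E : J ⥤ Scheme.{u}}
    {e : Cone E} (he : IsLimit e) [∀ j, IsAffine (E.obj j)] {T : Scheme.{u}} [IsAffine T]
    (t : E ⟶ (Functor.const J).obj T) (hinj : ∀ j, Function.Injective (e.π.app j).appTop.hom)
    {U : Scheme.{u}} [IsAffine U] (p : U ⟶ T) [LocallyOfFiniteType p] (m : e.pt ⟶ U) (j₀ : J)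
    (hm : m ≫ p = e.π.app j₀ ≫ t.app j₀) :
    ∃ (j : J) (_ : j ⟶ j₀) (g : E.obj j ⟶ U), g ≫ p = t.app j ∧ e.π.app j ≫ g = m := by
  have : IsAffine e.pt := Scheme.isAffine_of_isLimit _ he
  obtain ⟨s, hs⟩ := exists_finset_closure_of_finiteType p.appTop.hom
    (HasRingHomProperty.appTop (P := @LocallyOfFiniteType) _ inferInstance)
  obtain ⟨j, φ, y, hy⟩ := exists_lifts_over he j₀ (fun z : s => m.appTop z.1)
  have hφ : e.π.app j ≫ t.app j = m ≫ p := by
    rw [hm, ← e.w φ, Category.assoc]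
    congr 1
    simp
  have hrange : ∀ z, m.appTop.hom z ∈ (e.π.app j).appTop.hom.range := by
    intro z
    have : Subring.closure (Set.range p.appTop.hom ∪ s) ≤
        (e.π.app j).appTop.hom.range.comap m.appTop.hom := by
      rw [Subring.closure_le]
      rintro _ (⟨v, rfl⟩ | hx)
      · refine ⟨(t.app j).appTop v, ?_⟩
        exact (appTop_apply _ _ _).trans ((congrArg (fun r => (Scheme.Hom.appTop r).hom v) hφ).trans
          (appTop_apply _ _ _).symm)
      · exact ⟨y ⟨_, hx⟩, hy ⟨_, hx⟩⟩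
    exact this (hs ▸ Subring.mem_top z)
  let ψ : Γ(U, ⊤) →+* Γ(E.obj j, ⊤) :=
    (RingEquiv.ofBijective (e.π.app j).appTop.hom.rangeRestrict
      ⟨fun a b h => hinj j (congrArg Subtype.val h),
        (e.π.app j).appTop.hom.rangeRestrict_surjective⟩).symm.toRingHom.comp
      (m.appTop.hom.codRestrict _ hrange)
  have hψ : ∀ z, (e.π.app j).appTop.hom (ψ z) = m.appTop.hom z := fun z =>
    congrArg Subtype.val ((RingEquiv.ofBijective (e.π.app j).appTop.hom.rangeRestrict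
      ⟨fun a b h => hinj j (congrArg Subtype.val h),
        (e.π.app j).appTop.hom.rangeRestrict_surjective⟩).apply_symm_apply _)
  obtain ⟨g, hg⟩ : ∃ g : E.obj j ⟶ U, g.appTop.hom = ψ := by
    refine ⟨(E.obj j).isoSpec.hom ≫ Spec.map (CommRingCat.ofHom ψ) ≫ U.isoSpec.inv, ?_⟩
    ext z
    simp [Scheme.isoSpec, Scheme.toSpecΓ_appTop]
    congr 1
    have e : inv (U.toSpecΓ.app ⊤) ≫ (Scheme.ΓSpecIso Γ(U, ⊤)).hom = 𝟙 _ := by
      rw [IsIso.inv_comp_eq, Category.comp_id]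
      exact (Scheme.toSpecΓ_appTop U).symm
    exact ConcreteCategory.congr_hom e z
  refine ⟨j, φ, g, ?_, ?_⟩
  · refine ext_of_isAffine ?_
    ext z
    apply hinj j
    show (e.π.app j).appTop.hom (g.appTop.hom (p.appTop.hom z)) =
      (e.π.app j).appTop.hom ((t.app j).appTop.hom z)
    rw [hg, hψ]
    exact (appTop_apply _ _ _).trans (((congrArg (fun r => (Scheme.Hom.appTop r).hom z) hφ).symm).trans
      (appTop_apply _ _ _).symm)
  · refine ext_of_isAffine ?_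
    ext z
    rw [Scheme.Hom.comp_appTop, CommRingCat.hom_comp, RingHom.comp_apply, hg]
    exact hψ z

/-- Morphisms on finitely many opens of a stage covering the limit, which agree with a morphism on
the limit, glue at a finer stage. -/
theorem exists_glue_stage {I : Type u} [SmallCategory I] [IsCofiltered I] {B : Scheme.{u}}
    {D : I ⥤ Scheme.{u}} [∀ (i j : I) (a : i ⟶ j), IsAffineHom (D.map a)]
    [∀ i, CompactSpace (D.obj i)] (t : D ⟶ (Functor.const I).obj B) {c : Cone D} (hc : IsLimit c)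
    {X : Scheme.{u}} (f : X ⟶ B) [LocallyOfFiniteType f] (g : c.pt ⟶ X) {l : I} {ι : Type u}
    [Finite ι] (W : ι → (D.obj l).Opens)
    (hWc : ∀ x y, IsCompact ((W x ⊓ W y : (D.obj l).Opens) : Set (D.obj l)))
    (hcov : ⨆ x, c.π.app l ⁻¹ᵁ W x = ⊤) (a : ∀ x, (W x : Scheme.{u}) ⟶ X)
    (ha_f : ∀ x, a x ≫ f = (W x).ι ≫ t.app l)
    (ha_c : ∀ x, (c.π.app l).resLE (W x) (c.π.app l ⁻¹ᵁ W x) le_rfl ≫ a x =
      (c.π.app l ⁻¹ᵁ W x).ι ≫ g) :
    ∃ (q : I) (_ : q ⟶ l) (g' : D.obj q ⟶ X), g' ≫ f = t.app q ∧ c.π.app q ≫ g' = g := by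
  classical
  have := Fintype.ofFinite ι
  -- agreement on overlaps at a finer stage
  have agree (p : ι × ι) : ∃ (m : I) (μ : m ⟶ l),
      (D.map μ).resLE (W p.1 ⊓ W p.2) (D.map μ ⁻¹ᵁ (W p.1 ⊓ W p.2)) le_rfl ≫
          (D.obj l).homOfLE inf_le_left ≫ a p.1 =
        (D.map μ).resLE (W p.1 ⊓ W p.2) (D.map μ ⁻¹ᵁ (W p.1 ⊓ W p.2)) le_rfl ≫
          (D.obj l).homOfLE inf_le_right ≫ a p.2 := by
    have hcomp := hWc p.1 p.2
    have (m : Over l) : CompactSpace ((opensDiagram D l (W p.1 ⊓ W p.2)).obj m) :=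
      isCompact_iff_compactSpace.mp (QuasiCompact.isCompact_preimage (f := D.map m.hom) _
        (W p.1 ⊓ W p.2).2 hcomp)
    let t' : opensDiagram D l (W p.1 ⊓ W p.2) ⟶
        (Functor.const (Over l)).obj B :=
      { app := fun m => (D.map m.hom ⁻¹ᵁ (W p.1 ⊓ W p.2)).ι ≫ t.app m.left
        naturality := fun m n b => by simp [opensDiagram] }
    let p₀ : Over l := Over.mk (𝟙 l)
    let r₁ := (D.map p₀.hom).resLE (W p.1 ⊓ W p.2) (D.map p₀.hom ⁻¹ᵁ (W p.1 ⊓ W p.2)) le_rfl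
    obtain ⟨m, μ, hμ⟩ := Scheme.exists_hom_comp_eq_comp_of_locallyOfFiniteType _ t' f
      (opensCone D c l (W p.1 ⊓ W p.2)) (isLimitOpensCone D c hc l _) (i := p₀)
      (r₁ ≫ (D.obj l).homOfLE inf_le_left ≫ a p.1)
      (r₁ ≫ (D.obj l).homOfLE inf_le_right ≫ a p.2)
      (by simp [r₁, t', p₀, ha_f]) (by simp [r₁, t', p₀, ha_f]) (by
        let P := c.π.app l ⁻¹ᵁ (W p.1 ⊓ W p.2)
        have h₁ : P ≤ c.π.app l ⁻¹ᵁ W p.1 := (c.π.app l).preimage_mono inf_le_left
        have h₂ : P ≤ c.π.app l ⁻¹ᵁ W p.2 := (c.π.app l).preimage_mono inf_le_right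
        have e₁ := congrArg (c.pt.homOfLE h₁ ≫ ·) (ha_c p.1)
        have e₂ := congrArg (c.pt.homOfLE h₂ ≫ ·) (ha_c p.2)
        simp [r₁, p₀, opensCone, P] at e₁ e₂ ⊢
        exact e₁.trans e₂.symm)
    refine ⟨m.left, m.hom, ?_⟩
    have hμ' : μ.left = m.hom := by simpa [p₀] using Over.w μ
    simpa [opensDiagram, r₁, p₀, hμ'] using hμ
  choose m μ hμ using agree
  obtain ⟨n', ν, ψ, hν'⟩ : ∃ (n' : I) (ν : n' ⟶ l) (ψ : ∀ p, n' ⟶ m p),
      ∀ p, ψ p ≫ μ p = ν := by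
    obtain ⟨n', ν, ψ, h⟩ := IsCofiltered.wideCospan μ
    exact ⟨n', ν, ψ, h⟩
  -- the cover at a finer stage
  obtain ⟨q, χ, hq⟩ := exists_map_eq_top D c hc (i := n') (⨆ x, D.map ν ⁻¹ᵁ W x) (by
    rw [Scheme.Hom.preimage_iSup, ← hcov]
    refine iSup_congr fun x => ?_
    rw [← Scheme.Hom.comp_preimage, c.w])
  let ω : q ⟶ l := χ ≫ ν
  let O (x : ι) : (D.obj q).Opens := D.map ω ⁻¹ᵁ W x
  have hO : IsOpenCover O := by
    show ⨆ x, O x = ⊤
    simp only [O, ω, D.map_comp, Scheme.Hom.comp_preimage, ← Scheme.Hom.preimage_iSup]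
    rw [Scheme.Hom.preimage_iSup (D.map ν) W, hq]
  let 𝒰 := Scheme.openCoverOfIsOpenCover _ O hO
  let b (x : ι) : (O x : Scheme.{u}) ⟶ X := (D.map ω ∣_ W x) ≫ a x
  have hb (x y : ι) : pullback.fst (𝒰.f x) (𝒰.f y) ≫ b x = pullback.snd (𝒰.f x) (𝒰.f y) ≫ b y := by
    let ρ := χ ≫ ψ (x, y)
    have hρ : ρ ≫ μ (x, y) = ω := by simp [ρ, ω, hν']
    have sq : IsPullback ((D.obj q).homOfLE (inf_le_left : O x ⊓ O y ≤ O x))
        ((D.obj q).homOfLE (inf_le_right : O x ⊓ O y ≤ O y)) (O x).ι (O y).ι := by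
      refine IsOpenImmersion.isPullback _ _ _ _ (by simp) ?_
      simp [Scheme.Hom.preimage_inf]
    rw [← cancel_epi sq.isoPullback.hom]
    erw [IsPullback.isoPullback_hom_fst_assoc, IsPullback.isoPullback_hom_snd_assoc]
    have hle : O x ⊓ O y ≤ D.map ρ ⁻¹ᵁ (D.map (μ (x, y)) ⁻¹ᵁ (W x ⊓ W y)) := by
      rw [← Scheme.Hom.comp_preimage, ← D.map_comp, hρ, Scheme.Hom.preimage_inf]
    have := congrArg ((D.map ρ).resLE _ (O x ⊓ O y) hle ≫ ·) (hμ (x, y))
    simp only [b, ← Scheme.Hom.resLE_eq_morphismRestrict, Scheme.Hom.map_resLE_assoc,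
      Scheme.Hom.resLE_comp_resLE_assoc, Scheme.Hom.resLE_map_assoc, ← D.map_comp, hρ] at this ⊢
    erw [Scheme.Hom.map_resLE_assoc, Scheme.Hom.map_resLE_assoc]
    exact this
  refine ⟨q, ω, 𝒰.glueMorphisms b hb, ?_, ?_⟩
  · refine 𝒰.hom_ext _ _ fun x => ?_
    rw [Scheme.Cover.ι_glueMorphisms_assoc]
    simp only [b, Category.assoc, ha_f]
    rw [morphismRestrict_ι_assoc]
    congr 1
    exact (t.naturality ω).trans (Category.comp_id _)
  · refine (Scheme.openCoverOfIsOpenCover c.pt (fun x : ι => c.π.app q ⁻¹ᵁ O x)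
      (hO.comap (c.π.app q).base.hom)).hom_ext _ _ fun (x : ι) => ?_
    have hle : c.π.app q ⁻¹ᵁ O x ≤ c.π.app l ⁻¹ᵁ W x :=
      le_of_eq (by rw [← Scheme.Hom.comp_preimage, c.w])
    have e' := congrArg (c.pt.homOfLE hle ≫ ·) (ha_c x)
    have key : ((c.π.app q).resLE (O x) (c.π.app q ⁻¹ᵁ O x) le_rfl) ≫ 𝒰.f x ≫
        𝒰.glueMorphisms b hb = (c.π.app q ⁻¹ᵁ O x).ι ≫ g := by
      rw [Scheme.Cover.ι_glueMorphisms]
      simp only [b, ← Scheme.Hom.resLE_eq_morphismRestrict, Scheme.Hom.map_resLE_assoc,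
        Scheme.Hom.resLE_comp_resLE_assoc, Scheme.homOfLE_ι_assoc, c.w] at e' ⊢
      erw [Scheme.Hom.resLE_comp_resLE_assoc]
      simp only [c.w]
      exact e'
    rw [← Category.assoc] at key
    show (c.π.app q ⁻¹ᵁ O x).ι ≫ c.π.app q ≫ _ = _
    rw [← Category.assoc]
    refine Eq.trans ?_ key
    congr 1
    exact (Scheme.Hom.resLE_comp_ι _ _).symm

section subalgebras

variable {A C : Type u} [CommRing A] [CommRing C] [Algebra A C] {J : Type u} [Preorder J]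
  (S : J →o Subalgebra A C)

/-- The spectra of a monotone family of subalgebras. -/
noncomputable def subalgRings : J ⥤ CommRingCat.{u} where
  obj s := CommRingCat.of (S s)
  map {s t} h := CommRingCat.ofHom (Subalgebra.inclusion (S.monotone h.le)).toRingHom
  map_id s := rfl
  map_comp _ _ := rfl

/-- The cocone with vertex the algebra. -/
noncomputable def subalgCocone : Cocone (subalgRings S) where
  pt := CommRingCat.of C
  ι :=
    { app := fun s => CommRingCat.ofHom (S s).val.toRingHom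
      naturality := fun _ _ _ => rfl }

/-- An algebra which is the union of a directed family of subalgebras is their colimit. -/
noncomputable def isColimitSubalgCocone [IsDirectedOrder J] [Nonempty J]
    (hcov : ∀ c : C, ∃ i, c ∈ S i) : IsColimit (subalgCocone S) := by
  have : PreservesColimit (subalgRings S) (forget CommRingCat.{u}) := inferInstance
  have : ReflectsColimit (subalgRings S) (forget CommRingCat.{u}) :=
    reflectsColimit_of_reflectsIsomorphisms _ _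
  refine isColimitOfReflects (forget CommRingCat.{u}) ?_
  refine Types.FilteredColimit.isColimitOf _ _ (fun a => ?_) fun s t x y h => ?_
  · obtain ⟨i, hi⟩ := hcov a
    exact ⟨i, ⟨a, hi⟩, rfl⟩
  · obtain ⟨k, hs, ht⟩ := exists_ge_ge s t
    exact ⟨k, homOfLE hs, homOfLE ht, Subtype.ext h⟩

variable [IsDomain C] [IsDirectedOrder J] [Nonempty J]

/-- Morphisms from the spectrum of a domain to a scheme of finite type over `A` descend to one of a
directed family of subalgebras with union the domain. -/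
theorem exists_hom_of_isDomain (hcov : ∀ c : C, ∃ i, c ∈ S i) {X : Scheme.{u}}
    (f : X ⟶ Spec (CommRingCat.of A)) [LocallyOfFiniteType f]
    (g : Spec (CommRingCat.of C) ⟶ X)
    (hg : g ≫ f = Spec.map (CommRingCat.ofHom (algebraMap A C))) :
    ∃ (i : J) (g' : Spec (CommRingCat.of (S i)) ⟶ X),
      g' ≫ f = Spec.map (CommRingCat.ofHom (algebraMap A (S i))) ∧
      Spec.map (CommRingCat.ofHom (S i).val.toRingHom) ≫ g' = g := by
  classical
  let D : Jᵒᵖ ⥤ Scheme.{u} := (subalgRings S).op ⋙ Scheme.Spec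
  let c : Cone D := Scheme.Spec.mapCone (subalgCocone S).op
  have hc : IsLimit c := isLimitOfPreserves Scheme.Spec (isColimitSubalgCocone S hcov).op
  have (i : Jᵒᵖ) : IsAffine (D.obj i) := inferInstanceAs (IsAffine (Spec _))
  have (i j : Jᵒᵖ) (a : i ⟶ j) : IsAffineHom (D.map a) := inferInstance
  have (i : Jᵒᵖ) : IsReduced (D.obj i) :=
    inferInstanceAs (IsReduced (Spec (CommRingCat.of (S i.unop))))
  have hdom (i : Jᵒᵖ) : IsDominant (c.π.app i) := by
    refine ⟨?_⟩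
    show DenseRange (PrimeSpectrum.comap (S i.unop).val.toRingHom)
    rw [PrimeSpectrum.denseRange_comap_iff_ker_le_nilRadical,
      (RingHom.injective_iff_ker_eq_bot _).mp Subtype.val_injective]
    exact bot_le
  let t : D ⟶ (Functor.const Jᵒᵖ).obj (Spec (CommRingCat.of A)) :=
    { app := fun i => Spec.map (CommRingCat.ofHom (algebraMap A (S i.unop)))
      naturality := fun i j a => by
        show Spec.map _ ≫ Spec.map _ = Spec.map _ ≫ 𝟙 _
        rw [Category.comp_id, ← Spec.map_comp]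
        rfl }
  have hct (i : Jᵒᵖ) : c.π.app i ≫ t.app i = g ≫ f := by
    rw [hg]
    show Spec.map _ ≫ Spec.map _ = _
    rw [← Spec.map_comp]
    rfl
  obtain ⟨i₀⟩ : Nonempty Jᵒᵖ := inferInstance
  have hpt (x : c.pt) : ∃ (j : Jᵒᵖ) (V : (D.obj j).Opens) (U : X.Opens), IsAffineOpen V ∧
      c.π.app j x ∈ V ∧ IsAffineOpen U ∧ c.π.app j ⁻¹ᵁ V ≤ g ⁻¹ᵁ U := by
    obtain ⟨U, hU, hxU, -⟩ := Opens.isBasis_iff_nbhd.mp X.isBasis_affineOpens
      (U := ⊤) (x := g x) trivial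
    obtain ⟨_, ⟨j, V, hV, rfl⟩, hxV, hVU⟩ := Opens.isBasis_iff_nbhd.mp
      (isBasis_preimage_isAffineOpen D c hc) (show x ∈ g ⁻¹ᵁ U from hxU)
    exact ⟨j, V, U, hV, hxV, hU, hVU⟩
  choose j₁ V₁ U hV₁ hxV₁ hU hVU using hpt
  have : CompactSpace c.pt := inferInstanceAs (CompactSpace (Spec (CommRingCat.of C)))
  obtain ⟨s, hs⟩ := isCompact_univ.elim_finite_subcover
    (fun x => ((c.π.app (j₁ x) ⁻¹ᵁ V₁ x : c.pt.Opens) : Set c.pt)) (fun x => Opens.isOpen _)
    (fun x _ => Set.mem_iUnion.mpr ⟨x, hxV₁ x⟩)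
  have key (x : c.pt) : ∃ (k : Jᵒᵖ) (φ : k ⟶ j₁ x)
      (g' : ((D.map φ ⁻¹ᵁ V₁ x : (D.obj k).Opens) : Scheme.{u}) ⟶ X),
      g' ≫ f = (D.map φ ⁻¹ᵁ V₁ x).ι ≫ t.app k ∧
      (c.π.app k).resLE (D.map φ ⁻¹ᵁ V₁ x) (c.π.app (j₁ x) ⁻¹ᵁ V₁ x)
        (by rw [← Scheme.Hom.comp_preimage, c.w]) ≫ g' = (c.π.app (j₁ x) ⁻¹ᵁ V₁ x).ι ≫ g := by
    have (k : Over (j₁ x)) : IsAffine ((opensDiagram D (j₁ x) (V₁ x)).obj k) :=
      (hV₁ x).preimage _
    have : IsAffine (U x : Scheme.{u}) := hU x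
    let t' : opensDiagram D (j₁ x) (V₁ x) ⟶
        (Functor.const (Over (j₁ x))).obj (Spec (CommRingCat.of A)) :=
      { app := fun k => (D.map k.hom ⁻¹ᵁ V₁ x).ι ≫ t.app k.left
        naturality := fun k l a => by simp [opensDiagram] }
    let e := opensCone D c (j₁ x) (V₁ x)
    have hinj (k : Over (j₁ x)) : Function.Injective (e.π.app k).appTop.hom := by
      have : IsDominant (e.π.app k) := by
        have := hdom k.left
        have e₀ : c.π.app k.left ⁻¹ᵁ D.map k.hom ⁻¹ᵁ V₁ x = c.π.app (j₁ x) ⁻¹ᵁ V₁ x :=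
          congr($(c.w k.hom) ⁻¹ᵁ V₁ x)
        refine ⟨?_⟩
        intro y
        have hy : (D.map k.hom ⁻¹ᵁ V₁ x).ι y ∈ closure (Set.range (c.π.app k.left)) :=
          (c.π.app k.left).denseRange _
        rw [(D.map k.hom ⁻¹ᵁ V₁ x).ι.isOpenEmbedding.isInducing.closure_eq_preimage_closure_image]
        have h := mem_closure_iff.mp hy
        refine mem_closure_iff.mpr fun W hW hyW => ?_
        obtain ⟨_, ⟨hzW, hzV⟩, z, rfl⟩ := h (W ∩ (D.map k.hom ⁻¹ᵁ V₁ x : (D.obj k.left).Opens))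
          (hW.inter (D.map k.hom ⁻¹ᵁ V₁ x).2) ⟨hyW, y.2⟩
        refine ⟨_, hzW, ?_⟩
        refine ⟨e.π.app k ⟨z, e₀.le hzV⟩, ⟨_, rfl⟩, ?_⟩
        show ((c.π.app k.left).resLE _ _ _ ≫ (D.map k.hom ⁻¹ᵁ V₁ x).ι) _ = _
        rw [Scheme.Hom.resLE_comp_ι]
        rfl
      have : IsReduced ((opensDiagram D (j₁ x) (V₁ x)).obj k) :=
        isReduced_of_isOpenImmersion (D.map k.hom ⁻¹ᵁ V₁ x).ι
      have := IsSchemeTheoreticallyDominant.of_isDominant (e.π.app k)
      have : IsAffine e.pt := Scheme.isAffine_of_isLimit _ (isLimitOpensCone D c hc (j₁ x) (V₁ x))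
      have : CompactSpace (((Functor.const (Over (j₁ x))).obj e.pt).obj k) :=
        inferInstanceAs (CompactSpace e.pt)
      have : QuasiCompact (e.π.app k) := quasiCompact_of_compactSpace _
      exact (e.π.app k).app_injective ⊤
    let m : e.pt ⟶ U x := g.resLE (U x) (c.π.app (j₁ x) ⁻¹ᵁ V₁ x) (hVU x)
    obtain ⟨k, φ, g', hg', hg''⟩ := exists_hom_of_injective
      (isLimitOpensCone D c hc (j₁ x) (V₁ x)) t' hinj ((U x).ι ≫ f) m (Over.mk (𝟙 _)) (by
        have := congrArg ((c.π.app (j₁ x) ⁻¹ᵁ V₁ x).ι ≫ ·) (hct (j₁ x))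
        simp [m, t', e, opensCone, Scheme.Hom.resLE_comp_ι_assoc] at this ⊢
        exact this.symm)
    refine ⟨k.left, k.hom, g' ≫ (U x).ι, by rw [Category.assoc]; exact hg', ?_⟩
    have := congrArg (· ≫ (U x).ι) hg''
    simp [m, e, opensCone] at this ⊢
    exact this
  choose k φ g' hg'f hg'c using key
  obtain ⟨l, hl⟩ := IsCofiltered.inf_objs_exists (s.image k)
  let ψ (x : s) : l ⟶ k x := (hl (Finset.mem_image_of_mem k x.2)).some
  let W (x : s) : (D.obj l).Opens := D.map (ψ x) ⁻¹ᵁ (D.map (φ x) ⁻¹ᵁ V₁ x)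
  let a (x : s) : (W x : Scheme.{u}) ⟶ X := (D.map (ψ x) ∣_ (D.map (φ x) ⁻¹ᵁ V₁ x)) ≫ g' x
  have ha_f (x : s) : a x ≫ f = (W x).ι ≫ t.app l := by
    simp only [a, Category.assoc, hg'f]
    rw [morphismRestrict_ι_assoc]
    congr 1
    simpa using t.naturality (ψ x)
  have hWπ (x : s) : c.π.app l ⁻¹ᵁ W x = c.π.app (j₁ x) ⁻¹ᵁ V₁ x := by
    simp only [W, ← Scheme.Hom.comp_preimage, ← Category.assoc, c.w]
  have ha_c (x : s) : (c.π.app l).resLE (W x) (c.π.app (j₁ x) ⁻¹ᵁ V₁ x) (hWπ x).ge ≫ a x =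
      (c.π.app (j₁ x) ⁻¹ᵁ V₁ x).ι ≫ g := by
    rw [← hg'c x]
    simp only [a, W, ← Scheme.Hom.resLE_eq_morphismRestrict, Scheme.Hom.resLE_comp_resLE_assoc, c.w]
  -- glue at a finer stage
  have hcov' : ⨆ x : s, c.π.app l ⁻¹ᵁ W x = ⊤ := by
    refine top_le_iff.mp fun y _ => ?_
    obtain ⟨x, hx, hy⟩ := Set.mem_iUnion₂.mp (hs (Set.mem_univ y))
    exact Opens.mem_iSup.mpr ⟨⟨x, hx⟩, (hWπ ⟨x, hx⟩).ge hy⟩
  have hWaff (x : s) : IsAffineOpen (W x) := ((hV₁ x).preimage _).preimage _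
  obtain ⟨q, -, g'', hq₁, hq₂⟩ := exists_glue_stage t hc f g W
    (fun x y => (hWaff x).isCompact.inter_of_isOpen (hWaff y).isCompact (W x).2 (W y).2) hcov' a
    ha_f (fun x => by
      have e := congrArg (c.pt.homOfLE (hWπ x).le ≫ ·) (ha_c x)
      simp at e
      exact e)
  exact ⟨q.unop, g'', hq₁, hq₂⟩

end subalgebras

end Groth.Agent.LimLib
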