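import Groth.Agent.LimLib.AtPrimeLimit
import Mathlib.AlgebraicGeometry.Stalk
import Mathlib.AlgebraicGeometry.AffineTransitionLimit

/-!
# The spectrum of a local ring as a limit of affine neighbourhoods
-/

set_option backward.isDefEq.respectTransparency false
set_option backward.defeqAttrib.useBackward true
set_option autoImplicit false

universe u

open CategoryTheory Limits AlgebraicGeometry Opposite

namespace Groth.Agent.LimLib

/-- A cofiltered system of affine open neighbourhoods of a point, with limit the spectrum of the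
local ring. -/
structure StalkSystem (X : Scheme.{u}) (x : X) : Type (u + 1) where
  /-- the indices -/
  J : Type u
  [pre : Preorder J]
  [dir : IsDirectedOrder J]
  [ne : Nonempty J]
  /-- the diagram -/
  D : Jᵒᵖ ⥤ Scheme.{u}
  /-- the projections -/
  π : (Functor.const Jᵒᵖ).obj (Spec (X.presheaf.stalk x)) ⟶ D
  isLimit : Nonempty (IsLimit (Cone.mk (Spec (X.presheaf.stalk x)) π))
  /-- the inclusions -/
  ι : D ⟶ (Functor.const Jᵒᵖ).obj X
  isAffine : ∀ j, IsAffine (D.obj j)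
  isOpenImmersion : ∀ j, IsOpenImmersion (ι.app j)
  fac : ∀ j, π.app j ≫ ι.app j = X.fromSpecStalk x
  mem : ∀ j, x ∈ Set.range (ι.app j)
  range_subset : ∀ (j : Jᵒᵖ), ∀ (W : X.Opens), IsAffineOpen W → x ∈ W →
    ∃ (k : Jᵒᵖ) (_ : k ⟶ j), ∀ y, (ι.app k : D.obj k ⟶ X) y ∈ W

attribute [instance] StalkSystem.pre StalkSystem.dir StalkSystem.ne StalkSystem.isAffine
  StalkSystem.isOpenImmersion

theorem nonempty_stalkSystem (X : Scheme.{u}) (x : X) : Nonempty (StalkSystem X x) := by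
  obtain ⟨V, hV, hxV⟩ : ∃ V : X.Opens, IsAffineOpen V ∧ x ∈ V := by
    obtain ⟨_, ⟨V, hV, rfl⟩, hxV, -⟩ :=
      X.isBasis_affineOpens.exists_subset_of_mem_open (Set.mem_univ x) isOpen_univ
    exact ⟨V, hV, hxV⟩
  let := TopCat.Presheaf.algebra_section_stalk X.presheaf ⟨x, hxV⟩
  let pr := (hV.primeIdealOf ⟨x, hxV⟩).asIdeal
  have hloc : IsLocalization.AtPrime (X.presheaf.stalk x) pr := hV.isLocalization_stalk ⟨x, hxV⟩
  let D : (AwayIdx pr)ᵒᵖ ⥤ Scheme.{u} := (AwayIdx.rings pr).op ⋙ Scheme.Spec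
  let c : Cone D := Scheme.Spec.mapCone (AwayIdx.cocone pr (X.presheaf.stalk x)).op
  let hc : IsLimit c := isLimitOfPreserves Scheme.Spec (AwayIdx.isColimitCocone pr _).op
  let m (i : (AwayIdx pr)ᵒᵖ) : D.obj i ⟶ X :=
    Spec.map (CommRingCat.ofHom (algebraMap Γ(X, V) (Localization.Away i.unop.val))) ≫ hV.fromSpec
  have hm {i j : (AwayIdx pr)ᵒᵖ} (e : i ⟶ j) : D.map e ≫ m j = m i := by
    show Spec.map _ ≫ Spec.map _ ≫ _ = Spec.map _ ≫ _
    rw [← Category.assoc, ← Spec.map_comp]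
    congr 2
    exact CommRingCat.hom_ext (RingHom.ext fun a => AwayIdx.tr_algebraMap e.unop.le a)
  have hσ (i : (AwayIdx pr)ᵒᵖ) : c.π.app i ≫ m i = X.fromSpecStalk x := by
    show Spec.map _ ≫ Spec.map _ ≫ _ = _
    rw [← Category.assoc, ← Spec.map_comp]
    refine Eq.trans ?_ (IsAffineOpen.fromSpecStalk_eq_fromSpecStalk hV hxV)
    refine congrArg (Spec.map · ≫ hV.fromSpec) ?_
    exact CommRingCat.hom_ext (RingHom.ext fun a => AwayIdx.toAtPrime_algebraMap pr (X.presheaf.stalk x) _ a)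
  have hmo (i : (AwayIdx pr)ᵒᵖ) : IsOpenImmersion (m i) := by
    have : IsOpenImmersion (Spec.map (CommRingCat.ofHom
        (algebraMap Γ(X, V) (Localization.Away i.unop.val)))) :=
      IsOpenImmersion.of_isLocalization i.unop.val
    exact MorphismProperty.comp_mem _ _ _ this inferInstance
  refine ⟨⟨AwayIdx pr, D, c.π, ⟨hc⟩, { app := m, naturality := fun i j e => by simp [hm e] },
    fun j => inferInstanceAs (IsAffine (Spec _)), hmo, hσ, fun j => ?_, fun j W hW hxW => ?_⟩⟩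
  · exact ⟨c.π.app j (IsLocalRing.closedPoint (X.presheaf.stalk x)), by
      show (c.π.app j ≫ m j) _ = x
      rw [hσ]
      exact Scheme.fromSpecStalk_closedPoint⟩
  · have hmem : hV.primeIdealOf ⟨x, hxV⟩ ∈
        SetLike.coe (hV.fromSpec ⁻¹ᵁ W) := by
      show hV.fromSpec _ ∈ W
      rw [hV.fromSpec_primeIdealOf]
      exact hxW
    obtain ⟨_, ⟨r, rfl⟩, hxr, hrW⟩ :=
      PrimeSpectrum.isTopologicalBasis_basic_opens.exists_subset_of_mem_open hmem (hV.fromSpec ⁻¹ᵁ W).2
    let k : AwayIdx pr := AwayIdx.mul j.unop ⟨r, hxr⟩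
    refine ⟨op k, (homOfLE (AwayIdx.le_mul_left _ _)).op, ?_⟩
    intro w
    show hV.fromSpec (Spec.map _ w) ∈ W
    refine hrW ?_
    show r ∉ (PrimeSpectrum.comap (algebraMap Γ(X, V) (Localization.Away k.val)) w).asIdeal
    intro hr
    have hu : IsUnit (algebraMap Γ(X, V) (Localization.Away k.val) r) :=
      AwayIdx.le_mul_right j.unop ⟨r, hxr⟩
    exact w.2.ne_top (Ideal.eq_top_of_isUnit_mem _ hr hu)

end Groth.Agent.LimLib
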