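import Groth.Agent.LimLib.OpensLimit
import Groth.Agent.LimTop.Basic

/-!
# Sections over affine opens and residue fields of a limit
-/

set_option backward.isDefEq.respectTransparency false
set_option backward.defeqAttrib.useBackward true

universe u

open CategoryTheory Limits AlgebraicGeometry TopologicalSpace

namespace Groth.Agent.LimLib

variable {I : Type u} [SmallCategory I] [IsCofiltered I] {D : I ⥤ Scheme.{u}} {c : Cone D}

/-- A section of the limit over the preimage of an affine open comes from a finite stage. -/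
lemma exists_appLE_eq_of_isAffineOpen (hc : IsLimit c)
    [∀ (i j : I) (f : i ⟶ j), IsAffineHom (D.map f)] {i : I} {U : (D.obj i).Opens}
    (hU : IsAffineOpen U) {V : c.pt.Opens} (hV : c.π.app i ⁻¹ᵁ U = V) (s : Γ(c.pt, V)) :
    ∃ (j : I) (f : j ⟶ i) (h : V ≤ c.π.app j ⁻¹ᵁ (D.map f ⁻¹ᵁ U))
      (t : Γ(D.obj j, D.map f ⁻¹ᵁ U)),
      (c.π.app j).appLE (D.map f ⁻¹ᵁ U) V h t = s := by
  subst hV
  have (j : Over i) : IsAffine ((opensDiagram D i U).obj j) := hU.preimage _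
  obtain ⟨j, t, ht⟩ := exists_appTop_π_eq_of_isAffine_of_isLimit _ _
    (isLimitOpensCone D c hc i U) ((c.π.app i ⁻¹ᵁ U).topIso.inv s)
  obtain ⟨t, rfl⟩ := (D.map j.hom ⁻¹ᵁ U).topIso.symm.commRingCatIsoToRingEquiv.surjective t
  have h : c.π.app j.left ⁻¹ᵁ D.map j.hom ⁻¹ᵁ U = c.π.app i ⁻¹ᵁ U := congr($(c.w j.hom) ⁻¹ᵁ U)
  refine ⟨j.left, j.hom, h.ge, t, ?_⟩
  symm
  convert!
    show s = ((Scheme.Opens.topIso _).inv ≫ ((opensCone D c i U).π.app j).appTop ≫
        (Scheme.Opens.topIso _).hom) t from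
      (c.π.app i ⁻¹ᵁ U).topIso.commRingCatIsoToRingEquiv.symm_apply_eq.mp ht.symm using 3
  simp [Scheme.Hom.app_eq_appLE, Scheme.Hom.resLE_appLE]

/-- The residue field of a point of the limit is the union of those of its images. -/
theorem exists_residueFieldMap_eq (hc : IsLimit c)
    [∀ (i j : I) (f : i ⟶ j), IsAffineHom (D.map f)] (s : c.pt) (a : c.pt.residueField s) :
    ∃ (i : I) (b : (D.obj i).residueField (c.π.app i s)),
      ((c.π.app i).residueFieldMap s).hom b = a := by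
  obtain ⟨a, rfl⟩ := c.pt.residue_surjective s a
  obtain ⟨W, hsW, w, rfl⟩ := c.pt.presheaf.exists_germ_eq a
  obtain ⟨i₀⟩ := IsCofiltered.nonempty (C := I)
  obtain ⟨j, -, V, hV, hsV, hVW⟩ := LimTop.exists_nhd hc i₀ W.2 hsW
  have hle : c.π.app j ⁻¹ᵁ V ≤ W := hVW
  obtain ⟨k, φ, h, t, ht⟩ :=
    exists_appLE_eq_of_isAffineOpen hc hV rfl (c.pt.presheaf.map (homOfLE hle).op w)
  have hsk : c.π.app k s ∈ D.map φ ⁻¹ᵁ V := h hsV
  refine ⟨k, (D.obj k).residue _ ((D.obj k).presheaf.germ _ _ hsk t), ?_⟩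
  refine (ConcreteCategory.congr_hom (Scheme.residue_residueFieldMap (c.π.app k) s) _).trans ?_
  show c.pt.residue s _ = c.pt.residue s _
  congr 1
  have e₁ := (c.π.app k).germ_stalkMap (D.map φ ⁻¹ᵁ V) s hsk
  refine (ConcreteCategory.congr_hom e₁ t).trans ?_
  have e₂ : (c.π.app k).appLE _ _ h ≫ c.pt.presheaf.germ (c.π.app j ⁻¹ᵁ V) s hsV =
      (c.π.app k).app (D.map φ ⁻¹ᵁ V) ≫
        c.pt.presheaf.germ (c.π.app k ⁻¹ᵁ (D.map φ ⁻¹ᵁ V)) s hsk := by
    rw [Scheme.Hom.appLE, Category.assoc]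
    exact congrArg _ (c.pt.presheaf.germ_res (homOfLE h) s hsV)
  refine (ConcreteCategory.congr_hom e₂ t).symm.trans ?_
  show c.pt.presheaf.germ _ s hsV ((c.π.app k).appLE _ _ h t) = _
  rw [ht]
  exact c.pt.presheaf.germ_res_apply (homOfLE hle) s hsV w

end Groth.Agent.LimLib
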