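import Groth.Agent.LimLib.OpensLimit
import Mathlib.AlgebraicGeometry.Sites.SmallAffineZariski
import Mathlib.AlgebraicGeometry.RelativeGluing

/-!
# Cofiltered systems of schemes with affine transition maps have limits
-/

set_option backward.isDefEq.respectTransparency false
set_option backward.defeqAttrib.useBackward true
set_option maxHeartbeats 800000

universe u

open CategoryTheory Limits AlgebraicGeometry Opposite TopologicalSpace

namespace Groth.Agent.LimLib.Existence

lemma appLE_congr_hom {X Y : Scheme.{u}} {f g : X ⟶ Y} (e : f = g) {U : Y.Opens} {V : X.Opens}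
    (h : V ≤ f ⁻¹ᵁ U) : f.appLE U V h = g.appLE U V (e ▸ h) := by
  subst e; rfl

variable {I : Type u} [SmallCategory I] [IsCofiltered I] (D : I ⥤ Scheme.{u})
  [∀ (i j : I) (f : i ⟶ j), IsAffineHom (D.map f)] (i₀ : I)

omit [IsCofiltered I] [∀ (i j : I) (f : i ⟶ j), IsAffineHom (D.map f)] in
lemma map_le {j k : Over i₀} (a : j ⟶ k) (U : (D.obj i₀).Opens) :
    D.map j.hom ⁻¹ᵁ U ≤ D.map a.left ⁻¹ᵁ (D.map k.hom ⁻¹ᵁ U) := by
  rw [← Scheme.Hom.comp_preimage, ← D.map_comp, Over.w a]

/-- The rings of sections over the preimages of an open. -/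
def secFun (U : (D.obj i₀).Opens) : (Over i₀)ᵒᵖ ⥤ CommRingCat.{u} where
  obj j := Γ(D.obj j.unop.left, D.map j.unop.hom ⁻¹ᵁ U)
  map {j k} a := (D.map a.unop.left).appLE _ _ (map_le D i₀ a.unop U)
  map_id j := by
    simp only [unop_id, Over.id_left]
    refine (appLE_congr_hom (D.map_id _) _).trans ?_
    simp [Scheme.Hom.appLE]
    exact (D.obj _).presheaf.map_id _
  map_comp {j k l} a b := by
    rw [Scheme.Hom.appLE_comp_appLE]
    exact appLE_congr_hom (by simp) _

/-- Restriction of sections. -/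
def secRes {U V : (D.obj i₀).Opens} (h : U ≤ V) : secFun D i₀ V ⟶ secFun D i₀ U where
  app j := (D.obj j.unop.left).presheaf.map (homOfLE (Scheme.Hom.preimage_mono _ h)).op
  naturality j k a := by
    simp only [secFun, Scheme.Hom.appLE_map, Scheme.Hom.map_appLE]

/-- The presheaf of colimit algebras on the affine opens. -/
noncomputable def algPresheaf : (D.obj i₀).AffineZariskiSiteᵒᵖ ⥤ CommRingCat.{u} where
  obj U := colimit (secFun D i₀ U.unop.1)
  map {U V} h := colimMap (secRes D i₀
    ((Scheme.AffineZariskiSite.toOpens_mono h.unop.le : V.unop.1 ≤ U.unop.1)))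
  map_id U := by
    apply colimit.hom_ext; intro j
    simp [secRes]
    exact Category.id_comp _
  map_comp {U V W} a b := by
    apply colimit.hom_ext; intro j
    simp only [ι_colimMap, ι_colimMap_assoc, secRes]
    rw [← Category.assoc, ← Functor.map_comp]
    rfl

/-- The structure map. -/
noncomputable def algStr :
    (Scheme.AffineZariskiSite.toOpensFunctor (D.obj i₀)).op ⋙ (D.obj i₀).presheaf ⟶
      algPresheaf D i₀ where
  app U := (D.map (𝟙 i₀)).app U.unop.1 ≫
    colimit.ι (secFun D i₀ U.unop.1) (op (Over.mk (𝟙 i₀)))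
  naturality U V h := by
    simp [algPresheaf, secRes]
    rfl

lemma algStr_ι (U : (D.obj i₀).AffineZariskiSite) (j : (Over i₀)ᵒᵖ) :
    (algStr D i₀).app (op U) =
      (D.map j.unop.hom).app U.1 ≫ colimit.ι (secFun D i₀ U.1) j := by
  let a : (op (Over.mk (𝟙 i₀)) : (Over i₀)ᵒᵖ) ⟶ j := (Over.mkIdTerminal.from j.unop).op
  show (D.map (𝟙 i₀)).app U.1 ≫ _ = _
  rw [← colimit.w (secFun D i₀ U.1) a, ← Category.assoc]
  congr 1
  rw [Scheme.Hom.app_eq_appLE, Scheme.Hom.app_eq_appLE]
  erw [Scheme.Hom.appLE_comp_appLE]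
  refine (appLE_congr_hom (show D.map a.unop.left ≫ D.map (𝟙 i₀) = D.map j.unop.hom from ?_) _)
  rw [← D.map_comp]
  simp [a]

lemma coequifibered_algStr : (algStr D i₀).Coequifibered := by
  refine Scheme.AffineZariskiSite.coequifibered_iff_forall_isLocalizationAway.mpr fun U r => ?_
  have hle : (U.basicOpen r).1 ≤ U.1 := (D.obj i₀).basicOpen_le r
  let φ := (algPresheaf D i₀).map (homOfLE (U.basicOpen_le r)).op
  letI := φ.hom.toAlgebra
  let x : ↑((algPresheaf D i₀).obj (op U)) := (algStr D i₀).app (op U) r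
  let A (j : (Over i₀)ᵒᵖ) := (secFun D i₀ U.1).obj j
  let B (j : (Over i₀)ᵒᵖ) := (secFun D i₀ (U.basicOpen r).1).obj j
  let ρ (j : (Over i₀)ᵒᵖ) : A j ⟶ B j := (secRes D i₀ hle).app j
  let s (j : (Over i₀)ᵒᵖ) : A j := (D.map j.unop.hom).app U.1 r
  have hs (j : (Over i₀)ᵒᵖ) : colimit.ι (secFun D i₀ U.1) j (s j) = x :=
    ((ConcreteCategory.congr_hom (algStr_ι D i₀ U j) r).trans (CommRingCat.comp_apply _ _ _)).symm
  have hφ (j : (Over i₀)ᵒᵖ) (a : A j) : φ (colimit.ι (secFun D i₀ U.1) j a) =
      colimit.ι (secFun D i₀ (U.basicOpen r).1) j (ρ j a) :=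
    ((CommRingCat.comp_apply _ _ _).symm.trans
      (ConcreteCategory.congr_hom (ι_colimMap (secRes D i₀ hle) j) a)).trans
      (CommRingCat.comp_apply _ _ _)
  have hloc (j : (Over i₀)ᵒᵖ) : letI := (ρ j).hom.toAlgebra
      IsLocalization.Away (s j) (B j) := by
    letI := (ρ j).hom.toAlgebra
    exact (U.2.preimage (D.map j.unop.hom)).isLocalization_of_eq_basicOpen (s j) _
      (Scheme.preimage_basicOpen (D.map j.unop.hom) r)
  show IsLocalization.Away x ((algPresheaf D i₀).obj (op (U.basicOpen r)))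
  refine IsLocalization.Away.mk x ?_ (fun b => ?_) fun a a' h => ?_
  · letI := (ρ (op (Over.mk (𝟙 i₀)))).hom.toAlgebra
    haveI := hloc (op (Over.mk (𝟙 i₀)))
    have := IsLocalization.Away.algebraMap_isUnit (R := A (op (Over.mk (𝟙 i₀))))
      (S := B (op (Over.mk (𝟙 i₀)))) (s (op (Over.mk (𝟙 i₀))))
    show IsUnit (φ x)
    rw [← hs (op (Over.mk (𝟙 i₀))), hφ]
    exact this.map _
  · obtain ⟨j, b, rfl⟩ := Concrete.colimit_exists_rep (secFun D i₀ (U.basicOpen r).1) b
    letI := (ρ j).hom.toAlgebra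
    haveI := hloc j
    obtain ⟨n, a, ha⟩ := IsLocalization.Away.surj (s j) b
    refine ⟨n, colimit.ι (secFun D i₀ U.1) j a, ?_⟩
    show _ * φ x ^ n = φ _
    rw [← hs j, hφ, hφ]
    refine Eq.trans ?_ (congrArg (colimit.ι (secFun D i₀ (U.basicOpen r).1) j) ha)
    exact ((map_mul (colimit.ι (secFun D i₀ (U.basicOpen r).1) j).hom _ _).trans
      (congrArg _ (map_pow (colimit.ι (secFun D i₀ (U.basicOpen r).1) j).hom _ _))).symm
  · obtain ⟨j₁, a, rfl⟩ := Concrete.colimit_exists_rep (secFun D i₀ U.1) a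
    obtain ⟨j₂, a', rfl⟩ := Concrete.colimit_exists_rep (secFun D i₀ U.1) a'
    change φ _ = φ _ at h
    rw [hφ, hφ] at h
    obtain ⟨k, f₁, f₂, e⟩ := (Concrete.colimit_rep_eq_iff_exists _ _ _).mp h
    letI := (ρ k).hom.toAlgebra
    haveI := hloc k
    have e' : ρ k ((secFun D i₀ U.1).map f₁ a) = ρ k ((secFun D i₀ U.1).map f₂ a') := by
      have n₁ := ConcreteCategory.congr_hom ((secRes D i₀ hle).naturality f₁) a
      have n₂ := ConcreteCategory.congr_hom ((secRes D i₀ hle).naturality f₂) a'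
      rw [CommRingCat.comp_apply, CommRingCat.comp_apply] at n₁ n₂
      exact n₁.trans (e.trans n₂.symm)
    obtain ⟨⟨c, n, rfl⟩, hc⟩ := (IsLocalization.eq_iff_exists (Submonoid.powers (s k)) (B k)).mp e'
    refine ⟨n, ?_⟩
    have := congrArg (colimit.ι (secFun D i₀ U.1) k) hc
    rw [map_mul, map_mul, map_pow, hs] at this
    rwa [← CommRingCat.comp_apply, ← CommRingCat.comp_apply, colimit.w, colimit.w] at this

/-- The gluing datum of the limit. -/
noncomputable def glueData :=
  Scheme.AffineZariskiSite.relativeGluingData (coequifibered_algStr D i₀)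

instance : ((glueData D i₀).functor ⋙ Scheme.forget).IsLocallyDirected :=
  Scheme.Cover.RelativeGluingData.instIsLocallyDirectedI₀CompFunctorForgetOfIsThin ..

/-- The limit scheme. -/
noncomputable def limScheme : Scheme.{u} := (glueData D i₀).glued

/-- The component of the projection on a chart. -/
noncomputable def chart (j : Over i₀) (U : (D.obj i₀).AffineZariskiSite) :
    Spec ((algPresheaf D i₀).obj (op U)) ⟶ D.obj j.left :=
  Spec.map (colimit.ι (secFun D i₀ U.1) (op j)) ≫ (U.2.preimage (D.map j.hom)).fromSpec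

lemma chart_map (j : Over i₀) {U V : (D.obj i₀).AffineZariskiSite} (h : U ⟶ V) :
    Spec.map ((algPresheaf D i₀).map h.op) ≫ chart D i₀ j V = chart D i₀ j U := by
  simp only [chart, algPresheaf, ← Category.assoc, ← Spec.map_comp, ι_colimMap]
  simp only [secRes, Spec.map_comp, Category.assoc]
  congr 1
  exact (V.2.preimage (D.map j.hom)).map_fromSpec (U.2.preimage (D.map j.hom)) _

lemma chart_comp {j k : Over i₀} (a : j ⟶ k) (U : (D.obj i₀).AffineZariskiSite) :
    chart D i₀ j U ≫ D.map a.left = chart D i₀ k U := by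
  simp only [chart]
  rw [← colimit.w (secFun D i₀ U.1) a.op, Spec.map_comp, Category.assoc, Category.assoc]
  congr 1
  exact ((U.2.preimage (D.map k.hom)).SpecMap_appLE_fromSpec (D.map a.left)
    (U.2.preimage (D.map j.hom)) (map_le D i₀ a U.1)).symm

/-- The projections. -/
noncomputable def proj (j : Over i₀) : limScheme D i₀ ⟶ D.obj j.left :=
  colimit.desc (glueData D i₀).functor
    { pt := D.obj j.left
      ι :=
        { app := fun U => chart D i₀ j U
          naturality := fun U V h => by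
            show Spec.map ((algPresheaf D i₀).map h.op) ≫ chart D i₀ j V = chart D i₀ j U ≫ 𝟙 _
            rw [chart_map, Category.comp_id] } }

lemma ι_proj (j : Over i₀) (U : (D.obj i₀).AffineZariskiSite) :
    colimit.ι (glueData D i₀).functor U ≫ proj D i₀ j = chart D i₀ j U :=
  colimit.ι_desc _ _

lemma proj_hom (j : Over i₀) : proj D i₀ j ≫ D.map j.hom = (glueData D i₀).toBase := by
  refine colimit.hom_ext fun U => ?_
  erw [← Category.assoc, ι_proj, (glueData D i₀).ι_toBase U]
  show chart D i₀ j U ≫ D.map j.hom =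
    (Spec.map ((algStr D i₀).app (op U)) ≫ U.2.isoSpec.inv) ≫ U.1.ι
  rw [algStr_ι D i₀ U (op j), Spec.map_comp, Category.assoc, Category.assoc, chart, Category.assoc]
  congr 1
  rw [Scheme.Hom.app_eq_appLE, IsAffineOpen.isoSpec_inv_ι]
  exact (U.2.SpecMap_appLE_fromSpec (D.map j.hom) (U.2.preimage (D.map j.hom)) le_rfl).symm

/-- The cone on the system below `i₀`. -/
noncomputable def limCone : Cone (Over.forget i₀ ⋙ D) where
  pt := limScheme D i₀
  π :=
    { app := fun j => proj D i₀ j
      naturality := fun j k a => by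
        refine colimit.hom_ext fun U => ?_
        simp only [Functor.const_obj_map, Category.id_comp, Functor.comp_map, Over.forget_map]
        erw [ι_proj, ← Category.assoc, ι_proj, chart_comp] }

/-- The affine subsystem over an affine open. -/
noncomputable def subSystem (U : (D.obj i₀).AffineZariskiSite) : Over i₀ ⥤ Scheme.{u} :=
  (secFun D i₀ U.1).rightOp ⋙ Scheme.Spec

/-- Its inclusion. -/
noncomputable def subIncl (U : (D.obj i₀).AffineZariskiSite) :
    subSystem D i₀ U ⟶ Over.forget i₀ ⋙ D where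
  app j := (U.2.preimage (D.map j.hom)).fromSpec
  naturality j k a :=
    (U.2.preimage (D.map k.hom)).SpecMap_appLE_fromSpec (D.map a.left)
      (U.2.preimage (D.map j.hom)) (map_le D i₀ a U.1)

theorem nonempty_isLimit_limCone : Nonempty (IsLimit (limCone D i₀)) := by
  let e (U : (D.obj i₀).AffineZariskiSite) : Cone (subSystem D i₀ U) :=
    { pt := Spec ((algPresheaf D i₀).obj (op U))
      π :=
        { app := fun j => Spec.map (colimit.ι (secFun D i₀ U.1) (op j))
          naturality := fun j k a => by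
            show 𝟙 _ ≫ _ = _ ≫ Spec.map ((secFun D i₀ U.1).map a.op)
            rw [Category.id_comp, ← Spec.map_comp, colimit.w] } }
  have he (U : (D.obj i₀).AffineZariskiSite) : IsLimit (e U) := by
    refine IsLimit.ofIsoLimit (isLimitOfPreserves Scheme.Spec
      (isLimitConeRightOpOfCocone (secFun D i₀ U.1) (colimit.isColimit _))) ?_
    exact Cone.ext (Iso.refl _) fun j => (Category.id_comp _).symm
  have : ∀ U j, IsOpenImmersion ((subIncl D i₀ U).app j) := fun U j =>
    (inferInstance : IsOpenImmersion (U.2.preimage (D.map j.hom)).fromSpec)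
  refine nonempty_isLimit_of_subsystems (limCone D i₀) (subSystem D i₀) (subIncl D i₀)
    (fun U j k a => ?_) e he (fun U => colimit.ι (glueData D i₀).functor U)
    (fun U j => ι_proj D i₀ j U) (fun U j => ?_) (Over.mk (𝟙 i₀)) ?_
  · show D.map a.left ⁻¹ᵁ (U.2.preimage (D.map k.hom)).fromSpec.opensRange =
      (U.2.preimage (D.map j.hom)).fromSpec.opensRange
    rw [IsAffineOpen.opensRange_fromSpec, IsAffineOpen.opensRange_fromSpec,
      ← Scheme.Hom.comp_preimage, ← D.map_comp, Over.w a]
  · show proj D i₀ j ⁻¹ᵁ (U.2.preimage (D.map j.hom)).fromSpec.opensRange = _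
    rw [IsAffineOpen.opensRange_fromSpec, ← Scheme.Hom.comp_preimage, proj_hom]
    refine Eq.trans ?_ ((glueData D i₀).toBase_preimage_eq_opensRange_ι U)
    congr 1
    exact (Scheme.Opens.opensRange_ι U.1).symm
  · refine top_le_iff.mp fun x _ => Opens.mem_iSup.mpr ?_
    obtain ⟨V, hV, hxV, -⟩ := Opens.isBasis_iff_nbhd.mp (D.obj i₀).isBasis_affineOpens
      (U := ⊤) (x := D.map (𝟙 i₀) x) trivial
    exact ⟨⟨V, hV⟩, (IsAffineOpen.opensRange_fromSpec _).ge hxV⟩

/-- Cofiltered systems of schemes with affine transition maps have limits. -/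
theorem hasLimit : HasLimit D := by
  obtain ⟨i₀⟩ := IsCofiltered.nonempty (C := I)
  obtain ⟨h⟩ := nonempty_isLimit_limCone D i₀
  have : HasLimit (Over.forget i₀ ⋙ D) := ⟨⟨⟨_, h⟩⟩⟩
  exact Functor.Initial.hasLimit_of_comp (Over.forget i₀)

end Groth.Agent.LimLib.Existence
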