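import Mathlib.AlgebraicGeometry.AffineSpace
import Mathlib.AlgebraicGeometry.PullbackCarrier
import Mathlib.AlgebraicGeometry.Morphisms.UniversallyClosed
import Mathlib.AlgebraicGeometry.Morphisms.FinitePresentation
import Mathlib.RingTheory.Spectrum.Prime.Topology

/-!
# Closed sets avoiding a fibre are pulled back from schemes of finite presentation

* `exists_finset_avoid`: the algebraic statement;
* `exists_polynomial_nhd`: the geometric one;
* `universallyClosed_of_isClosedMap_affineSpace`.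
-/

set_option backward.isDefEq.respectTransparency false
set_option backward.defeqAttrib.useBackward true
set_option autoImplicit false

universe u

open CategoryTheory Limits AlgebraicGeometry TopologicalSpace TensorProduct

namespace Groth.Agent.LimLib

section algebra

variable {A C A' : Type u} [CommRing A] [CommRing C] [CommRing A'] [Algebra A C] [Algebra A A']

/-- The map of tensor products induced by an algebra map. -/
noncomputable abbrev tmap {B : Type u} [CommRing B] [Algebra A B] (φ : B →ₐ[A] A') :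
    C ⊗[A] B →ₐ[A] C ⊗[A] A' :=
  Algebra.TensorProduct.map (AlgHom.id A C) φ

lemma exists_finset_lift_tensor (y : C ⊗[A] A') :
    ∃ G : Finset A', ∀ (B : Type u) [CommRing B] [Algebra A B] (φ : B →ₐ[A] A'),
      (G : Set A') ⊆ Set.range φ → ∃ y' : C ⊗[A] B, tmap φ y' = y := by
  classical
  induction y with
  | zero => exact ⟨∅, fun B _ _ φ _ => ⟨0, map_zero _⟩⟩
  | tmul c a =>
    refine ⟨{a}, fun B _ _ φ h => ?_⟩
    obtain ⟨b, hb⟩ := h (Finset.mem_singleton_self a)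
    exact ⟨c ⊗ₜ b, by simp [tmap, hb]⟩
  | add x y hx hy =>
    obtain ⟨G₁, h₁⟩ := hx
    obtain ⟨G₂, h₂⟩ := hy
    refine ⟨G₁ ∪ G₂, fun B _ _ φ h => ?_⟩
    rw [Finset.coe_union, Set.union_subset_iff] at h
    obtain ⟨x', rfl⟩ := h₁ B φ h.1
    obtain ⟨y', rfl⟩ := h₂ B φ h.2
    exact ⟨x' + y', map_add _ _ _⟩

lemma exists_finset_lift_ideal (p : Ideal A') (e : C ⊗[A] A')
    (he : e ∈ p.map (Algebra.TensorProduct.includeRight : A' →ₐ[A] C ⊗[A] A')) :
    ∃ G : Finset A', ∀ (B : Type u) [CommRing B] [Algebra A B] (φ : B →ₐ[A] A'),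
      (G : Set A') ⊆ Set.range φ → ∃ e' : C ⊗[A] B,
        e' ∈ (p.comap φ).map (Algebra.TensorProduct.includeRight : B →ₐ[A] C ⊗[A] B) ∧
          tmap φ e' = e := by
  classical
  induction he using Submodule.span_induction with
  | mem e he =>
    obtain ⟨a, ha, rfl⟩ := he
    refine ⟨{a}, fun B _ _ φ h => ?_⟩
    obtain ⟨b, hb⟩ := h (Finset.mem_singleton_self a)
    refine ⟨Algebra.TensorProduct.includeRight b, Ideal.mem_map_of_mem _ (?_ : φ b ∈ p), ?_⟩
    · rw [hb]; exact ha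
    · simp [tmap, hb]
  | zero => exact ⟨∅, fun B _ _ φ _ => ⟨0, zero_mem _, map_zero _⟩⟩
  | add x y _ _ hx hy =>
    obtain ⟨G₁, h₁⟩ := hx
    obtain ⟨G₂, h₂⟩ := hy
    refine ⟨G₁ ∪ G₂, fun B _ _ φ h => ?_⟩
    rw [Finset.coe_union, Set.union_subset_iff] at h
    obtain ⟨x', hx', rfl⟩ := h₁ B φ h.1
    obtain ⟨y', hy', rfl⟩ := h₂ B φ h.2
    exact ⟨x' + y', add_mem hx' hy', map_add _ _ _⟩
  | smul r x _ hx =>
    obtain ⟨G₁, h₁⟩ := exists_finset_lift_tensor r
    obtain ⟨G₂, h₂⟩ := hx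
    refine ⟨G₁ ∪ G₂, fun B _ _ φ h => ?_⟩
    rw [Finset.coe_union, Set.union_subset_iff] at h
    obtain ⟨r', rfl⟩ := h₁ B φ h.1
    obtain ⟨x', hx', rfl⟩ := h₂ B φ h.2
    exact ⟨r' * x', Ideal.mul_mem_left _ _ hx', map_mul _ _ _⟩

/-- A closed subset of `Spec (C ⊗ A')` avoiding the fibre over a prime keeps doing so after
replacing `A'` by an algebra with enough elements in its image. -/
theorem exists_finset_avoid (Z : Set (PrimeSpectrum (C ⊗[A] A'))) (hZ : IsClosed Z) (p : Ideal A')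
    [p.IsPrime]
    (h : ∀ w ∈ Z, w.asIdeal.comap (Algebra.TensorProduct.includeRight : A' →ₐ[A] C ⊗[A] A') ≠ p) :
    ∃ G : Finset A', ∀ (B : Type u) [CommRing B] [Algebra A B] (φ : B →ₐ[A] A'),
      (G : Set A') ⊆ Set.range φ →
        ∀ w ∈ closure (PrimeSpectrum.comap (tmap φ).toRingHom '' Z),
          w.asIdeal.comap (Algebra.TensorProduct.includeRight : B →ₐ[A] C ⊗[A] B) ≠ p.comap φ := by
  classical
  let ι : A' →ₐ[A] C ⊗[A] A' := Algebra.TensorProduct.includeRight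
  let J := PrimeSpectrum.vanishingIdeal Z ⊔ p.map ι
  have hs : ∃ s, s ∉ p ∧ ι s ∈ J := by
    by_contra hn
    push Not at hn
    obtain ⟨w, hw, hJw, hwd⟩ := Ideal.exists_le_prime_disjoint J
      (p.primeCompl.map ι.toRingHom.toMonoidHom) (Set.disjoint_left.mpr fun y hy hy' => by
        obtain ⟨s, hs, rfl⟩ := hy'
        exact hn s hs hy)
    have hwZ : (⟨w, hw⟩ : PrimeSpectrum (C ⊗[A] A')) ∈ Z := by
      rw [← hZ.closure_eq, ← PrimeSpectrum.zeroLocus_vanishingIdeal_eq_closure]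
      exact (le_sup_left.trans hJw : PrimeSpectrum.vanishingIdeal Z ≤ w)
    refine h _ hwZ (le_antisymm (fun a ha => ?_) fun a ha => ?_)
    · by_contra hap
      exact Set.disjoint_left.mp hwd ha ⟨a, hap, rfl⟩
    · exact (le_sup_right.trans hJw : p.map ι ≤ w) (Ideal.mem_map_of_mem _ ha)
  obtain ⟨s, hsp, hsJ⟩ := hs
  obtain ⟨z, hz, e, he, hze⟩ := Submodule.mem_sup.mp hsJ
  obtain ⟨G, hG⟩ := exists_finset_lift_ideal p e he
  refine ⟨insert s G, fun B _ _ φ hB w hw hwp => ?_⟩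
  rw [Finset.coe_insert, Set.insert_subset_iff] at hB
  obtain ⟨s', hs'⟩ := hB.1
  obtain ⟨e', he', hee⟩ := hG B φ hB.2
  let z' := (Algebra.TensorProduct.includeRight : B →ₐ[A] C ⊗[A] B) s' - e'
  have hzz : tmap φ z' = z := by
    rw [map_sub, hee, sub_eq_iff_eq_add, hze]
    simp [tmap, hs', ι]
  have hsub : PrimeSpectrum.comap (tmap φ).toRingHom '' Z ⊆ PrimeSpectrum.zeroLocus {z'} := by
    rintro _ ⟨v, hv, rfl⟩ _ rfl
    show tmap φ z' ∈ v.asIdeal
    rw [hzz]
    exact PrimeSpectrum.mem_vanishingIdeal Z z |>.mp hz v hv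
  have hzw : z' ∈ w.asIdeal :=
    closure_minimal hsub (PrimeSpectrum.isClosed_zeroLocus _) hw rfl
  have hew : e' ∈ w.asIdeal := (Ideal.map_le_iff_le_comap.mpr (hwp.ge)) he'
  have : (Algebra.TensorProduct.includeRight : B →ₐ[A] C ⊗[A] B) s' ∈ w.asIdeal := by
    simpa [z'] using add_mem hzw hew
  have h2 : s' ∈ p.comap φ := hwp ▸ this
  exact hsp (hs' ▸ h2)

end algebra

section geometry

variable {X S T : Scheme.{u}} (f : X ⟶ S) [QuasiCompact f] (g : T ⟶ S)

/-- A closed subset of `X ×_S T` avoiding the fibre over `t` comes, near `t`, from one avoiding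
a fibre over a polynomial algebra on an affine open of `S`. -/
theorem exists_polynomial_nhd (t : T) (Z : Set ↥(pullback f g)) (hZ : IsClosed Z)
    (hZt : ∀ z ∈ Z, pullback.snd f g z ≠ t) :
    ∃ (U : S.Opens) (hU : IsAffineOpen U) (V : T.Opens) (ht : t ∈ V) (n : ℕ)
      (a : (V : Scheme.{u}) ⟶ Spec (CommRingCat.of (MvPolynomial (ULift.{u} (Fin n)) Γ(S, U))))
      (nV : pullback f (V.ι ≫ g) ⟶ pullback f g)
      (m : pullback f (V.ι ≫ g) ⟶ pullback f
        (Spec.map (CommRingCat.ofHom MvPolynomial.C) ≫ hU.fromSpec :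
          Spec (CommRingCat.of (MvPolynomial (ULift.{u} (Fin n)) Γ(S, U))) ⟶ S))
      (Z' : Set ↥(pullback f
        (Spec.map (CommRingCat.ofHom MvPolynomial.C) ≫ hU.fromSpec :
          Spec (CommRingCat.of (MvPolynomial (ULift.{u} (Fin n)) Γ(S, U))) ⟶ S))),
      IsAffineOpen V ∧ a ≫ Spec.map (CommRingCat.ofHom MvPolynomial.C) ≫ hU.fromSpec = V.ι ≫ g ∧
      nV ≫ pullback.fst f g = pullback.fst f (V.ι ≫ g) ∧
      nV ≫ pullback.snd f g = pullback.snd f (V.ι ≫ g) ≫ V.ι ∧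
      m ≫ pullback.fst f _ = pullback.fst f (V.ι ≫ g) ∧
      m ≫ pullback.snd f _ = pullback.snd f (V.ι ≫ g) ≫ a ∧
      IsClosed Z' ∧ (∀ z' ∈ Z', pullback.snd f _ z' ≠ a ⟨t, ht⟩) ∧
      ∀ z, nV z ∈ Z → m z ∈ Z' := by
  classical
  obtain ⟨U, hU, hgt⟩ : ∃ U : S.Opens, IsAffineOpen U ∧ g t ∈ U := by
    obtain ⟨_, ⟨U, hU, rfl⟩, hgt, -⟩ :=
      S.isBasis_affineOpens.exists_subset_of_mem_open (Set.mem_univ (g t)) isOpen_univ
    exact ⟨U, hU, hgt⟩
  obtain ⟨V, hV, htV, hVU⟩ : ∃ V : T.Opens, IsAffineOpen V ∧ t ∈ V ∧ V ≤ g ⁻¹ᵁ U := by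
    obtain ⟨_, ⟨V, hV, rfl⟩, htV, hVU⟩ :=
      T.isBasis_affineOpens.exists_subset_of_mem_open (show t ∈ g ⁻¹ᵁ U from hgt) (g ⁻¹ᵁ U).2
    exact ⟨V, hV, htV, hVU⟩
  let _ : Algebra Γ(S, U) Γ(T, V) := (g.appLE U V hVU).hom.toAlgebra
  have hgV : Spec.map (CommRingCat.ofHom (algebraMap Γ(S, U) Γ(T, V))) ≫ hU.fromSpec =
      hV.fromSpec ≫ g :=
    hU.SpecMap_appLE_fromSpec g hV hVU
  -- affine cover of the preimage
  have hbas : ∀ x : ↥(f ⁻¹ᵁ U), ∃ W : X.Opens, IsAffineOpen W ∧ W ≤ f ⁻¹ᵁ U ∧ x.1 ∈ W := fun x => by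
    obtain ⟨_, ⟨W, hW, rfl⟩, hxW, hWU⟩ :=
      X.isBasis_affineOpens.exists_subset_of_mem_open x.2 (f ⁻¹ᵁ U).2
    exact ⟨W, hW, hWU, hxW⟩
  choose W hW hWU hxW using hbas
  obtain ⟨ks, hks⟩ := (f.isCompact_preimage hU.isCompact).elim_finite_subcover
    (fun x => (W x : Set X)) (fun x => (W x).2)
    fun x hx => Set.mem_iUnion.mpr ⟨⟨x, hx⟩, hxW ⟨x, hx⟩⟩
  let _ (k : ↥(f ⁻¹ᵁ U)) : Algebra Γ(S, U) Γ(X, W k) := (f.appLE U (W k) (hWU k)).hom.toAlgebra
  have hfW (k : ↥(f ⁻¹ᵁ U)) : Spec.map (CommRingCat.ofHom (algebraMap Γ(S, U) Γ(X, W k))) ≫ hU.fromSpec =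
      (hW k).fromSpec ≫ f :=
    hU.SpecMap_appLE_fromSpec f (hW k) (hWU k)
  -- the charts
  let chart (k : ↥(f ⁻¹ᵁ U)) {B : Type u} [CommRing B] [Algebra Γ(S, U) B] {Y : Scheme.{u}}
      (j : Spec (CommRingCat.of B) ⟶ Y) (b : Y ⟶ S)
      (hj : Spec.map (CommRingCat.ofHom (algebraMap Γ(S, U) B)) ≫ hU.fromSpec = j ≫ b) :
      Spec (CommRingCat.of (Γ(X, W k) ⊗[Γ(S, U)] B)) ⟶ pullback f b :=
    (pullbackSpecIso Γ(S, U) Γ(X, W k) B).inv ≫
      pullback.map _ _ _ _ (hW k).fromSpec j hU.fromSpec (hfW k) hj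
  -- the ideal of `t`
  obtain ⟨t₀, ht₀⟩ : t ∈ Set.range hV.fromSpec := by rw [hV.range_fromSpec]; exact htV
  have hj₀ : Spec.map (CommRingCat.ofHom (algebraMap Γ(S, U) Γ(T, V))) ≫ hU.fromSpec =
      hV.fromSpec ≫ g := hgV
  have hav (k : ↥(f ⁻¹ᵁ U)) := exists_finset_avoid (A := Γ(S, U)) (C := Γ(X, W k)) (A' := Γ(T, V))
    ((chart k hV.fromSpec g hj₀) ⁻¹' Z) (hZ.preimage (chart k hV.fromSpec g hj₀).continuous)
    t₀.asIdeal (fun w hw e => by
      refine hZt _ hw ?_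
      rw [← Scheme.Hom.comp_apply, ← ht₀]
      simp only [chart, Category.assoc, pullback.map, pullback.lift_snd, pullbackSpecIso_inv_snd_assoc]
      rw [Scheme.Hom.comp_apply]
      exact congrArg hV.fromSpec (PrimeSpectrum.ext e))
  choose G hG using hav
  let G' : Finset Γ(T, V) := ks.biUnion G
  let v : ULift.{u} (Fin G'.card) → Γ(T, V) := fun i => (G'.equivFin.symm i.down).1
  let φ : MvPolynomial (ULift.{u} (Fin G'.card)) Γ(S, U) →ₐ[Γ(S, U)] Γ(T, V) := MvPolynomial.aeval v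
  have hφ (k) (hk : k ∈ ks) : (G k : Set Γ(T, V)) ⊆ Set.range φ := fun x hx => by
    have hx' : x ∈ G' := Finset.mem_biUnion.mpr ⟨k, hk, hx⟩
    exact ⟨MvPolynomial.X ⟨G'.equivFin ⟨x, hx'⟩⟩, by simp [φ, v]⟩
  let b : Spec (CommRingCat.of (MvPolynomial (ULift.{u} (Fin G'.card)) Γ(S, U))) ⟶ S :=
    Spec.map (CommRingCat.ofHom MvPolynomial.C) ≫ hU.fromSpec
  let a : (V : Scheme.{u}) ⟶ Spec (CommRingCat.of (MvPolynomial (ULift.{u} (Fin G'.card)) Γ(S, U))) :=
    hV.isoSpec.hom ≫ Spec.map (CommRingCat.ofHom φ.toRingHom)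
  have hiso : hV.isoSpec.hom ≫ hV.fromSpec = V.ι := hV.isoSpec_hom_fromSpec
  have hab : a ≫ b = V.ι ≫ g := by
    simp only [a, b, Category.assoc]
    rw [← Category.assoc (Spec.map _), ← Spec.map_comp, ← hiso, Category.assoc, ← hgV]
    refine congrArg (hV.isoSpec.hom ≫ Spec.map · ≫ hU.fromSpec) ?_
    exact CommRingCat.hom_ext (RingHom.ext fun r => φ.commutes r)
  let nV : pullback f (V.ι ≫ g) ⟶ pullback f g :=
    pullback.map _ _ _ _ (𝟙 X) V.ι (𝟙 S) (by simp) (by simp)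
  let m : pullback f (V.ι ≫ g) ⟶ pullback f b :=
    pullback.map _ _ _ _ (𝟙 X) a (𝟙 S) (by simp) (by simp [hab])
  refine ⟨U, hU, V, htV, G'.card, a, nV, m, closure (m '' (nV ⁻¹' Z)), hV, hab, by simp [nV],
    by simp [nV], by simp [m, b], by simp [m, b], isClosed_closure, fun z' hz' e => ?_,
    fun z hz => subset_closure ⟨z, hz, rfl⟩⟩
  -- `z'` lies in a chart
  have hz'U : pullback.fst f b z' ∈ f ⁻¹ᵁ U := by
    show (pullback.fst f b ≫ f) z' ∈ U
    rw [pullback.condition]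
    simp only [b, ← Category.assoc]
    rw [Scheme.Hom.comp_apply]
    exact hU.range_fromSpec.le ⟨_, rfl⟩
  obtain ⟨k, hk, hzk⟩ := Set.mem_iUnion₂.mp (hks hz'U)
  let jT : Spec (CommRingCat.of (MvPolynomial (ULift.{u} (Fin G'.card)) Γ(S, U))) ⟶ _ := 𝟙 _
  have hjT : Spec.map (CommRingCat.ofHom (algebraMap Γ(S, U) (MvPolynomial (ULift.{u} (Fin G'.card)) Γ(S, U)))) ≫
      hU.fromSpec = jT ≫ b := (Category.id_comp _).symm
  let q := chart k jT b hjT
  have hq : IsOpenImmersion q := by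
    simp only [q, chart]
    infer_instance
  have hz'q : z' ∈ Set.range q := by
    simp only [q, chart, Scheme.Hom.comp_base, TopCat.coe_comp]
    rw [Set.range_comp, (pullbackSpecIso Γ(S, U) Γ(X, W k)
      (MvPolynomial (ULift.{u} (Fin G'.card)) Γ(S, U))).inv.surjective.range_eq, Set.image_univ,
      Scheme.Pullback.range_map]
    refine ⟨?_, ⟨pullback.snd f b z', rfl⟩⟩
    show pullback.fst f b z' ∈ Set.range (hW k).fromSpec
    rw [(hW k).range_fromSpec]
    exact hzk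
  obtain ⟨w, rfl⟩ := hz'q
  -- the closure in the chart
  let sq : Spec (CommRingCat.of (Γ(X, W k) ⊗[Γ(S, U)] Γ(T, V))) ⟶
      Spec (CommRingCat.of (Γ(X, W k) ⊗[Γ(S, U)] MvPolynomial (ULift.{u} (Fin G'.card)) Γ(S, U))) :=
    Spec.map (CommRingCat.ofHom (tmap (C := Γ(X, W k)) φ).toRingHom)
  let qV : Spec (CommRingCat.of (Γ(X, W k) ⊗[Γ(S, U)] Γ(T, V))) ⟶ pullback f (V.ι ≫ g) :=
    chart k hV.isoSpec.inv (V.ι ≫ g) (by
      rw [← Category.assoc, ← hiso, Iso.inv_hom_id_assoc]; exact hgV)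
  have hqn : qV ≫ nV = chart k hV.fromSpec g hj₀ := by
    apply pullback.hom_ext
    · simp [qV, nV, chart]
    · simp only [qV, nV, chart, pullback.map, Category.assoc, pullback.lift_snd, pullback.lift_snd_assoc]
      rw [← hiso, Iso.inv_hom_id_assoc]
  have h1 : qV ≫ pullback.fst f (V.ι ≫ g) = Spec.map (CommRingCat.ofHom (algebraMap Γ(X, W k)
      (Γ(X, W k) ⊗[Γ(S, U)] Γ(T, V)))) ≫ (hW k).fromSpec := by
    simp [qV, chart, pullbackSpecIso_inv_fst'_assoc]
    rfl
  have h2 : qV ≫ pullback.snd f (V.ι ≫ g) = Spec.map (CommRingCat.ofHom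
      (Algebra.TensorProduct.includeRight : Γ(T, V) →ₐ[Γ(S, U)] Γ(X, W k) ⊗[Γ(S, U)] Γ(T, V)).toRingHom) ≫
        hV.isoSpec.inv := by
    simp [qV, chart, pullbackSpecIso_inv_snd_assoc]
  have hqm : qV ≫ m = sq ≫ q := by
    apply pullback.hom_ext
    · simp only [m, q, chart, pullback.map, Category.assoc, pullback.lift_fst, pullback.lift_fst_assoc,
        Category.comp_id, pullbackSpecIso_inv_fst'_assoc, h1]
      rw [← Category.assoc sq, ← Spec.map_comp]
      refine congrArg (Spec.map · ≫ (hW k).fromSpec) ?_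
      refine CommRingCat.hom_ext (RingHom.ext fun c => ?_)
      exact ((tmap (C := Γ(X, W k)) φ).toRingHom.comp (algebraMap _ _)).congr_arg rfl |>.symm.trans
        (by simp [tmap, Algebra.TensorProduct.algebraMap_apply]) |>.symm
    · simp only [m, q, chart, pullback.map, Category.assoc, pullback.lift_snd, pullback.lift_snd_assoc,
        jT, Category.comp_id, pullbackSpecIso_inv_snd]
      rw [← Category.assoc qV, h2, Category.assoc]
      simp only [a, Iso.inv_hom_id_assoc, sq]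
      rw [← Spec.map_comp, ← Spec.map_comp]
      refine congrArg Spec.map (CommRingCat.hom_ext (RingHom.ext fun c => ?_))
      simp [tmap]
  have hw : w ∈ closure (sq '' ((chart k hV.fromSpec g hj₀) ⁻¹' Z)) := by
    have hmem : w ∈ q ⁻¹' closure (m '' (nV ⁻¹' Z)) := hz'
    rw [q.isOpenEmbedding.isOpenMap.preimage_closure_eq_closure_preimage q.continuous] at hmem
    refine closure_mono ?_ hmem
    rintro y ⟨z, hz, hzy⟩
    have hzr : z ∈ Set.range qV := by
      simp only [qV, chart, Scheme.Hom.comp_base, TopCat.coe_comp]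
      rw [Set.range_comp, (pullbackSpecIso Γ(S, U) Γ(X, W k) Γ(T, V)).inv.surjective.range_eq,
        Set.image_univ, Scheme.Pullback.range_map]
      refine ⟨?_, ⟨_, (hV.isoSpec.inv.surjective (pullback.snd f (V.ι ≫ g) z)).choose_spec⟩⟩
      show pullback.fst f (V.ι ≫ g) z ∈ Set.range (hW k).fromSpec
      have : pullback.fst f (V.ι ≫ g) z = pullback.fst f b (m z) := by
        rw [← Scheme.Hom.comp_apply]
        simp [m]
      rw [this, hzy, ← Scheme.Hom.comp_apply]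
      simp only [q, chart, pullback.map, Category.assoc, pullback.lift_fst,
        pullbackSpecIso_inv_fst'_assoc]
      exact ⟨_, rfl⟩
    obtain ⟨w', rfl⟩ := hzr
    refine ⟨w', ?_, ?_⟩
    · show chart k hV.fromSpec g hj₀ w' ∈ Z
      rw [← hqn]
      exact hz
    · apply q.isOpenEmbedding.injective
      rw [← Scheme.Hom.comp_apply, ← hqm]
      exact hzy
  refine hG k _ φ (hφ k hk) w hw ?_
  have e1 : pullback.snd f b (q w) = Spec.map (CommRingCat.ofHom
      (Algebra.TensorProduct.includeRight : MvPolynomial (ULift.{u} (Fin G'.card)) Γ(S, U) →ₐ[Γ(S, U)]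
        Γ(X, W k) ⊗[Γ(S, U)] MvPolynomial (ULift.{u} (Fin G'.card)) Γ(S, U)).toRingHom) w := by
    rw [← Scheme.Hom.comp_apply]
    congr 2
    simp only [q, chart, jT, pullback.map, Category.assoc, pullback.lift_snd, Category.comp_id]
    exact congrArg (fun φ => φ.base) (pullbackSpecIso_inv_snd Γ(S, U) Γ(X, W k)
      (MvPolynomial (ULift.{u} (Fin G'.card)) Γ(S, U)))
  have e2 : a ⟨t, htV⟩ = Spec.map (CommRingCat.ofHom φ.toRingHom) t₀ := by
    simp only [a, Scheme.Hom.comp_apply]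
    congr 1
    apply hV.fromSpec.isOpenEmbedding.injective
    rw [← Scheme.Hom.comp_apply, hiso, ht₀]
    rfl
  have e' := e1.symm.trans (e.trans e2)
  exact congrArg PrimeSpectrum.asIdeal e'

/-- A quasi-compact morphism which stays closed after base change to all affine spaces is
universally closed. -/
theorem universallyClosed_of_isClosedMap_affineSpace
    (h : ∀ n : ℕ, IsClosedMap (pullback.snd f (𝔸(ULift.{u} (Fin n); S) ↘ S))) :
    UniversallyClosed f := by
  refine ⟨fun X' T i₁ g p hp => ?_⟩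
  suffices hmain : IsClosedMap (pullback.snd f g) by
    intro C hC
    have e : (p : X' → T) = (pullback.snd f g) ∘ hp.flip.isoPullback.hom := by
      funext x
      rw [Function.comp_apply, ← Scheme.Hom.comp_apply, hp.flip.isoPullback_hom_snd]
    show IsClosed (p '' C)
    rw [e, Set.image_comp]
    exact hmain _ (hp.flip.isoPullback.hom.homeomorph.isClosedMap _ hC)
  intro Z hZ
  rw [← isOpen_compl_iff, isOpen_iff_forall_mem_open]
  intro t ht
  obtain ⟨U, hU, V, htV, n, a, nV, m, Z', hV, hab, hn₁, hn₂, hm₁, hm₂, hZ', hZ't, hmem⟩ :=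
    exists_polynomial_nhd f g t Z hZ (fun z hz e => ht ⟨z, hz, e⟩)
  let A : Scheme.{u} := Spec (CommRingCat.of (MvPolynomial (ULift.{u} (Fin n)) Γ(S, U)))
  let b : A ⟶ S := Spec.map (CommRingCat.ofHom MvPolynomial.C) ≫ hU.fromSpec
  -- the closed image in the polynomial algebra
  have hcl : IsClosed (pullback.snd f b '' Z') := by
    let j : A ⟶ 𝔸(ULift.{u} (Fin n); S) :=
      (AffineSpace.SpecIso (ULift.{u} (Fin n)) Γ(S, U)).inv ≫ AffineSpace.map _ hU.fromSpec
    have : IsOpenImmersion j := by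
      have : IsOpenImmersion (AffineSpace.map (ULift.{u} (Fin n)) hU.fromSpec) :=
        MorphismProperty.of_isPullback (AffineSpace.isPullback_map hU.fromSpec).flip inferInstance
      infer_instance
    have hj : j ≫ 𝔸(ULift.{u} (Fin n); S) ↘ S = b := by
      simp only [j, b, Category.assoc, AffineSpace.map_over]
      rw [← Category.assoc, AffineSpace.SpecIso_inv_over]
    let k : pullback f b ⟶ pullback f (𝔸(ULift.{u} (Fin n); S) ↘ S) :=
      pullback.map _ _ _ _ (𝟙 X) j (𝟙 S) (by simp) (by simp [hj])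
    have : IsOpenImmersion k := inferInstance
    have hk : k ≫ pullback.snd _ _ = pullback.snd f b ≫ j := by simp [k]
    have hZc : Z' = k ⁻¹' closure (k '' Z') := by
      rw [k.isOpenEmbedding.isOpenMap.preimage_closure_eq_closure_preimage k.continuous,
        k.isOpenEmbedding.injective.preimage_image, hZ'.closure_eq]
    have hrange : Set.range k = (pullback.snd f _) ⁻¹' Set.range j := by
      simp only [k, Scheme.Pullback.range_map]
      simp
    have : pullback.snd f b '' Z' = j ⁻¹' (pullback.snd f _ '' closure (k '' Z')) := by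
      ext y
      constructor
      · rintro ⟨z, hz, rfl⟩
        exact ⟨k z, subset_closure ⟨z, hz, rfl⟩, by rw [← Scheme.Hom.comp_apply, hk]; rfl⟩
      · rintro ⟨x, hx, hxy⟩
        obtain ⟨z, rfl⟩ : x ∈ Set.range k := hrange.ge ⟨y, hxy.symm⟩
        refine ⟨z, hZc.ge hx, j.isOpenEmbedding.injective ?_⟩
        rw [← hxy, ← Scheme.Hom.comp_apply, ← hk]
        rfl
    rw [this]
    exact (h n _ isClosed_closure).preimage j.continuous
  refine ⟨V.ι '' (a ⁻¹' (pullback.snd f b '' Z')ᶜ), ?_,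
    V.ι.isOpenEmbedding.isOpenMap _ (hcl.isOpen_compl.preimage a.continuous),
    ⟨⟨t, htV⟩, fun ⟨z', hz', e⟩ => hZ't z' hz' e, rfl⟩⟩
  rintro _ ⟨v, hv, rfl⟩ ⟨z, hz, hzv⟩
  have hnr : z ∈ Set.range nV := by
    have hpb : IsPullback nV (pullback.snd f (V.ι ≫ g)) (pullback.snd f g) V.ι :=
      IsPullback.of_right (by simpa [hn₁] using IsPullback.of_hasPullback f (V.ι ≫ g)) hn₂
        (IsPullback.of_hasPullback f g)
    rw [← hpb.isoPullback_hom_fst, Scheme.Hom.comp_base, TopCat.coe_comp, Set.range_comp,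
      hpb.isoPullback.hom.surjective.range_eq, Set.image_univ, Scheme.Pullback.range_fst]
    exact ⟨v, hzv.symm⟩
  obtain ⟨z, rfl⟩ := hnr
  refine hv ⟨m z, hmem z hz, ?_⟩
  have hzv' : pullback.snd f (V.ι ≫ g) z = v := by
    apply V.ι.isOpenEmbedding.injective
    rw [← Scheme.Hom.comp_apply, ← hn₂]
    exact hzv
  rw [← Scheme.Hom.comp_apply, hm₂, Scheme.Hom.comp_apply, hzv']

end geometry

end Groth.Agent.LimLib
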