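import Mathlib.AlgebraicGeometry.AffineScheme
import Mathlib.Algebra.Category.Ring.FilteredColimits
import Mathlib.RingTheory.Localization.AtPrime.Basic
import Mathlib.CategoryTheory.Limits.Types.Filtered

/-!
# The localization at a prime as a colimit of localizations away from elements
-/

set_option backward.isDefEq.respectTransparency false
set_option backward.defeqAttrib.useBackward true
set_option autoImplicit false

universe u

open CategoryTheory Limits AlgebraicGeometry Opposite

namespace Groth.Agent.LimLib

variable {A : Type u} [CommRing A] (p : Ideal A) [p.IsPrime]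

/-- The elements outside a prime, ordered by their basic opens. -/
structure AwayIdx : Type u where
  /-- the element -/
  val : A
  notMem : val ∉ p

namespace AwayIdx

variable {p}

instance : Preorder (AwayIdx p) where
  le f g := IsUnit (algebraMap A (Localization.Away g.val) f.val)
  le_refl f := IsLocalization.Away.algebraMap_isUnit f.val
  le_trans f g h hfg hgh := by
    have := hfg.map (IsLocalization.Away.lift (S := Localization.Away g.val) g.val hgh)
    rwa [IsLocalization.Away.lift_eq] at this

lemma le_def {f g : AwayIdx p} : f ≤ g ↔ IsUnit (algebraMap A (Localization.Away g.val) f.val) :=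
  Iff.rfl

/-- The product index. -/
def mul (f g : AwayIdx p) : AwayIdx p :=
  ⟨f.val * g.val, fun h => (‹p.IsPrime›.mem_or_mem h).elim f.notMem g.notMem⟩

lemma le_mul_left (f g : AwayIdx p) : f ≤ f.mul g := by
  have : IsUnit (algebraMap A (Localization.Away (f.mul g).val) (f.val * g.val)) :=
    IsLocalization.Away.algebraMap_isUnit (f.mul g).val
  rw [map_mul] at this
  exact isUnit_of_mul_isUnit_left this

lemma le_mul_right (f g : AwayIdx p) : g ≤ f.mul g := by
  have : IsUnit (algebraMap A (Localization.Away (f.mul g).val) (f.val * g.val)) :=
    IsLocalization.Away.algebraMap_isUnit (f.mul g).val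
  rw [map_mul] at this
  exact isUnit_of_mul_isUnit_right this

instance : IsDirectedOrder (AwayIdx p) :=
  ⟨fun f g => ⟨f.mul g, le_mul_left f g, le_mul_right f g⟩⟩

/-- The unit index. -/
def one : AwayIdx p := ⟨1, fun h => ‹p.IsPrime›.ne_top ((Ideal.eq_top_iff_one p).mpr h)⟩

instance : Nonempty (AwayIdx p) := ⟨one⟩

/-- The transition map. -/
noncomputable def tr {f g : AwayIdx p} (h : f ≤ g) :
    Localization.Away f.val →+* Localization.Away g.val :=
  IsLocalization.Away.lift (S := Localization.Away f.val) (g := algebraMap A (Localization.Away g.val))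
    f.val (le_def.mp h)

@[simp]
lemma tr_algebraMap {f g : AwayIdx p} (h : f ≤ g) (a : A) :
    tr h (algebraMap A (Localization.Away f.val) a) = algebraMap A (Localization.Away g.val) a :=
  IsLocalization.Away.lift_eq _ _ a

lemma hom_ext {f : AwayIdx p} {C : Type u} [CommRing C] {φ ψ : Localization.Away f.val →+* C}
    (h : ∀ a, φ (algebraMap A _ a) = ψ (algebraMap A _ a)) : φ = ψ :=
  IsLocalization.ringHom_ext (Submonoid.powers f.val) (RingHom.ext h)

lemma tr_self (f : AwayIdx p) : tr (le_refl f) = RingHom.id _ :=
  hom_ext fun a => tr_algebraMap _ a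

lemma tr_comp {f g k : AwayIdx p} (h : f ≤ g) (h' : g ≤ k) :
    tr (h.trans h') = (tr h').comp (tr h) :=
  hom_ext fun a => by rw [RingHom.comp_apply, tr_algebraMap, tr_algebraMap, tr_algebraMap]

variable (p)

/-- The localizations away from elements outside `p`. -/
noncomputable def rings : AwayIdx p ⥤ CommRingCat.{u} where
  obj f := CommRingCat.of (Localization.Away f.val)
  map h := CommRingCat.ofHom (tr h.le)
  map_id f := CommRingCat.hom_ext (tr_self f)
  map_comp h h' := CommRingCat.hom_ext (tr_comp h.le h'.le)

variable (B : Type u) [CommRing B] [Algebra A B] [IsLocalization.AtPrime B p]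

/-- The map to the localization at `p`. -/
noncomputable def toAtPrime (f : AwayIdx p) : Localization.Away f.val →+* B :=
  IsLocalization.Away.lift (g := algebraMap A B) f.val
    (IsLocalization.map_units B (⟨f.val, f.notMem⟩ : p.primeCompl))

lemma toAtPrime_algebraMap (f : AwayIdx p) (a : A) :
    toAtPrime p B f (algebraMap A _ a) = algebraMap A B a :=
  IsLocalization.Away.lift_eq _ _ a

/-- The localization at `p` as a cocone. -/
noncomputable def cocone : Cocone (rings p) where
  pt := CommRingCat.of B
  ι :=
    { app := fun f => CommRingCat.ofHom (toAtPrime p B f)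
      naturality := fun f g h => CommRingCat.hom_ext <| hom_ext fun a =>
        (congrArg (toAtPrime p B g) (tr_algebraMap h.le a)).trans
          ((toAtPrime_algebraMap p B g a).trans (toAtPrime_algebraMap p B f a).symm) }

/-- The localization at `p` is the colimit of the localizations away from elements outside `p`. -/
noncomputable def isColimitCocone : IsColimit (cocone p B) := by
  have : PreservesColimit (rings p) (forget CommRingCat.{u}) := inferInstance
  have : ReflectsColimit (rings p) (forget CommRingCat.{u}) :=
    reflectsColimit_of_reflectsIsomorphisms _ _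
  refine isColimitOfReflects (forget CommRingCat.{u}) ?_
  refine Types.FilteredColimit.isColimitOf _ _ (fun (b : B) => ?_) fun f g x y h => ?_
  · obtain ⟨⟨a, s⟩, hb⟩ := IsLocalization.surj p.primeCompl b
    let f : AwayIdx p := ⟨s.1, s.2⟩
    refine ⟨f, IsLocalization.mk' (Localization.Away f.val) a
      (⟨f.val, Submonoid.mem_powers _⟩ : Submonoid.powers f.val), ?_⟩
    show b = toAtPrime p B f _
    refine (IsLocalization.map_units B s).mul_right_cancel ?_
    rw [hb, ← toAtPrime_algebraMap p B f (s : A), ← map_mul]
    erw [IsLocalization.mk'_spec, toAtPrime_algebraMap]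
  · let x : Localization.Away f.val := x
    let y : Localization.Away g.val := y
    change toAtPrime p B f x = toAtPrime p B g y at h
    obtain ⟨n, a, ha⟩ := IsLocalization.Away.surj f.val x
    obtain ⟨m, b, hb⟩ := IsLocalization.Away.surj g.val y
    have e : algebraMap A B (a * g.val ^ m) = algebraMap A B (b * f.val ^ n) := by
      simp only [map_mul, map_pow, ← toAtPrime_algebraMap p B f a, ← toAtPrime_algebraMap p B g b,
        ← ha, ← hb, toAtPrime_algebraMap, h]
      ring
    obtain ⟨s, hs⟩ := (IsLocalization.eq_iff_exists p.primeCompl B).mp e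
    let k : AwayIdx p := (f.mul g).mul ⟨s.1, s.2⟩
    have hf : f ≤ k := (le_mul_left f g).trans (le_mul_left _ _)
    have hg : g ≤ k := (le_mul_right f g).trans (le_mul_left _ _)
    refine ⟨k, homOfLE hf, homOfLE hg, ?_⟩
    have hsu : IsUnit (algebraMap A (Localization.Away k.val) s.1) := le_mul_right (f.mul g) ⟨s.1, s.2⟩
    show tr hf x = tr hg y
    have hx := congrArg (tr hf) ha
    have hy := congrArg (tr hg) hb
    simp only [map_mul, map_pow, tr_algebraMap] at hx hy
    have e' := congrArg (algebraMap A (Localization.Away k.val)) hs
    simp only [map_mul, map_pow, ← hx, ← hy] at e'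
    have e'' := hsu.mul_left_cancel e'
    refine (((le_def.mp hf).pow n).mul ((le_def.mp hg).pow m)).mul_right_cancel ?_
    linear_combination e''

end AwayIdx

end Groth.Agent.LimLib
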