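import Groth.Agent.LimLib.Ultra
import Mathlib.AlgebraicGeometry.ValuativeCriterion

/-!
# The existence part of the valuative criterion descends along limits

Given compatible inverse systems `E ⟶ D` with universally closed limit, some stage satisfies the
existence part of the valuative criterion.  The proof takes an ultraproduct of the squares without
lifts.
-/

set_option backward.isDefEq.respectTransparency false
set_option backward.defeqAttrib.useBackward true
set_option autoImplicit false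

universe u

open CategoryTheory Limits AlgebraicGeometry TopologicalSpace Opposite IsLocalRing

namespace Groth.Agent.LimLib

namespace ValStage

lemma eventually_exists {ι α : Type*} [Finite α] (F : Ultrafilter ι) {p : α → ι → Prop}
    (h : ∀ᶠ i in (F : Filter ι), ∃ a, p a i) : ∃ a, ∀ᶠ i in (F : Filter ι), p a i := by
  by_contra hc
  push Not at hc
  have hall : ∀ᶠ i in (F : Filter ι), ∀ a, ¬ p a i := Filter.eventually_all.mpr hc
  obtain ⟨i, ⟨a, ha⟩, hn⟩ := (h.and hall).exists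
  exact hn a ha

/-- A morphism out of the spectrum of a local ring lands in an open containing the image of the
closed point. -/
lemma landsIn_of_closedPoint {R : Type u} [CommRing R] [IsLocalRing R] {Z : Scheme.{u}}
    (f : Spec (CommRingCat.of R) ⟶ Z) {U : Z.Opens} (h : f (closedPoint R) ∈ U) :
    Ultra.LandsIn f U := by
  rintro _ ⟨x, rfl⟩
  exact ((IsLocalRing.specializes_closedPoint x).map f.continuous).mem_open U.2 h

lemma exists_finite_affine_cover {X : Scheme.{u}} (U : X.Opens) (hU : IsCompact (U : Set X)) :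
    ∃ (α : Type u) (_ : Finite α) (W : α → X.Opens),
      (∀ a, IsAffineOpen (W a) ∧ W a ≤ U) ∧ ∀ x ∈ U, ∃ a, x ∈ W a := by
  have h : ∀ x : U, ∃ W : X.Opens, IsAffineOpen W ∧ W ≤ U ∧ x.1 ∈ W := fun x => by
    obtain ⟨_, ⟨W, hW, rfl⟩, hxW, hWU⟩ := X.isBasis_affineOpens.exists_subset_of_mem_open x.2 U.2
    exact ⟨W, hW, hWU, hxW⟩
  choose W hW hWU hxW using h
  obtain ⟨t, ht⟩ := hU.elim_finite_subcover (fun x : U => (W x : Set X)) (fun x => (W x).2)
    fun x hx => Set.mem_iUnion.mpr ⟨⟨x, hx⟩, hxW ⟨x, hx⟩⟩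
  exact ⟨t, inferInstance, fun a => W a.1, fun a => ⟨hW _, hWU _⟩, fun x hx => by
    obtain ⟨a, ha, hxa⟩ := Set.mem_iUnion₂.mp (ht hx)
    exact ⟨⟨a, ha⟩, hxa⟩⟩

section

variable {J : Type u} [Preorder J] [IsDirectedOrder J] (G : Jᵒᵖ ⥤ Scheme.{u}) (c : Cone G)
  (hc : IsLimit c) (j₀ : J)

include hc in
lemma exists_lift_of_eventual {T : Scheme.{u}} (m : ∀ ν, j₀ ≤ ν → (T ⟶ G.obj (op ν)))
    (hm : ∀ (ν μ : J) (hν : j₀ ≤ ν) (h : ν ≤ μ), m μ (hν.trans h) ≫ G.map (homOfLE h).op = m ν hν) :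
    ∃ l : T ⟶ c.pt, ∀ ν hν, l ≫ c.π.app (op ν) = m ν hν := by
  choose b hb₁ hb₂ using fun ν : J => exists_ge_ge ν j₀
  let app (ν : Jᵒᵖ) : T ⟶ G.obj ν := m (b ν.unop) (hb₂ _) ≫ G.map (homOfLE (hb₁ ν.unop)).op
  have happ (ν : J) (μ : J) (hν : ν ≤ μ) (hμ : j₀ ≤ μ) :
      app (op ν) = m μ hμ ≫ G.map (homOfLE hν).op := by
    obtain ⟨k, hk₁, hk₂⟩ := exists_ge_ge (b ν) μ
    show m (b ν) _ ≫ _ = _
    rw [← hm (b ν) k (hb₂ ν) hk₁, ← hm μ k hμ hk₂, Category.assoc, Category.assoc, ← G.map_comp,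
      ← G.map_comp]
    rfl
  refine ⟨hc.lift ⟨T, ⟨app, fun ν μ a => ?_⟩⟩, fun ν hν => ?_⟩
  · have h : μ.unop ≤ ν.unop := a.unop.le
    show 𝟙 T ≫ app μ = app ν ≫ G.map a
    rw [Category.id_comp, show app μ = _ from happ μ.unop (b ν.unop) (h.trans (hb₁ _)) (hb₂ _)]
    show _ = (m (b ν.unop) _ ≫ G.map _) ≫ G.map a
    rw [Category.assoc, ← G.map_comp]
    rfl
  · rw [hc.fac]
    show app (op ν) = m ν hν
    rw [happ ν ν le_rfl hν, show (homOfLE (le_refl ν)).op = 𝟙 (op ν) from rfl, G.map_id,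
      Category.comp_id]

include hc in
lemma hom_ext_eventual {T : Scheme.{u}} {a b : T ⟶ c.pt}
    (h : ∀ ν, j₀ ≤ ν → a ≫ c.π.app (op ν) = b ≫ c.π.app (op ν)) : a = b := by
  refine hc.hom_ext fun ν => ?_
  obtain ⟨μ, h₁, h₂⟩ := exists_ge_ge ν.unop j₀
  rw [← c.w (homOfLE h₁).op, ← Category.assoc, h μ h₂, Category.assoc]

end

end ValStage

open ValStage

/-- If the limit of `e : E ⟶ D` is universally closed, then a stage satisfies the existence part
of the valuative criterion, provided lifts to a stage `E j` can be obtained from lifts to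
`E j₀`. -/
theorem exists_existence_stage {J : Type u} [Preorder J] [IsDirectedOrder J]
    (D E : Jᵒᵖ ⥤ Scheme.{u}) [∀ (i j : Jᵒᵖ) (a : i ⟶ j), IsAffineHom (D.map a)]
    [∀ (i j : Jᵒᵖ) (a : i ⟶ j), IsAffineHom (E.map a)]
    (cD : Cone D) (hD : IsLimit cD) (cE : Cone E) (hE : IsLimit cE) (e : E ⟶ D)
    (f : cE.pt ⟶ cD.pt) (hw : ∀ j, cE.π.app j ≫ e.app j = f ≫ cD.π.app j) [UniversallyClosed f]
    (j₀ : J) [CompactSpace (D.obj (op j₀))] [QuasiCompact (e.app (op j₀))]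
    [LocallyOfFiniteType (e.app (op j₀))]
    (hlift : ∀ (j : J) (h : j₀ ≤ j) (R : Type u) [CommRing R] [IsDomain R] [ValuationRing R]
      (K : Type u) [Field K] [Algebra R K] [IsFractionRing R K]
      (x : Spec (CommRingCat.of K) ⟶ E.obj (op j)) (d : Spec (CommRingCat.of R) ⟶ D.obj (op j))
      (l₀ : Spec (CommRingCat.of R) ⟶ E.obj (op j₀)),
      x ≫ e.app (op j) = Spec.map (CommRingCat.ofHom (algebraMap R K)) ≫ d →
      x ≫ E.map (homOfLE h).op = Spec.map (CommRingCat.ofHom (algebraMap R K)) ≫ l₀ →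
      l₀ ≫ e.app (op j₀) = d ≫ D.map (homOfLE h).op →
      ∃ l : Spec (CommRingCat.of R) ⟶ E.obj (op j),
        Spec.map (CommRingCat.ofHom (algebraMap R K)) ≫ l = x ∧ l ≫ e.app (op j) = d) :
    ∃ j, j₀ ≤ j ∧ ValuativeCriterion.Existence (e.app (op j)) := by
  classical
  by_contra hcon
  push Not at hcon
  have hbad : ∀ i : {j // j₀ ≤ j}, ∃ S : ValuativeCommSq (e.app (op i.1)), ¬ S.commSq.HasLift :=
    fun i => by simpa [ValuativeCriterion.Existence] using hcon i.1 i.2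
  choose S hS using hbad
  let ι := {j // j₀ ≤ j}
  have : Nonempty ι := ⟨⟨j₀, le_rfl⟩⟩
  have : IsDirectedOrder ι := ⟨fun a b => by
    obtain ⟨k, hak, hbk⟩ := exists_ge_ge a.1 b.1
    exact ⟨⟨k, a.2.trans hak⟩, hak, hbk⟩⟩
  let F : Ultrafilter ι := Ultrafilter.of Filter.atTop
  have hF (ν : J) : ∀ᶠ i in (F : Filter ι), ν ≤ i.1 := by
    obtain ⟨k, hk₁, hk₂⟩ := exists_ge_ge ν j₀
    refine (Ultrafilter.of_le _ : (F : Filter ι) ≤ Filter.atTop) ?_
    exact (Filter.eventually_ge_atTop (⟨k, hk₂⟩ : ι)).mono fun i hi => hk₁.trans hi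
  let R : ι → Type u := fun i => (S i).R
  let K : ι → Type u := fun i => (S i).K
  let am (i : ι) := Spec.map (CommRingCat.ofHom (algebraMap (S i).R (S i).K))
  -- the families at a stage
  let d (ν : J) : ∀ i : ι, ν ≤ i.1 → (Spec (CommRingCat.of (R i)) ⟶ D.obj (op ν)) :=
    fun i h => (S i).i₂ ≫ D.map (homOfLE h).op
  let x (ν : J) : ∀ i : ι, ν ≤ i.1 → (Spec (CommRingCat.of (K i)) ⟶ E.obj (op ν)) :=
    fun i h => (S i).i₁ ≫ E.map (homOfLE h).op
  have hxd (ν : J) (i : ι) (h : ν ≤ i.1) : x ν i h ≫ e.app (op ν) = am i ≫ d ν i h := by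
    show ((S i).i₁ ≫ _) ≫ _ = _ ≫ (S i).i₂ ≫ _
    rw [Category.assoc, e.naturality, ← Category.assoc, (S i).commSq.w, Category.assoc]
  have hdmap (ν μ : J) (h : ν ≤ μ) (i : ι) (hi : μ ≤ i.1) :
      d μ i hi ≫ D.map (homOfLE h).op = d ν i (h.trans hi) := by
    show ((S i).i₂ ≫ _) ≫ _ = _
    rw [Category.assoc, ← D.map_comp]
    rfl
  have hxmap (ν μ : J) (h : ν ≤ μ) (i : ι) (hi : μ ≤ i.1) :
      x μ i hi ≫ E.map (homOfLE h).op = x ν i (h.trans hi) := by
    show ((S i).i₁ ≫ _) ≫ _ = _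
    rw [Category.assoc, ← E.map_comp]
    rfl
  -- the affine open of the base
  obtain ⟨α, hα, V, hV, hVcov⟩ := exists_finite_affine_cover (⊤ : (D.obj (op j₀)).Opens)
    (by simpa using isCompact_univ)
  obtain ⟨a, ha⟩ := eventually_exists F (p := fun a i => Ultra.LandsIn (d j₀ i i.2) (V a))
    (Filter.Eventually.of_forall fun i => (hVcov _ trivial).imp fun a h =>
      landsIn_of_closedPoint (R := (S i).R) _ h)
  let VD (ν : J) (h : j₀ ≤ ν) : (D.obj (op ν)).Opens := D.map (homOfLE h).op ⁻¹ᵁ V a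
  have hVD (ν : J) (h : j₀ ≤ ν) : IsAffineOpen (VD ν h) := (hV a).1.preimage _
  have hsD (ν : J) (h : j₀ ≤ ν) : Ultra.Supp F (d ν) (VD ν h) := by
    filter_upwards [ha, hF ν] with i hi hνi
    refine ⟨hνi, ?_⟩
    rintro _ ⟨w, rfl⟩
    show (d ν i hνi ≫ D.map (homOfLE h).op) w ∈ V a
    rw [hdmap]
    exact hi ⟨w, rfl⟩
  -- the charts upstairs
  obtain ⟨β, hβ, W, hW, hWcov⟩ := exists_finite_affine_cover (e.app (op j₀) ⁻¹ᵁ V a)
    ((e.app (op j₀)).isCompact_preimage (hV a).1.isCompact)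
  obtain ⟨k, hk⟩ := eventually_exists F (p := fun k i => Ultra.LandsIn (x j₀ i i.2) (W k)) (by
    filter_upwards [ha] with i hi
    have hmem : x j₀ i i.2 (closedPoint (S i).K) ∈ e.app (op j₀) ⁻¹ᵁ V a := by
      show (x j₀ i i.2 ≫ e.app (op j₀)) (closedPoint (S i).K) ∈ V a
      rw [hxd]
      exact hi ⟨_, rfl⟩
    exact (hWcov _ hmem).imp fun k h => landsIn_of_closedPoint (R := (S i).K) _ h)
  let WE (ν : J) (h : j₀ ≤ ν) : (E.obj (op ν)).Opens := E.map (homOfLE h).op ⁻¹ᵁ W k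
  have hWE (ν : J) (h : j₀ ≤ ν) : IsAffineOpen (WE ν h) := (hW k).1.preimage _
  have hsE (ν : J) (h : j₀ ≤ ν) : Ultra.Supp F (x ν) (WE ν h) := by
    filter_upwards [hk, hF ν] with i hi hνi
    refine ⟨hνi, ?_⟩
    rintro _ ⟨w, rfl⟩
    show (x ν i hνi ≫ E.map (homOfLE h).op) w ∈ W k
    rw [hxmap]
    exact hi ⟨w, rfl⟩
  have hWV (ν : J) (h : j₀ ≤ ν) : WE ν h ≤ e.app (op ν) ⁻¹ᵁ VD ν h := by
    intro y hy
    show (e.app (op ν) ≫ D.map (homOfLE h).op) y ∈ V a
    rw [← e.naturality]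
    exact (hW k).2 hy
  -- the valuation ring in the ultraproduct
  let O : ValuationSubring (Ultra.Prod F K) := Ultra.valuationSubring F K (W := R)
  let θO : Ultra.Prod F R →+* O :=
    (Ultra.map F fun i => algebraMap (R i) (K i)).codRestrict O fun z => ⟨z, rfl⟩
  let gen : Spec (CommRingCat.of (Ultra.Prod F K)) ⟶ Spec (CommRingCat.of O) :=
    Spec.map (CommRingCat.ofHom O.subtype)
  have hgen : gen ≫ Spec.map (CommRingCat.ofHom θO) =
      Spec.map (CommRingCat.ofHom (Ultra.map F fun i => algebraMap (R i) (K i))) := by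
    rw [← Spec.map_comp]
    rfl
  let dU (ν : J) (h : j₀ ≤ ν) : Spec (CommRingCat.of O) ⟶ D.obj (op ν) :=
    Spec.map (CommRingCat.ofHom θO) ≫ Ultra.mor (d ν) (hVD ν h) (hsD ν h)
  let xU (ν : J) (h : j₀ ≤ ν) : Spec (CommRingCat.of (Ultra.Prod F K)) ⟶ E.obj (op ν) :=
    Ultra.mor (x ν) (hWE ν h) (hsE ν h)
  obtain ⟨dl, hdl⟩ := exists_lift_of_eventual D cD hD j₀ dU fun ν μ hν h => by
    show (_ ≫ _) ≫ _ = _ ≫ _
    rw [Category.assoc, Ultra.mor_comp (d ν) (hVD ν hν) (hVD μ (hν.trans h)) _ (hsD ν hν)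
      (D.map (homOfLE h).op)]
    · intro y hy
      show (D.map (homOfLE h).op ≫ D.map (homOfLE hν).op) y ∈ V a
      rw [← D.map_comp]
      exact hy
    · exact Filter.Eventually.of_forall fun i hμi _ => hdmap ν μ h i hμi
  obtain ⟨xl, hxl⟩ := exists_lift_of_eventual E cE hE j₀ xU fun ν μ hν h => by
    refine Ultra.mor_comp (x ν) (hWE ν hν) (hWE μ (hν.trans h)) _ (hsE ν hν) _ ?_
      (Filter.Eventually.of_forall fun i hμi _ => hxmap ν μ h i hμi)
    intro y hy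
    show (E.map (homOfLE h).op ≫ E.map (homOfLE hν).op) y ∈ W k
    rw [← E.map_comp]
    exact hy
  have hsq : xl ≫ f = gen ≫ dl := by
    refine hom_ext_eventual D cD hD j₀ fun ν hν => ?_
    rw [Category.assoc, ← hw, ← Category.assoc, hxl ν hν, Category.assoc, hdl ν hν,
      ← Category.assoc, hgen]
    let y : ∀ i : ι, ν ≤ i.1 → (Spec (CommRingCat.of (K i)) ⟶ D.obj (op ν)) :=
      fun i h => x ν i h ≫ e.app (op ν)
    have hy : Ultra.Supp F y (VD ν hν) := by
      filter_upwards [hsE ν hν] with i ⟨h, h'⟩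
      refine ⟨h, ?_⟩
      rintro _ ⟨w, rfl⟩
      exact hWV ν hν (h' ⟨w, rfl⟩)
    rw [Ultra.map_mor (d ν) (hVD ν hν) _ hy (hsD ν hν)
      (Filter.Eventually.of_forall fun i h _ => (hxd ν i h).symm)]
    exact Ultra.mor_comp y (hVD ν hν) (hWE ν hν) (hsE ν hν) hy (e.app (op ν)) (hWV ν hν)
      (Filter.Eventually.of_forall fun i _ _ => rfl)
  -- the lift over the valuation ring
  obtain ⟨⟨l⟩⟩ := (UniversallyClosed.eq_valuativeCriterion ▸ ‹UniversallyClosed f› :
    (ValuativeCriterion.Existence ⊓ @QuasiCompact) f).1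
    { R := O, K := Ultra.Prod F K, i₁ := xl, i₂ := dl, commSq := ⟨hsq⟩ }
  let l₀ : Spec (CommRingCat.of O) ⟶ E.obj (op j₀) := l.l ≫ cE.π.app (op j₀)
  have hl₀ : gen ≫ l₀ = xU j₀ le_rfl := by
    rw [← hxl j₀ le_rfl]
    show gen ≫ l.l ≫ _ = _
    rw [← Category.assoc, show gen ≫ l.l = xl from l.fac_left]
  have hpre : (l₀ ≫ e.app (op j₀)) (closedPoint O) ∈ V a := by
    have h1 : l₀ ≫ e.app (op j₀) = dU j₀ le_rfl := by
      show (l.l ≫ _) ≫ _ = _
      rw [Category.assoc, hw, ← Category.assoc, show l.l ≫ f = dl from l.fac_right, hdl]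
    rw [h1]
    show Ultra.mor (d j₀) (hVD j₀ le_rfl) (hsD j₀ le_rfl)
      (Spec.map (CommRingCat.ofHom θO) (closedPoint O)) ∈ V a
    rw [Ultra.mor, Scheme.Hom.comp_apply]
    have key : ∀ w, (hVD j₀ le_rfl).fromSpec w ∈ V a := fun w => by
      simpa [VD] using (hVD j₀ le_rfl).range_fromSpec.le ⟨w, rfl⟩
    exact key _
  obtain ⟨k', hk'⟩ := hWcov _ hpre
  have hl₀W : Ultra.LandsIn l₀ (W k') := landsIn_of_closedPoint _ hk'
  let z : Spec (CommRingCat.of (Ultra.Prod F K)) := closedPoint (Ultra.Prod F K)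
  have hz : xU j₀ le_rfl z ∈ W k' := by
    rw [← hl₀]
    exact hl₀W ⟨gen z, rfl⟩
  obtain ⟨s, hsle, hss⟩ := Ultra.supp_of_mem z hz
  have hsupp : Ultra.Supp F (x j₀) (W k') := by
    filter_upwards [hss] with i ⟨h, h'⟩
    exact ⟨h, fun y hy => hsle (h' hy)⟩
  have hW' := (hW k').1
  have hmor : Ultra.mor (x j₀) hW' hsupp = gen ≫ l₀ := by
    rw [hl₀]
    exact (Ultra.mor_eq hW' hsupp z hz).symm
  have hland : Ultra.LandsIn (gen ≫ l₀) (W k') := by
    rintro _ ⟨w, rfl⟩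
    exact hl₀W ⟨gen w, rfl⟩
  have hint : Ultra.evOf hW' l₀ hl₀W ≫ CommRingCat.ofHom O.subtype =
      CommRingCat.ofHom (Ultra.evHom (x j₀) hW' hsupp) := by
    rw [← Ultra.evOf_unique hW' hland (e := Ultra.evOf hW' l₀ hl₀W ≫ CommRingCat.ofHom O.subtype)
      (by rw [Spec.map_comp, Category.assoc, Ultra.map_evOf])]
    exact Ultra.evOf_unique hW' hland hmor
  have hmem (t : Γ(E.obj (op j₀), W k')) : ∀ᶠ i in (F : Filter ι),
      ∃ w : R i, algebraMap (R i) (K i) w = Ultra.value (x j₀) hW' i t := by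
    refine Ultra.mem_valuationSubring F K ?_
    have := RingHom.congr_fun (congrArg CommRingCat.Hom.hom hint) t
    rw [← Ultra.evHom_apply (x j₀) hW' hsupp]
    exact this ▸ ((Ultra.evOf hW' l₀ hl₀W).hom t).2
  -- finitely many generators
  let g := (e.app (op j₀)).appLE (V a) (W k') (hW k').2
  have hg : g.hom.FiniteType := (e.app (op j₀)).finiteType_appLE (hV a).1 hW' _
  let _ := g.hom.toAlgebra
  obtain ⟨gens, hgens⟩ := hg.out
  obtain ⟨i, hi₁, hi₂, hi₃⟩ := (hsupp.and (ha.and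
    ((Finset.eventually_all gens).mpr fun t _ => hmem t))).exists
  obtain ⟨h0, hxi⟩ := hi₁
  let ev := Ultra.evOf hW' (x j₀ i h0) hxi
  let evd := Ultra.evOf (hV a).1 (d j₀ i i.2) hi₂
  have hcomp : g ≫ ev = evd ≫ CommRingCat.ofHom (algebraMap (R i) (K i)) := by
    have hl : Ultra.LandsIn (am i ≫ d j₀ i i.2) (V a) := by
      rintro _ ⟨w, rfl⟩
      exact hi₂ ⟨am i w, rfl⟩
    rw [← Ultra.evOf_unique (hV a).1 hl (e := g ≫ ev)
        (by rw [Spec.map_comp, Category.assoc, (hV a).1.SpecMap_appLE_fromSpec _ hW' (hW k').2,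
          ← Category.assoc, Ultra.map_evOf]; exact hxd j₀ i h0),
      Ultra.evOf_unique (hV a).1 hl]
    rw [Spec.map_comp, Category.assoc, Ultra.map_evOf]
  have hall (t : Γ(E.obj (op j₀), W k')) : ev.hom t ∈ (algebraMap (R i) (K i)).range := by
    have ht : t ∈ Algebra.adjoin Γ(D.obj (op j₀), V a) (gens : Set Γ(E.obj (op j₀), W k')) := by
      rw [hgens]
      trivial
    induction ht using Algebra.adjoin_induction with
    | mem t ht =>
      obtain ⟨w, hw'⟩ := hi₃ t ht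
      rw [Ultra.value_eq (x j₀) hW' h0 hxi] at hw'
      exact ⟨w, hw'⟩
    | algebraMap r =>
      exact ⟨evd.hom r, (RingHom.congr_fun (congrArg CommRingCat.Hom.hom hcomp) r).symm⟩
    | add p q _ _ hp hq =>
      rw [map_add]
      exact add_mem hp hq
    | mul p q _ _ hp hq =>
      rw [map_mul]
      exact mul_mem hp hq
  let eqv : R i ≃+* (algebraMap (R i) (K i)).range :=
    RingEquiv.ofBijective (algebraMap (R i) (K i)).rangeRestrict
      ⟨fun p q h => IsFractionRing.injective (R i) (K i) (congrArg Subtype.val h),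
        RingHom.rangeRestrict_surjective _⟩
  let θ : Γ(E.obj (op j₀), W k') →+* R i := eqv.symm.toRingHom.comp (ev.hom.codRestrict _ hall)
  have hθ : CommRingCat.ofHom θ ≫ CommRingCat.ofHom (algebraMap (R i) (K i)) = ev := by
    refine CommRingCat.hom_ext (RingHom.ext fun t => ?_)
    exact congrArg Subtype.val (eqv.apply_symm_apply (ev.hom.codRestrict _ hall t))
  let li : Spec (CommRingCat.of (R i)) ⟶ E.obj (op j₀) :=
    Spec.map (CommRingCat.ofHom θ) ≫ hW'.fromSpec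
  obtain ⟨m, hm₁, hm₂⟩ := hlift i.1 i.2 (R i) (K i) (S i).i₁ (S i).i₂ li (S i).commSq.w (by
      show x j₀ i i.2 = _
      rw [← Category.assoc, ← Spec.map_comp, hθ, Ultra.map_evOf]) (by
      show li ≫ _ = d j₀ i i.2
      have hgθ : g ≫ CommRingCat.ofHom θ = evd := by
        refine CommRingCat.hom_ext (RingHom.ext fun r => IsFractionRing.injective (R i) (K i) ?_)
        have := RingHom.congr_fun (congrArg CommRingCat.Hom.hom hcomp) r
        refine Eq.trans ?_ this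
        exact RingHom.congr_fun (congrArg CommRingCat.Hom.hom hθ) (g.hom r)
      rw [← Ultra.map_evOf (hV a).1 (d j₀ i i.2) hi₂]
      show _ = Spec.map evd ≫ _
      rw [← hgθ, Spec.map_comp, Category.assoc, Category.assoc,
        (hV a).1.SpecMap_appLE_fromSpec _ hW' (hW k').2])
  exact hS i ⟨⟨{ l := m, fac_left := hm₁, fac_right := hm₂ }⟩⟩

end Groth.Agent.LimLib
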