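import Mathlib.AlgebraicGeometry.AffineScheme
import Mathlib.AlgebraicGeometry.AffineSpace
import Mathlib.Order.Filter.Ultrafilter.Basic
import Mathlib.RingTheory.Valuation.ValuationSubring

/-!
# Ultraproducts of points of schemes

`Ultra.Prod F R` is the ultraproduct of a family of rings.  A family of morphisms `Spec (R i) ⟶ Z`,
defined for some indices and landing eventually in an affine open `U`, gives a morphism
`Ultra.mor` from `Spec` of the ultraproduct to `Z`.
-/

set_option backward.isDefEq.respectTransparency false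
set_option backward.defeqAttrib.useBackward true
set_option autoImplicit false

universe u

open CategoryTheory Limits AlgebraicGeometry TopologicalSpace

namespace Groth.Agent.LimLib.Ultra

variable {ι : Type u} (F : Ultrafilter ι)

section ring

variable (R : ι → Type u) [∀ i, CommRing (R i)]

/-- The ideal of eventually vanishing families. -/
def nullIdeal : Ideal (∀ i, R i) where
  carrier := {f | ∀ᶠ i in (F : Filter ι), f i = 0}
  add_mem' ha hb := by
    filter_upwards [ha, hb] with i h₁ h₂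
    simp [h₁, h₂]
  zero_mem' := Filter.Eventually.of_forall fun _ => rfl
  smul_mem' c a ha := by
    filter_upwards [ha] with i h
    simp [h]

lemma mem_nullIdeal {f : ∀ i, R i} : f ∈ nullIdeal F R ↔ ∀ᶠ i in (F : Filter ι), f i = 0 :=
  Iff.rfl

/-- The ultraproduct of a family of rings. -/
abbrev Prod : Type u := (∀ i, R i) ⧸ nullIdeal F R

lemma mk_eq_mk_iff {f g : ∀ i, R i} :
    (Ideal.Quotient.mk (nullIdeal F R) f) = Ideal.Quotient.mk (nullIdeal F R) g ↔
      ∀ᶠ i in (F : Filter ι), f i = g i := by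
  rw [Ideal.Quotient.eq, mem_nullIdeal]
  exact Filter.eventually_congr (Filter.Eventually.of_forall fun i => sub_eq_zero)

variable {R} {R' : ι → Type u} [∀ i, CommRing (R' i)]

/-- The map of ultraproducts induced by a family of ring maps. -/
def map (φ : ∀ i, R i →+* R' i) : Prod F R →+* Prod F R' :=
  Ideal.quotientMap _ (RingHom.pi fun i => (φ i).comp (Pi.evalRingHom R i)) fun f hf => by
    rw [Ideal.mem_comap, mem_nullIdeal]
    filter_upwards [hf] with i h
    simp [h]

@[simp]
lemma map_mk (φ : ∀ i, R i →+* R' i) (f : ∀ i, R i) :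
    map F φ (Ideal.Quotient.mk _ f) = Ideal.Quotient.mk _ fun i => φ i (f i) :=
  rfl

lemma map_injective {φ : ∀ i, R i →+* R' i} (h : ∀ i, Function.Injective (φ i)) :
    Function.Injective (map F φ) := by
  intro a b e
  obtain ⟨a, rfl⟩ := Ideal.Quotient.mk_surjective a
  obtain ⟨b, rfl⟩ := Ideal.Quotient.mk_surjective b
  rw [map_mk, map_mk, mk_eq_mk_iff] at e
  rw [mk_eq_mk_iff]
  filter_upwards [e] with i hi
  exact h i hi

end ring

section field

variable (K : ι → Type u) [∀ i, Field (K i)]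

instance isMaximal_nullIdeal : (nullIdeal F K).IsMaximal := by
  classical
  rw [Ideal.isMaximal_iff]
  refine ⟨fun h => ?_, fun J f hJ hf hfJ => ?_⟩
  · obtain ⟨i, hi⟩ := h.exists
    exact one_ne_zero hi
  · let e : ∀ i, K i := fun i => if f i = 0 then 1 else 0
    have h1 : (1 : ∀ i, K i) = (fun i => (f i)⁻¹) * f + e := by
      ext i
      by_cases h : f i = 0 <;> simp [e, h]
    rw [h1]
    refine J.add_mem (J.mul_mem_left _ hfJ) (hJ ?_)
    rw [mem_nullIdeal]
    have : ∀ᶠ i in (F : Filter ι), ¬ f i = 0 := Ultrafilter.eventually_not.mpr hf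
    filter_upwards [this] with i hi
    simp [e, hi]

noncomputable instance : Field (Prod F K) := Ideal.Quotient.field _

/-- The ultraproduct of valuation rings, as a valuation subring of the ultraproduct of fields. -/
def valuationSubring {W : ι → Type u} [∀ i, CommRing (W i)] [∀ i, IsDomain (W i)]
    [∀ i, ValuationRing (W i)] [∀ i, Algebra (W i) (K i)] [∀ i, IsFractionRing (W i) (K i)] :
    ValuationSubring (Prod F K) :=
  { (map F fun i => algebraMap (W i) (K i)).range with
    mem_or_inv_mem' := fun a => by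
      classical
      obtain ⟨a, rfl⟩ := Ideal.Quotient.mk_surjective a
      rcases Ultrafilter.em F (fun i => ∃ w : W i, algebraMap (W i) (K i) w = a i) with h | h
      · left
        refine ⟨Ideal.Quotient.mk _ fun i =>
          if h : ∃ w : W i, algebraMap (W i) (K i) w = a i then h.choose else 0, ?_⟩
        rw [map_mk, mk_eq_mk_iff]
        filter_upwards [h] with i hi
        rw [dif_pos hi]
        exact hi.choose_spec
      · right
        have h' : ∀ᶠ i in (F : Filter ι), ∃ w : W i, algebraMap (W i) (K i) w = (a i)⁻¹ := by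
          filter_upwards [h] with i hi
          exact (ValuationRing.isInteger_or_isInteger (W i) (a i)).resolve_left hi
        refine ⟨Ideal.Quotient.mk _ fun i =>
          if h : ∃ w : W i, algebraMap (W i) (K i) w = (a i)⁻¹ then h.choose else 0, ?_⟩
        rw [map_mk]
        refine eq_inv_of_mul_eq_one_left ?_
        rw [← map_mul, ← map_one (Ideal.Quotient.mk (nullIdeal F K)), mk_eq_mk_iff]
        filter_upwards [h, h'] with i hi hi'
        show algebraMap (W i) (K i) _ * a i = 1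
        rw [dif_pos hi', hi'.choose_spec]
        refine inv_mul_cancel₀ fun h0 => hi ⟨0, ?_⟩
        rw [map_zero, h0] }

lemma mem_valuationSubring {W : ι → Type u} [∀ i, CommRing (W i)] [∀ i, IsDomain (W i)]
    [∀ i, ValuationRing (W i)] [∀ i, Algebra (W i) (K i)] [∀ i, IsFractionRing (W i) (K i)]
    {a : ∀ i, K i} (h : Ideal.Quotient.mk _ a ∈ valuationSubring F K (W := W)) :
    ∀ᶠ i in (F : Filter ι), ∃ w : W i, algebraMap (W i) (K i) w = a i := by
  obtain ⟨w, hw⟩ := h
  obtain ⟨w, rfl⟩ := Ideal.Quotient.mk_surjective w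
  rw [map_mk, mk_eq_mk_iff] at hw
  filter_upwards [hw] with i hi
  exact ⟨w i, hi⟩

end field

section mor

variable {R : ι → Type u} [∀ i, CommRing (R i)] {P : ι → Prop} {Z : Scheme.{u}}
  (φ : ∀ i, P i → (Spec (CommRingCat.of (R i)) ⟶ Z))

/-- A point with values in `R` lands in `U`. -/
def LandsIn {S : Scheme.{u}} (ψ : S ⟶ Z) (U : Z.Opens) : Prop :=
  Set.range ψ ⊆ (U : Set Z)

/-- The family lands eventually in `U`. -/
def Supp (U : Z.Opens) : Prop :=
  ∀ᶠ i in (F : Filter ι), ∃ h : P i, LandsIn (φ i h) U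

variable {U : Z.Opens} (hU : IsAffineOpen U)

/-- The ring map attached to a point landing in an affine open. -/
noncomputable def evOf {A : CommRingCat.{u}} (ψ : Spec A ⟶ Z) (h : LandsIn ψ U) : Γ(Z, U) ⟶ A :=
  Spec.preimage (IsOpenImmersion.lift hU.fromSpec ψ (by rw [hU.range_fromSpec]; exact h))

lemma map_evOf {A : CommRingCat.{u}} (ψ : Spec A ⟶ Z) (h : LandsIn ψ U) :
    Spec.map (evOf hU ψ h) ≫ hU.fromSpec = ψ := by
  rw [evOf, Spec.map_preimage, IsOpenImmersion.lift_fac]

lemma evOf_unique {A : CommRingCat.{u}} {ψ : Spec A ⟶ Z} (h : LandsIn ψ U) {e : Γ(Z, U) ⟶ A}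
    (he : Spec.map e ≫ hU.fromSpec = ψ) : evOf hU ψ h = e := by
  apply Spec.map_injective
  rw [← cancel_mono hU.fromSpec, map_evOf, he]

/-- The value at `i` of a section. -/
noncomputable def value (i : ι) (a : Γ(Z, U)) : R i := by
  classical
  exact if h : ∃ h : P i, LandsIn (φ i h) U then (evOf hU (φ i h.1) h.2).hom a else 0

lemma value_eq {i : ι} (h : P i) (h' : LandsIn (φ i h) U) (a : Γ(Z, U)) :
    value φ hU i a = (evOf hU (φ i h) h').hom a := by
  rw [value, dif_pos ⟨h, h'⟩]

variable {F}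

/-- The ring map from sections to the ultraproduct. -/
noncomputable def evHom (hs : Supp F φ U) : Γ(Z, U) →+* Prod F R where
  toFun a := Ideal.Quotient.mk _ fun i => value φ hU i a
  map_one' := by
    rw [← map_one (Ideal.Quotient.mk (nullIdeal F R)), mk_eq_mk_iff]
    filter_upwards [hs] with i ⟨h, h'⟩
    rw [value_eq φ hU h h', map_one]
    rfl
  map_mul' a b := by
    rw [← map_mul (Ideal.Quotient.mk (nullIdeal F R)), mk_eq_mk_iff]
    filter_upwards [hs] with i ⟨h, h'⟩
    simp [value_eq φ hU h h']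
  map_zero' := by
    rw [← map_zero (Ideal.Quotient.mk (nullIdeal F R)), mk_eq_mk_iff]
    filter_upwards [hs] with i ⟨h, h'⟩
    simp [value_eq φ hU h h']
  map_add' a b := by
    rw [← map_add (Ideal.Quotient.mk (nullIdeal F R)), mk_eq_mk_iff]
    filter_upwards [hs] with i ⟨h, h'⟩
    simp [value_eq φ hU h h']

lemma evHom_apply (hs : Supp F φ U) (a : Γ(Z, U)) :
    evHom φ hU hs a = Ideal.Quotient.mk _ fun i => value φ hU i a :=
  rfl

/-- The ultraproduct of a family of points. -/
noncomputable def mor (hs : Supp F φ U) : Spec (CommRingCat.of (Prod F R)) ⟶ Z :=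
  Spec.map (CommRingCat.ofHom (evHom φ hU hs)) ≫ hU.fromSpec

/-- Naturality in the scheme. -/
lemma mor_comp {Z' : Scheme.{u}} {P' : ι → Prop}
    {φ' : ∀ i, P' i → (Spec (CommRingCat.of (R i)) ⟶ Z')} {U' : Z'.Opens} (hU' : IsAffineOpen U')
    (hs' : Supp F φ' U') (hs : Supp F φ U) (g : Z' ⟶ Z) (hle : U' ≤ g ⁻¹ᵁ U)
    (hg : ∀ᶠ i in (F : Filter ι), ∀ (h' : P' i) (h : P i), φ' i h' ≫ g = φ i h) :
    mor φ' hU' hs' ≫ g = mor φ hU hs := by
  rw [mor, mor, Category.assoc, ← hU.SpecMap_appLE_fromSpec g hU' hle, ← Category.assoc,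
    ← Spec.map_comp]
  congr 2
  apply CommRingCat.hom_ext
  refine RingHom.ext fun a => ?_
  show evHom φ' hU' hs' ((g.appLE U U' hle).hom a) = evHom φ hU hs a
  rw [evHom_apply, evHom_apply, mk_eq_mk_iff]
  filter_upwards [hs, hs', hg] with i ⟨h, h₁⟩ ⟨h', h₁'⟩ hgi
  rw [value_eq φ hU h h₁, value_eq φ' hU' h' h₁']
  have : evOf hU (φ i h) h₁ = g.appLE U U' hle ≫ evOf hU' (φ' i h') h₁' := by
    refine evOf_unique hU h₁ ?_
    rw [Spec.map_comp, Category.assoc, hU.SpecMap_appLE_fromSpec g hU' hle, ← Category.assoc,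
      map_evOf, hgi]
  rw [this]
  rfl

/-- Naturality in the rings. -/
lemma map_mor {R' : ι → Type u} [∀ i, CommRing (R' i)] (e : ∀ i, R i →+* R' i) {P' : ι → Prop}
    {φ' : ∀ i, P' i → (Spec (CommRingCat.of (R' i)) ⟶ Z)} (hs' : Supp F φ' U) (hs : Supp F φ U)
    (he : ∀ᶠ i in (F : Filter ι), ∀ (h' : P' i) (h : P i),
      Spec.map (CommRingCat.ofHom (e i)) ≫ φ i h = φ' i h') :
    Spec.map (CommRingCat.ofHom (map F e)) ≫ mor φ hU hs = mor φ' hU hs' := by
  rw [mor, mor, ← Category.assoc, ← Spec.map_comp]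
  congr 2
  apply CommRingCat.hom_ext
  refine RingHom.ext fun a => ?_
  show map F e (evHom φ hU hs a) = evHom φ' hU hs' a
  rw [evHom_apply, evHom_apply, map_mk, mk_eq_mk_iff]
  filter_upwards [hs, hs', he] with i ⟨h, h₁⟩ ⟨h', h₁'⟩ hei
  rw [value_eq φ hU h h₁, value_eq φ' hU h' h₁']
  have : evOf hU (φ' i h') h₁' = evOf hU (φ i h) h₁ ≫ CommRingCat.ofHom (e i) := by
    refine evOf_unique hU h₁' ?_
    rw [Spec.map_comp, Category.assoc, map_evOf, hei]
  rw [this]
  rfl

end mor

section fieldMor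

variable {K : ι → Type u} [∀ i, Field (K i)] {P : ι → Prop} {Z : Scheme.{u}}
  {φ : ∀ i, P i → (Spec (CommRingCat.of (K i)) ⟶ Z)} {U : Z.Opens} {hU : IsAffineOpen U}
  {F} {hs : Supp F φ U}

lemma mem_range_mor : Set.range (mor φ hU hs) ⊆ (U : Set Z) := by
  rw [← hU.range_fromSpec, mor, Scheme.Hom.comp_base, TopCat.coe_comp]
  exact Set.range_comp_subset_range _ _

/-- If the ultraproduct point lies in an open, so does the family eventually. -/
lemma supp_of_mem {O : Z.Opens} (z : Spec (CommRingCat.of (Prod F K))) (hz : mor φ hU hs z ∈ O) :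
    ∃ s : Γ(Z, U), Z.basicOpen s ≤ O ∧ Supp F φ (Z.basicOpen s) := by
  obtain ⟨s, hsO, hzs⟩ := hU.exists_basicOpen_le (V := O) ⟨_, hz⟩ (mem_range_mor ⟨z, rfl⟩)
  refine ⟨s, hsO, ?_⟩
  have h0 : evHom φ hU hs s ≠ 0 := by
    have h1 : Spec.map (CommRingCat.ofHom (evHom φ hU hs)) z ∈
        hU.fromSpec ⁻¹ᵁ Z.basicOpen s := hzs
    rw [hU.fromSpec_preimage_basicOpen] at h1
    intro h
    refine h1 ?_
    show evHom φ hU hs s ∈ z.asIdeal
    rw [h]
    exact zero_mem _
  rw [evHom_apply, ← map_zero (Ideal.Quotient.mk (nullIdeal F K)), Ne, mk_eq_mk_iff,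
    ← Ultrafilter.eventually_not] at h0
  filter_upwards [h0, hs] with i hi ⟨h, h₁⟩
  refine ⟨h, ?_⟩
  rintro _ ⟨w, rfl⟩
  rw [← map_evOf hU (φ i h) h₁, Scheme.Hom.comp_apply]
  show _ ∈ hU.fromSpec ⁻¹ᵁ Z.basicOpen s
  rw [hU.fromSpec_preimage_basicOpen]
  show ¬ (evOf hU (φ i h) h₁).hom s ∈ w.asIdeal
  intro hw
  refine hi ?_
  rw [value_eq φ hU h h₁]
  by_contra hne
  exact w.2.ne_top (Ideal.eq_top_of_isUnit_mem _ hw (Ne.isUnit hne))

/-- The ultraproduct point does not depend on the affine open. -/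
lemma mor_eq {V : Z.Opens} (hV : IsAffineOpen V) (hsV : Supp F φ V)
    (z : Spec (CommRingCat.of (Prod F K))) (hz : mor φ hU hs z ∈ V) :
    mor φ hU hs = mor φ hV hsV := by
  obtain ⟨s, hsV', hsupp⟩ := supp_of_mem z hz
  have hD : IsAffineOpen (Z.basicOpen s) := hU.basicOpen s
  have key : ∀ {W : Z.Opens} (hW : IsAffineOpen W) (hsW : Supp F φ W), Z.basicOpen s ≤ W →
      mor φ hD hsupp = mor φ hW hsW := fun hW hsW hle => by
    have := mor_comp φ hW hD hsupp hsW (𝟙 Z) hle
      (Filter.Eventually.of_forall fun i h' h => Category.comp_id _)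
    rwa [Category.comp_id] at this
  rw [← key hU hs (Z.basicOpen_le s), key hV hsV hsV']

end fieldMor

end Groth.Agent.LimLib.Ultra
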