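import Groth.Agent.LimLib.ApproxStep

/-!
# Noetherian approximation: the glued system
-/

set_option backward.isDefEq.respectTransparency false
set_option backward.defeqAttrib.useBackward true
set_option maxHeartbeats 800000

universe u

open CategoryTheory Limits AlgebraicGeometry TopologicalSpace Opposite

namespace Groth.Agent.LimLib.StepData

lemma app_eq_of_appLE_eq {X Y : Scheme.{u}} (f : X ⟶ Y) {U : Y.Opens} {W : X.Opens}
    (e : f ⁻¹ᵁ U = W) {a b : Γ(Y, U)} (h : f.appLE U W e.ge a = f.appLE U W e.ge b) :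
    f.app U a = f.app U b := by
  subst e
  rw [Scheme.Hom.app_eq_appLE]
  exact h

lemma appLE_eq_of_app_eq {X Y : Scheme.{u}} (f : X ⟶ Y) {U : Y.Opens} {W : X.Opens}
    (e : W ≤ f ⁻¹ᵁ U) {a b : Γ(Y, U)} (h : f.app U a = f.app U b) :
    f.appLE U W e a = f.appLE U W e b := by
  simp only [Scheme.Hom.appLE, CommRingCat.comp_apply, h]

variable {V S : Scheme.{u}} {P : FTSystem V} {ι : V ⟶ S} {U : S.Opens} (d : StepData P ι U)
  [IsOpenImmersion ι] [CompactSpace V] [hU : Fact (IsAffineOpen U)]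

instance (s : d.Stage) : IsOpenImmersion (d.ψ s) := (d.ψ_spec hU.out s).1

instance : IsDirectedOrder d.Stage := d.directed hU.out

instance : Nonempty d.Stage := d.nonempty_stage hU.out

omit hU in
/-- The transition maps of the intersections. -/
noncomputable def trW {s t : d.Stage} (h : s ⟶ t) :
    (d.W t.1 : Scheme.{u}) ⟶ (d.W s.1 : Scheme.{u}) :=
  (d.tr h.le.fst).resLE (d.W s.1) (d.W t.1) (d.map_preimage_W h.le.fst).ge

omit hU in
lemma trW_ι {s t : d.Stage} (h : s ⟶ t) :
    d.trW h ≫ (d.W s.1).ι = (d.W t.1).ι ≫ d.tr h.le.fst := Scheme.Hom.resLE_comp_ι _ _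

omit hU in
lemma trW_ψ {s t : d.Stage} (h : s ⟶ t) :
    d.trW h ≫ d.ψ s = d.ψ t ≫ Spec.map (d.rings.map h) := by
  simp only [ψ, trW, Category.assoc, ← Spec.map_comp, d.snd_naturality]
  rw [Spec.map_comp, ← Category.assoc, ← Category.assoc, ρ, Scheme.Opens.toSpecΓ_SpecMap_appLE]

omit hU [IsOpenImmersion ι] [CompactSpace V] in
lemma tr_comp {i j k : d.Idx} (h : i ≤ j) (h' : j ≤ k) :
    d.tr (h.trans h') = d.tr h' ≫ d.tr h := by
  show P.D.map _ = P.D.map _ ≫ P.D.map _
  rw [← P.D.map_comp]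
  rfl

/-- The glued scheme at a stage. -/
noncomputable abbrev glued (s : d.Stage) : Scheme.{u} := pushout (d.W s.1).ι (d.ψ s)

/-- The transition maps of the glued schemes. -/
noncomputable def gluedMap {s t : d.Stage} (h : s ⟶ t) : d.glued t ⟶ d.glued s :=
  pushout.desc (d.tr h.le.fst ≫ pushout.inl _ _) (Spec.map (d.rings.map h) ≫ pushout.inr _ _) (by
    rw [← Category.assoc, ← d.trW_ι, Category.assoc, pushout.condition, ← Category.assoc,
      d.trW_ψ, Category.assoc])

@[reassoc]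
lemma inl_gluedMap {s t : d.Stage} (h : s ⟶ t) :
    pushout.inl _ _ ≫ d.gluedMap h = d.tr h.le.fst ≫ pushout.inl _ _ := pushout.inl_desc ..

@[reassoc]
lemma inr_gluedMap {s t : d.Stage} (h : s ⟶ t) :
    pushout.inr _ _ ≫ d.gluedMap h = Spec.map (d.rings.map h) ≫ pushout.inr _ _ :=
  pushout.inr_desc ..

lemma gluedMap_id (s : d.Stage) : d.gluedMap (𝟙 s) = 𝟙 _ := by
  apply pushout.hom_ext
  · rw [inl_gluedMap, show d.tr (le_refl s.1) = 𝟙 _ from P.D.map_id _]; simp
  · rw [inr_gluedMap, d.rings.map_id]; simp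

lemma gluedMap_comp {s t r : d.Stage} (f : s ⟶ t) (g : t ⟶ r) :
    d.gluedMap (f ≫ g) = d.gluedMap g ≫ d.gluedMap f := by
  apply pushout.hom_ext
  · rw [inl_gluedMap, inl_gluedMap_assoc, inl_gluedMap, ← Category.assoc,
      d.tr_comp f.le.fst g.le.fst]
  · rw [inr_gluedMap, inr_gluedMap_assoc, inr_gluedMap, d.rings.map_comp, Spec.map_comp,
      Category.assoc]

/-- The glued system. -/
noncomputable def diagram : d.Stageᵒᵖ ⥤ Scheme.{u} where
  obj s := d.glued s.unop
  map h := d.gluedMap h.unop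
  map_id s := d.gluedMap_id s.unop
  map_comp f g := d.gluedMap_comp g.unop f.unop

omit hU in
lemma mem_basicOpen_pairMem_iff (s : d.Stage) (m : Fin d.n) {R : CommRingCat.{u}}
    (φ : d.rings.obj s ⟶ R) (x : Spec R) :
    Spec.map φ x ∈ bOpen (d.pairMem s m) ↔ x ∈ bOpen (φ (d.pairMem s m)) := Iff.rfl

lemma gluedMap_preimage {s t : d.Stage} (h : s ⟶ t) :
    d.gluedMap h ⁻¹ᵁ (pushout.inl (d.W s.1).ι (d.ψ s)).opensRange =
        (pushout.inl (d.W t.1).ι (d.ψ t)).opensRange ∧
      d.gluedMap h ⁻¹ᵁ (pushout.inr (d.W s.1).ι (d.ψ s)).opensRange =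
        (pushout.inr (d.W t.1).ι (d.ψ t)).opensRange := by
  refine preimage_opensRange_of_glue (pushout_opensRange_sup _ _) _ _ _ (d.inl_gluedMap h)
    (d.inr_gluedMap h) (fun x hx => ?_) fun x hx => ?_
  · rw [inl_mem_range_inr_iff, Scheme.Opens.range_ι]
    rw [Scheme.Opens.range_ι] at hx
    exact (d.map_preimage_W h.le.fst).le hx
  · rw [inr_mem_range_inl_iff, (d.ψ_spec hU.out t).2]
    rw [(d.ψ_spec hU.out s).2] at hx
    obtain ⟨m, hm⟩ := Set.mem_iUnion.mp hx
    refine Set.mem_iUnion.mpr ⟨m, ?_⟩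
    have : d.rings.map h (d.pairMem s m) = d.pairMem t m :=
      Subtype.ext (d.mapFp_pair h.le.fst m)
    rw [← this]
    exact hm

/-- The intersection on the limit. -/
noncomputable def toSpecA : ((ι ⁻¹ᵁ U : V.Opens) : Scheme.{u}) ⟶ Spec Γ(S, U) :=
  (ι ⁻¹ᵁ U).toSpecΓ ≫ Spec.map (ι.app U)

omit hU [IsOpenImmersion ι] [CompactSpace V] in
lemma toSpecA_fromSpec (h : IsAffineOpen U) :
    toSpecA ≫ h.fromSpec = (ι ⁻¹ᵁ U).ι ≫ ι := by
  rw [toSpecA, Scheme.Opens.toSpecΓ_naturality, Category.assoc, h.toSpecΓ_fromSpec,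
    morphismRestrict_ι]

omit [CompactSpace V] in
lemma isPullback_toSpecA :
    IsPullback (ι ⁻¹ᵁ U).ι (toSpecA (ι := ι) (U := U)) ι hU.out.fromSpec := by
  refine (IsOpenImmersion.isPullback _ _ _ _ (toSpecA_fromSpec hU.out).symm ?_).flip
  simp [hU.out.opensRange_fromSpec]

lemma cover_fromSpec (hcov : ι.opensRange ⊔ U = ⊤) :
    ι.opensRange ⊔ hU.out.fromSpec.opensRange = ⊤ := by
  rwa [hU.out.opensRange_fromSpec]

lemma exists_π (hcov : ι.opensRange ⊔ U = ⊤) (s : d.Stage) :
    ∃ g : S ⟶ d.glued s, ι ≫ g = P.π.app (op s.1.1) ≫ pushout.inl _ _ ∧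
      hU.out.fromSpec ≫ g = Spec.map (d.fst s) ≫ pushout.inr _ _ := by
  refine exists_glueTwo (cover_fromSpec hcov) isPullback_toSpecA _ _ ?_
  have h1 : (ι ⁻¹ᵁ U).ι ≫ P.π.app (op s.1.1) =
      (P.π.app (op s.1.1)).resLE (d.W s.1) (ι ⁻¹ᵁ U) (d.π_preimage_W s.1).ge ≫ (d.W s.1).ι :=
    (Scheme.Hom.resLE_comp_ι _ _).symm
  rw [← Category.assoc, h1, Category.assoc, pushout.condition]
  simp only [ψ, toSpecA, ← Category.assoc]
  congr 1
  rw [← Scheme.Opens.toSpecΓ_SpecMap_appLE, Category.assoc, Category.assoc, ← Spec.map_comp,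
    ← Spec.map_comp]
  congr 2
  ext b
  exact (d.mem_fp.mp (s.2.2.le b.2)).symm

variable (hcov : ι.opensRange ⊔ U = ⊤)

/-- The projections from `S`. -/
noncomputable def proj : (Functor.const d.Stageᵒᵖ).obj S ⟶ d.diagram where
  app s := (d.exists_π hcov s.unop).choose
  naturality s t h := by
    obtain ⟨h₁, h₂⟩ := (d.exists_π hcov s.unop).choose_spec
    obtain ⟨k₁, k₂⟩ := (d.exists_π hcov t.unop).choose_spec
    simp only [Functor.const_obj_obj, Functor.const_obj_map, Category.id_comp]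
    refine hom_ext_two (cover_fromSpec hcov) ?_ ?_
    · rw [k₁, reassoc_of% h₁]
      show _ = P.π.app _ ≫ pushout.inl _ _ ≫ d.gluedMap h.unop
      rw [inl_gluedMap, ← Category.assoc]
      congr 1
      simpa using P.π.naturality (homOfLE h.unop.le.fst : t.unop.1.1 ⟶ s.unop.1.1).op
    · rw [k₂, reassoc_of% h₂]
      show _ = Spec.map (d.fst _) ≫ pushout.inr _ _ ≫ d.gluedMap h.unop
      rw [inr_gluedMap, ← Category.assoc, ← Spec.map_comp]
      rfl

lemma ι_proj (s : d.Stage) :
    ι ≫ (d.proj hcov).app (op s) = P.π.app (op s.1.1) ≫ pushout.inl _ _ :=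
  (d.exists_π hcov s).choose_spec.1

lemma fromSpec_proj (s : d.Stage) :
    hU.out.fromSpec ≫ (d.proj hcov).app (op s) = Spec.map (d.fst s) ≫ pushout.inr _ _ :=
  (d.exists_π hcov s).choose_spec.2

lemma proj_preimage (s : d.Stage) :
    (d.proj hcov).app (op s) ⁻¹ᵁ (pushout.inl (d.W s.1).ι (d.ψ s)).opensRange = ι.opensRange ∧
      (d.proj hcov).app (op s) ⁻¹ᵁ (pushout.inr (d.W s.1).ι (d.ψ s)).opensRange =
        hU.out.fromSpec.opensRange := by
  refine preimage_opensRange_of_glue (cover_fromSpec hcov) _ _ _ (d.ι_proj hcov s)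
    (d.fromSpec_proj hcov s) (fun x hx => ?_) fun x hx => ?_
  · rw [Scheme.Opens.range_ι] at hx
    rw [hU.out.range_fromSpec]
    exact (d.π_preimage_W s.1).le hx
  · rw [(d.ψ_spec hU.out s).2] at hx
    obtain ⟨m, hm⟩ := Set.mem_iUnion.mp hx
    have : hU.out.fromSpec x ∈ S.basicOpen (d.g m) := by
      show x ∈ hU.out.fromSpec ⁻¹ᵁ S.basicOpen (d.g m)
      rw [hU.out.fromSpec_preimage_basicOpen]
      exact hm
    exact d.hgS m _ this

/-- The reindexing functor. -/
noncomputable abbrev idxFun : d.Stageᵒᵖ ⥤ P.Jᵒᵖ := d.idx.monotone.functor.op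

instance : d.idxFun.Initial :=
  Functor.initial_of_exists_of_isCofiltered _ (fun j => by
    obtain ⟨i, hi, hi'⟩ := exists_ge_ge d.i₀ j.unop
    obtain ⟨B, hB, -⟩ := d.exists_stage_ge hU.out ⟨i, hi⟩ [] ∅ (by simp)
    exact ⟨op ⟨⟨i, hi⟩, B, hB⟩, ⟨(homOfLE hi').op⟩⟩)
    fun {_ c} _ _ => ⟨c, 𝟙 _, Subsingleton.elim _ _⟩

/-- `Γ(S, U)` as a cocone under the rings of the affine pieces. -/
noncomputable def ringCocone : Cocone d.rings where
  pt := Γ(S, U)
  ι :=
    { app := fun s => d.fst s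
      naturality := fun _ _ _ => rfl }

lemma nonempty_isColimit_ringCocone : Nonempty (IsColimit d.ringCocone) := by
  classical
  have : ReflectsColimit d.rings (forget CommRingCat.{u}) :=
    reflectsColimit_of_reflectsIsomorphisms _ _
  refine ⟨isColimitOfReflects (forget CommRingCat.{u}) (Types.FilteredColimit.isColimitOf _ _
    (fun a => ?_) fun s t x y h => ?_)⟩
  · have hc := P.isLimit.some
    have : CompactSpace ↥(P.D.obj (op d.i₀)) := inferInstance
    have hW₀ : IsCompact (d.W₀ : Set (P.D.obj (op d.i₀))) := by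
      rw [← d.hcov, Opens.coe_iSup]
      exact isCompact_iUnion fun m => (d.haff m).isCompact
    obtain ⟨j, f, hle, t, ht⟩ := exists_appLE_eq hc hW₀ d.hW (ι.app U a)
    let i : d.Idx := ⟨j.unop, f.unop.le⟩
    have hmem : (a, (show Γ(P.D.obj (op i.1), d.W i) from t)) ∈ d.fp i := ht.symm
    obtain ⟨B, hB, -, hF⟩ := d.exists_stage_ge hU.out i [] {(a, t)} (fun x hx => by
      rw [Finset.mem_singleton] at hx; exact hx ▸ hmem)
    exact ⟨⟨i, B, hB⟩, ⟨_, hF _ (Finset.mem_singleton_self _)⟩, rfl⟩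
  · obtain ⟨⟨a, x⟩, hx⟩ := x
    obtain ⟨⟨b, y⟩, hy⟩ := y
    change a = b at h
    subst h
    obtain ⟨k, hsk, htk⟩ := exists_ge_ge s t
    have e : d.σ k.1 (d.ρ hsk.fst x) = d.σ k.1 (d.ρ htk.fst y) := by
      rw [← CommRingCat.comp_apply, ← CommRingCat.comp_apply, d.ρ_σ, d.ρ_σ, ← d.mem_fp.mp (s.2.2.le hx),
        ← d.mem_fp.mp (t.2.2.le hy)]
    have e' : (P.π.app (op k.1.1)).app (d.W k.1) (d.ρ hsk.fst x) =
        (P.π.app (op k.1.1)).app (d.W k.1) (d.ρ htk.fst y) := by
      exact app_eq_of_appLE_eq _ (d.π_preimage_W k.1) e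
    obtain ⟨j, f, hj⟩ := exists_app_map_eq_map_of_isLimit P.D (Cone.mk V P.π) P.isLimit.some
      (d.isCompact_W k.1) _ _ e'
    have hkj : k.1.1 ≤ j.unop := f.unop.le
    let i : d.Idx := ⟨j.unop, k.1.2.trans hkj⟩
    obtain ⟨B, hB, hr, -⟩ := d.exists_stage_ge hU.out i [⟨k, hkj⟩] ∅ (by simp)
    let k' : d.Stage := ⟨i, B, hB⟩
    have hkk' : k ≤ k' := hr ⟨k, hkj⟩ List.mem_cons_self
    refine ⟨k', homOfLE (hsk.trans hkk'), homOfLE (htk.trans hkk'), Subtype.ext (Prod.ext rfl ?_)⟩
    show d.ρ (hsk.fst.trans hkk'.fst) x = d.ρ (htk.fst.trans hkk'.fst) y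
    rw [← d.ρ_trans hsk.fst hkk'.fst, ← d.ρ_trans htk.fst hkk'.fst, CommRingCat.comp_apply,
      CommRingCat.comp_apply]
    exact appLE_eq_of_app_eq _ (d.map_preimage_W (i := k.1) (j := i) hkj).ge hj

/-- The open subsystems. -/
noncomputable def sub : Bool → d.Stageᵒᵖ ⥤ Scheme.{u}
  | true => d.idxFun ⋙ P.D
  | false => d.rings.op ⋙ Scheme.Spec

/-- The inclusions of the open subsystems. -/
noncomputable def subι : ∀ a, d.sub a ⟶ d.diagram
  | true =>
    { app := fun s => pushout.inl (d.W s.unop.1).ι (d.ψ s.unop)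
      naturality := fun s t h => (d.inl_gluedMap h.unop).symm }
  | false =>
    { app := fun s => pushout.inr (d.W s.unop.1).ι (d.ψ s.unop)
      naturality := fun s t h => (d.inr_gluedMap h.unop).symm }

/-- The cones on the open subsystems. -/
noncomputable def subCone : ∀ a, Cone (d.sub a)
  | true => (Cone.mk V P.π).whisker d.idxFun
  | false => Scheme.Spec.mapCone d.ringCocone.op

lemma nonempty_isLimit_proj : Nonempty (IsLimit (Cone.mk S (d.proj hcov))) := by
  let m : ∀ a, (d.subCone a).pt ⟶ S := fun a => match a with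
    | true => ι
    | false => hU.out.fromSpec
  have hoi (a : Bool) (j : d.Stageᵒᵖ) : IsOpenImmersion ((d.subι a).app j) := by
    cases a
    · exact isOpenImmersion_pushoutInr _ _
    · exact isOpenImmersion_pushoutInl _ _
  have hmi (a : Bool) : IsOpenImmersion (m a) := by
    cases a
    · exact inferInstanceAs (IsOpenImmersion hU.out.fromSpec)
    · exact ‹IsOpenImmersion ι›
  let hl : ∀ a, IsLimit (d.subCone a) := fun a => match a with
    | true => (Functor.Initial.isLimitWhiskerEquiv d.idxFun (Cone.mk V P.π)).symm P.isLimit.some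
    | false => isLimitOfPreserves Scheme.Spec d.nonempty_isColimit_ringCocone.some.op
  obtain ⟨s₀⟩ := d.nonempty_stage hU.out
  refine nonempty_isLimit_of_subsystems (D := d.diagram) (Cone.mk S (d.proj hcov)) d.sub d.subι
    (fun a {j k} φ => ?_) d.subCone hl m (fun a j => ?_) (fun a j => ?_) (op s₀) ?_
  · cases a
    · exact (d.gluedMap_preimage φ.unop).2
    · exact (d.gluedMap_preimage φ.unop).1
  · cases a
    · exact d.fromSpec_proj hcov j.unop
    · exact d.ι_proj hcov j.unop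
  · cases a
    · exact (d.proj_preimage hcov j.unop).2
    · exact (d.proj_preimage hcov j.unop).1
  · exact top_le_iff.mp ((pushout_opensRange_sup _ _).ge.trans
      (sup_le (le_iSup_of_le true le_rfl) (le_iSup_of_le false le_rfl)))

instance (s : d.Stage) : LocallyOfFiniteType (specULiftZIsTerminal.from (Spec (d.rings.obj s))) := by
  classical
  rw [show specULiftZIsTerminal.from (Spec (d.rings.obj s)) =
    Spec.map (CommRingCat.ofHom ((Int.castRingHom (d.rings.obj s)).comp ULift.ringEquiv.toRingHom))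
    from specULiftZIsTerminal.hom_ext _ _, HasRingHomProperty.Spec_iff (P := @LocallyOfFiniteType)]
  obtain ⟨F, hF⟩ := s.2.2.fg
  refine RingHom.FiniteType.of_comp_finiteType (f := ULift.ringEquiv.symm.toRingHom) ?_
  rw [RingHom.ext_int (RingHom.comp _ _) (algebraMap ℤ (d.rings.obj s)),
    RingHom.finiteType_algebraMap]
  refine ⟨⟨F.preimage Subtype.val Subtype.val_injective.injOn, top_le_iff.mp fun x _ => ?_⟩⟩
  rename_i htop
  clear htop
  obtain ⟨x, hx⟩ := x
  have hx' : x ∈ Subring.closure (SetLike.coe F) := hF.ge hx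
  suffices ∀ (h : x ∈ s.2.1), (⟨x, h⟩ : s.2.1) ∈
      Algebra.adjoin ℤ (Subtype.val ⁻¹' (SetLike.coe F) : Set s.2.1) by
    rw [Finset.coe_preimage]; exact this hx
  clear hx
  induction hx' using Subring.closure_induction with
  | mem z hz => exact fun h => Algebra.subset_adjoin hz
  | zero => exact fun h => zero_mem _
  | one => exact fun h => one_mem _
  | add y z hy hz ihy ihz =>
    exact fun h => add_mem (ihy (hF.le hy)) (ihz (hF.le hz))
  | neg y hy ihy => exact fun h => neg_mem (ihy (hF.le hy))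
  | mul y z hy hz ihy ihz =>
    exact fun h => mul_mem (ihy (hF.le hy)) (ihz (hF.le hz))

/-- The extended system. -/
noncomputable def system : FTSystem S where
  J := d.Stage
  D := d.diagram
  π := d.proj hcov
  isLimit := d.nonempty_isLimit_proj hcov
  isAffineHom {s t} h := by
    show IsAffineHom (d.gluedMap h.unop)
    refine IsZariskiLocalAtTarget.of_openCover (P := @IsAffineHom)
      (twoCover _ _ (pushout_opensRange_sup (d.W t.unop.1).ι (d.ψ t.unop))) fun a => ?_
    cases a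
    · have hp : IsPullback (pushout.inr _ _) (Spec.map (d.rings.map h.unop)) (d.gluedMap h.unop)
          (pushout.inr (d.W t.unop.1).ι (d.ψ t.unop)) :=
        (IsOpenImmersion.isPullback _ _ _ _ (d.inr_gluedMap h.unop)
          (d.gluedMap_preimage h.unop).2).flip
      show IsAffineHom (pullback.snd (d.gluedMap h.unop) (pushout.inr (d.W t.unop.1).ι (d.ψ t.unop)))
      rw [← hp.isoPullback_inv_snd]
      infer_instance
    · have hp : IsPullback (pushout.inl _ _) (d.tr h.unop.le.fst) (d.gluedMap h.unop)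
          (pushout.inl (d.W t.unop.1).ι (d.ψ t.unop)) :=
        (IsOpenImmersion.isPullback _ _ _ _ (d.inl_gluedMap h.unop)
          (d.gluedMap_preimage h.unop).1).flip
      show IsAffineHom (pullback.snd (d.gluedMap h.unop) (pushout.inl (d.W t.unop.1).ι (d.ψ t.unop)))
      rw [← hp.isoPullback_inv_snd]
      infer_instance
  compactSpace s := compactSpace_pushout _ _
  lft s := by
    show LocallyOfFiniteType (specULiftZIsTerminal.from (d.glued s.unop))
    refine IsZariskiLocalAtSource.of_openCover (P := @LocallyOfFiniteType)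
      (twoCover _ _ (pushout_opensRange_sup (d.W s.unop.1).ι (d.ψ s.unop))) fun a => ?_
    rw [specULiftZIsTerminal.comp_from]
    cases a
    · exact inferInstanceAs (LocallyOfFiniteType (specULiftZIsTerminal.from (Spec _)))
    · exact P.lft _

/-- The extension. -/
noncomputable def extension : P.Extension ι where
  sys := d.system hcov
  α := d.idx
  emb s := pushout.inl (d.W s.1).ι (d.ψ s)
  isOpenImmersion s := isOpenImmersion_pushoutInl _ _
  sq {s t} h := (IsOpenImmersion.isPullback _ _ _ _ (d.inl_gluedMap (homOfLE h))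
    (d.gluedMap_preimage (homOfLE h)).1).flip
  sqπ s := (IsOpenImmersion.isPullback _ _ _ _ (d.ι_proj hcov s)
    (d.proj_preimage hcov s).1).flip

end Groth.Agent.LimLib.StepData
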