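import Mathlib.AlgebraicGeometry.Morphisms.QuasiSeparated
import Mathlib.AlgebraicGeometry.Morphisms.OpenImmersion

/-!
# Open immersions of an open into an affine scheme
-/

set_option backward.isDefEq.respectTransparency false
set_option backward.defeqAttrib.useBackward true

universe u

open CategoryTheory Limits AlgebraicGeometry TopologicalSpace TopCat.Presheaf

namespace Groth.Agent.LimLib

/-- The basic open `D(r)` as an open of the scheme `Spec R`. -/
abbrev bOpen {R : CommRingCat.{u}} (r : R) : (Spec R).Opens := PrimeSpectrum.basicOpen r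

variable {X : Scheme.{u}} (W : X.Opens) {R : CommRingCat.{u}} (φ : R ⟶ Γ(X, W))

/-- The preimage of a basic open under `W ⟶ Spec R`. -/
lemma toSpecΓ_map_preimage_basicOpen (r : R) :
    (W.toSpecΓ ≫ Spec.map φ) ⁻¹ᵁ PrimeSpectrum.basicOpen r = W.ι ⁻¹ᵁ X.basicOpen (φ r) := by
  rw [Scheme.Hom.comp_preimage,
    show Spec.map φ ⁻¹ᵁ PrimeSpectrum.basicOpen r = PrimeSpectrum.basicOpen (φ r) from rfl]
  exact Scheme.Opens.toSpecΓ_preimage_basicOpen W (φ r)

/-- Criterion for `W ⟶ Spec R` to be an open immersion: `W` is covered by affine basic opens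
coming from `R`, whose rings of sections are localizations of `R`. -/
lemma isOpenImmersion_toSpecΓ_map {ι : Type*} (p : ι → R)
    (haff : ∀ m, IsAffineOpen (X.basicOpen (φ (p m))))
    (hcov : ⨆ m, X.basicOpen (φ (p m)) = W)
    (hsurj : ∀ m (y : Γ(X, X.basicOpen (φ (p m)))), ∃ (N : ℕ) (r : R),
      (φ r) |_ X.basicOpen (φ (p m)) = ((φ (p m)) |_ X.basicOpen (φ (p m))) ^ N * y)
    (hinj : ∀ m (r : R), (φ r) |_ X.basicOpen (φ (p m)) = 0 → ∃ N : ℕ, p m ^ N * r = 0) :
    IsOpenImmersion (W.toSpecΓ ≫ Spec.map φ) ∧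
      Set.range (W.toSpecΓ ≫ Spec.map φ) = ⋃ m, (bOpen (p m) : Set (Spec R)) := by
  set ψ := W.toSpecΓ ≫ Spec.map φ
  let V : ι → X.Opens := fun m => X.basicOpen (φ (p m))
  have hle : ∀ m, V m ≤ W := fun m => X.basicOpen_le _
  let k : ∀ m, (V m : Scheme.{u}) ⟶ (W : Scheme.{u}) := fun m => X.homOfLE (hle m)
  have main : ∀ m, IsOpenImmersion (k m ≫ ψ) ∧
      Set.range (k m ≫ ψ) = (bOpen (p m) : Set (Spec R)) := by
    intro m
    let res : Γ(X, W) ⟶ Γ(X, V m) := X.presheaf.map (homOfLE (hle m)).op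
    let _ : Algebra R Γ(X, V m) := (φ ≫ res).hom.toAlgebra
    have : IsLocalization.Away (p m) Γ(X, V m) := by
      refine IsLocalization.Away.mk _ ?_ (fun y => ?_) (fun a b h => ?_)
      · exact RingedSpace.isUnit_res_basicOpen _ (φ (p m))
      · obtain ⟨N, r, hr⟩ := hsurj m y
        exact ⟨N, r, by rw [mul_comm]; exact hr.symm⟩
      · obtain ⟨N, hN⟩ := hinj m (a - b) (by
          show res (φ (a - b)) = 0
          rw [map_sub, map_sub, sub_eq_zero]; exact h)
        exact ⟨N, by rw [← sub_eq_zero, ← mul_sub, hN]⟩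
    have e : k m ≫ ψ = (haff m).isoSpec.hom ≫
        Spec.map (CommRingCat.ofHom (algebraMap R Γ(X, V m))) := by
      show X.homOfLE (hle m) ≫ W.toSpecΓ ≫ Spec.map φ = (V m).toSpecΓ ≫ _
      rw [← Category.assoc, ← Scheme.Opens.toSpecΓ_SpecMap_presheaf_map, Category.assoc,
        ← Spec.map_comp]
      rfl
    have := IsOpenImmersion.of_isLocalization (S := Γ(X, V m)) (p m)
    refine ⟨e ▸ inferInstance, ?_⟩
    rw [e, Scheme.Hom.comp_base, TopCat.coe_comp, Set.range_comp,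
      Set.range_eq_univ.mpr (show Function.Surjective (haff m).isoSpec.hom from (haff m).isoSpec.hom.homeomorph.surjective), Set.image_univ]
    exact PrimeSpectrum.localization_away_comap_range _ (p m)
  have hk : ∀ x : (W : Scheme.{u}), ∃ m z, k m z = x := fun x => by
    obtain ⟨m, hm⟩ := Opens.mem_iSup.mp (hcov.ge x.2)
    refine ⟨m, ⟨_, hm⟩, W.ι.isOpenEmbedding.injective ?_⟩
    rw [← Scheme.Hom.comp_apply]
    simp [k]
  have hrange : Set.range ψ = ⋃ m, (bOpen (p m) : Set (Spec R)) := by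
    refine Set.Subset.antisymm ?_ (Set.iUnion_subset fun m => ?_)
    · rintro _ ⟨x, rfl⟩
      obtain ⟨m, z, rfl⟩ := hk x
      exact Set.mem_iUnion.mpr ⟨m, (main m).2.le ⟨z, rfl⟩⟩
    · rw [← (main m).2]
      rintro _ ⟨z, rfl⟩
      exact ⟨k m z, rfl⟩
  have hinjψ : Function.Injective ψ := by
    intro x y hxy
    obtain ⟨m, hx⟩ := Opens.mem_iSup.mp (hcov.ge x.2)
    have hmem : ∀ z : (W : Scheme.{u}), ψ z ∈ PrimeSpectrum.basicOpen (p m) → ∃ z', k m z' = z := by
      intro z hz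
      have : z ∈ ψ ⁻¹ᵁ PrimeSpectrum.basicOpen (p m) := hz
      rw [toSpecΓ_map_preimage_basicOpen] at this
      refine ⟨⟨_, this⟩, W.ι.isOpenEmbedding.injective ?_⟩
      rw [← Scheme.Hom.comp_apply]
      simp [k]
    have hx' : ψ x ∈ PrimeSpectrum.basicOpen (p m) := by
      show x ∈ ψ ⁻¹ᵁ PrimeSpectrum.basicOpen (p m)
      rw [toSpecΓ_map_preimage_basicOpen]
      exact hx
    obtain ⟨x', rfl⟩ := hmem x hx'
    obtain ⟨y', rfl⟩ := hmem y (hxy ▸ hx')
    have := (main m).1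
    exact congrArg _ ((k m ≫ ψ).isOpenEmbedding.injective hxy)
  have hstalk : ∀ x, IsIso (ψ.stalkMap x) := fun x => by
    obtain ⟨m, z, rfl⟩ := hk x
    have := (main m).1
    have h : IsIso ((k m ≫ ψ).stalkMap z) := inferInstance
    rw [Scheme.Hom.stalkMap_comp] at h
    exact IsIso.of_isIso_comp_right _ ((k m).stalkMap z)
  refine ⟨IsOpenImmersion.iff_isIso_stalkMap.mpr ⟨?_, hstalk⟩, hrange⟩
  refine .of_continuous_injective_isOpenMap ψ.continuous hinjψ fun O hO => ?_
  have : ψ '' O = ⋃ m, (k m ≫ ψ) '' (k m ⁻¹' O) := by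
    refine Set.Subset.antisymm ?_ (Set.iUnion_subset fun m => ?_)
    · rintro _ ⟨x, hx, rfl⟩
      obtain ⟨m, z, rfl⟩ := hk x
      exact Set.mem_iUnion.mpr ⟨m, z, hx, rfl⟩
    · rintro _ ⟨z, hz, rfl⟩
      exact ⟨k m z, hz, rfl⟩
  rw [this]
  exact isOpen_iUnion fun m =>
    have := (main m).1
    (k m ≫ ψ).isOpenEmbedding.isOpenMap _ (hO.preimage (k m).continuous)

end Groth.Agent.LimLib
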