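import Groth.Agent.LimLib.OpensLimit
import Groth.Agent.LimLib.ToSpec
import Mathlib.Algebra.Category.Ring.FilteredColimits
import Mathlib.AlgebraicGeometry.Morphisms.FiniteType
import Mathlib.AlgebraicGeometry.Noetherian

/-!
# Noetherian approximation: adding an affine open

`FTSystem S` is an inverse system over a directed preorder of schemes of finite type over `ℤ` with
affine transition maps and limit `S`; an `FTSystem.Extension` along an open immersion `V ⟶ S` is a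
system for `S` containing a reindexed copy of one for `V` as an open subsystem.
`FTSystem.exists_extension` is the case where `S` is covered by `V` and one affine open.
-/

set_option backward.isDefEq.respectTransparency false
set_option backward.defeqAttrib.useBackward true
set_option maxHeartbeats 800000

universe u

open CategoryTheory Limits AlgebraicGeometry TopologicalSpace Opposite TopCat.Presheaf

namespace Groth.Agent.LimLib

/-- An inverse system over a directed preorder of quasi-compact schemes of finite type over `ℤ` with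
affine transition maps, together with a limit cone of vertex `S`. -/
structure FTSystem (S : Scheme.{u}) : Type (u + 1) where
  /-- the indices -/
  J : Type u
  [pre : Preorder J]
  [dir : IsDirectedOrder J]
  [ne : Nonempty J]
  /-- the diagram -/
  D : Jᵒᵖ ⥤ Scheme.{u}
  /-- the projections -/
  π : (Functor.const Jᵒᵖ).obj S ⟶ D
  isLimit : Nonempty (IsLimit (Cone.mk S π))
  isAffineHom : ∀ {i j : Jᵒᵖ} (a : i ⟶ j), IsAffineHom (D.map a)
  compactSpace : ∀ j, CompactSpace (D.obj j)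
  lft : ∀ j, LocallyOfFiniteType (specULiftZIsTerminal.from (D.obj j))

attribute [instance] FTSystem.pre FTSystem.dir FTSystem.ne FTSystem.compactSpace FTSystem.lft

instance {S : Scheme.{u}} (P : FTSystem S) {i j : P.Jᵒᵖ} (a : i ⟶ j) : IsAffineHom (P.D.map a) :=
  P.isAffineHom a

instance {S : Scheme.{u}} (P : FTSystem S) (j : P.Jᵒᵖ) : IsLocallyNoetherian (P.D.obj j) :=
  have : IsNoetherianRing (ULift.{u} ℤ) := isNoetherianRing_of_ringEquiv ℤ ULift.ringEquiv.symm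
  LocallyOfFiniteType.isLocallyNoetherian (specULiftZIsTerminal.from (P.D.obj j))

/-- A system for `S` containing a reindexed copy of a system for `V` as an open subsystem. -/
structure FTSystem.Extension {V S : Scheme.{u}} (P : FTSystem V) (ι : V ⟶ S) : Type (u + 1) where
  /-- the system for `S` -/
  sys : FTSystem S
  /-- the reindexing -/
  α : sys.J →o P.J
  /-- the open immersions -/
  emb : ∀ j : sys.J, P.D.obj (op (α j)) ⟶ sys.D.obj (op j)
  isOpenImmersion : ∀ j, IsOpenImmersion (emb j)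
  sq : ∀ {j j' : sys.J} (h : j' ≤ j), IsPullback (emb j) (P.D.map (homOfLE (α.mono h)).op)
    (sys.D.map (homOfLE h).op) (emb j')
  sqπ : ∀ j : sys.J, IsPullback ι (P.π.app (op (α j))) (sys.π.app (op j)) (emb j)

section gluing

variable {U A B : Scheme.{u}} {f : U ⟶ A} {g : U ⟶ B} [IsOpenImmersion f] [IsOpenImmersion g]

lemma inl_mem_range_inr_iff (x : A) :
    pushout.inl f g x ∈ Set.range (pushout.inr f g) ↔ x ∈ Set.range f := by
  constructor
  · intro h
    have h' : pushout.inl f g x ∈ Set.range (f ≫ pushout.inl f g) := by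
      rw [← pushout_range_inter]; exact ⟨⟨x, rfl⟩, h⟩
    obtain ⟨z, hz⟩ := h'
    rw [Scheme.Hom.comp_apply] at hz
    exact ⟨z, (pushout.inl f g).isOpenEmbedding.injective hz⟩
  · rintro ⟨z, rfl⟩
    exact ⟨g z, by rw [← Scheme.Hom.comp_apply, ← Scheme.Hom.comp_apply, pushout.condition]⟩

lemma inr_mem_range_inl_iff (x : B) :
    pushout.inr f g x ∈ Set.range (pushout.inl f g) ↔ x ∈ Set.range g := by
  constructor
  · intro h
    have h' : pushout.inr f g x ∈ Set.range (f ≫ pushout.inl f g) := by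
      rw [← pushout_range_inter]; exact ⟨h, ⟨x, rfl⟩⟩
    obtain ⟨z, hz⟩ := h'
    rw [pushout.condition, Scheme.Hom.comp_apply] at hz
    exact ⟨z, (pushout.inr f g).isOpenEmbedding.injective hz⟩
  · rintro ⟨z, rfl⟩
    exact ⟨f z, by rw [← Scheme.Hom.comp_apply, ← Scheme.Hom.comp_apply, pushout.condition]⟩

/-- A morphism to a pushout of open immersions which maps the two pieces of a cover to the two
pieces respecting the intersections has the pieces as preimages. -/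
lemma preimage_opensRange_of_glue {Y X₁ X₂ : Scheme.{u}} {j₁ : X₁ ⟶ Y} {j₂ : X₂ ⟶ Y}
    [IsOpenImmersion j₁] [IsOpenImmersion j₂] (hcov : j₁.opensRange ⊔ j₂.opensRange = ⊤)
    (a : X₁ ⟶ A) (b : X₂ ⟶ B) (m : Y ⟶ pushout f g) (ha : j₁ ≫ m = a ≫ pushout.inl f g)
    (hb : j₂ ≫ m = b ≫ pushout.inr f g)
    (h₁ : ∀ x, a x ∈ Set.range f → j₁ x ∈ Set.range j₂)
    (h₂ : ∀ x, b x ∈ Set.range g → j₂ x ∈ Set.range j₁) :
    m ⁻¹ᵁ (pushout.inl f g).opensRange = j₁.opensRange ∧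
      m ⁻¹ᵁ (pushout.inr f g).opensRange = j₂.opensRange := by
  have ha' : ∀ x, m (j₁ x) = pushout.inl f g (a x) := fun x => by
    rw [← Scheme.Hom.comp_apply, ha, Scheme.Hom.comp_apply]
  have hb' : ∀ x, m (j₂ x) = pushout.inr f g (b x) := fun x => by
    rw [← Scheme.Hom.comp_apply, hb, Scheme.Hom.comp_apply]
  refine ⟨le_antisymm (fun y hy => ?_) ?_, le_antisymm (fun y hy => ?_) ?_⟩
  · rcases Opens.mem_sup.mp (hcov.ge (Set.mem_univ y)) with h | ⟨x, rfl⟩
    · exact h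
    · have hy' : m (j₂ x) ∈ Set.range (pushout.inl f g) := hy
      rw [hb', inr_mem_range_inl_iff] at hy'
      exact h₂ x hy'
  · rintro _ ⟨x, rfl⟩; exact ⟨a x, (ha' x).symm⟩
  · rcases Opens.mem_sup.mp (hcov.ge (Set.mem_univ y)) with ⟨x, rfl⟩ | h
    · have hy' : m (j₁ x) ∈ Set.range (pushout.inr f g) := hy
      rw [ha', inl_mem_range_inr_iff] at hy'
      exact h₁ x hy'
    · exact h
  · rintro _ ⟨x, rfl⟩; exact ⟨b x, (hb' x).symm⟩

end gluing

variable {V S : Scheme.{u}}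

lemma appLE_eq_id {X : Scheme.{u}} {f : X ⟶ X} (hf : f = 𝟙 X) (U : X.Opens) (e : U ≤ f ⁻¹ᵁ U) :
    f.appLE U U e = 𝟙 _ := by
  subst hf
  simp [Scheme.Hom.appLE]
  exact X.presheaf.map_id _

/-- The data at the initial stage for adding an affine open. -/
structure StepData (P : FTSystem V) (ι : V ⟶ S) (U : S.Opens) where
  /-- the initial stage -/
  i₀ : P.J
  /-- the intersection at the initial stage -/
  W₀ : (P.D.obj (op i₀)).Opens
  /-- number of functions -/
  n : ℕ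
  /-- functions on the affine open -/
  g : Fin n → Γ(S, U)
  /-- the same functions at the initial stage -/
  gh : Fin n → Γ(P.D.obj (op i₀), W₀)
  hW : P.π.app (op i₀) ⁻¹ᵁ W₀ = ι ⁻¹ᵁ U
  hgh : ∀ m, (P.π.app (op i₀)).appLE W₀ (ι ⁻¹ᵁ U) hW.ge (gh m) = ι.app U (g m)
  haff : ∀ m, IsAffineOpen ((P.D.obj (op i₀)).basicOpen (gh m))
  hcov : ⨆ m, (P.D.obj (op i₀)).basicOpen (gh m) = W₀
  hgS : ∀ m x, x ∈ S.basicOpen (g m) → x ∈ Set.range ι

/-- Sections on an affine open of a scheme of finite type over `ℤ` are a finitely generated ring. -/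
lemma exists_finset_closure_sections (X : Scheme.{u})
    [LocallyOfFiniteType (specULiftZIsTerminal.from X)] {U : X.Opens} (hU : IsAffineOpen U) :
    ∃ G : Finset Γ(X, U), Subring.closure (SetLike.coe G) = ⊤ := by
  have h := (specULiftZIsTerminal.from X).finiteType_appLE (U := ⊤) (isAffineOpen_top _) (V := U)
    hU le_top
  let e := (Scheme.ΓSpecIso (CommRingCat.of (ULift.{u} ℤ))).symm.commRingCatIsoToRingEquiv
  have h₂ : (e.toRingHom.comp ULift.ringEquiv.symm.toRingHom).FiniteType :=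
    .of_surjective _ (e.surjective.comp ULift.ringEquiv.symm.surjective)
  have hz : (algebraMap ℤ Γ(X, U)).FiniteType := by
    rw [RingHom.ext_int (algebraMap ℤ Γ(X, U)) (((specULiftZIsTerminal.from X).appLE ⊤ U le_top).hom.comp
      (e.toRingHom.comp ULift.ringEquiv.symm.toRingHom))]
    exact h.comp h₂
  obtain ⟨G, hG⟩ := (RingHom.finiteType_algebraMap.mp hz).out
  refine ⟨G, top_le_iff.mp fun x htop => ?_⟩
  have hx : x ∈ Algebra.adjoin ℤ (SetLike.coe G) := hG.ge trivial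
  clear htop
  induction hx using Algebra.adjoin_induction with
  | mem z hz => exact Subring.subset_closure hz
  | algebraMap z => simp
  | add _ _ _ _ h h' => exact add_mem h h'
  | mul _ _ _ _ h h' => exact mul_mem h h'

namespace StepData

variable {P : FTSystem V} {ι : V ⟶ S} {U : S.Opens} (d : StepData P ι U)

/-- The stages above the initial one. -/
abbrev Idx : Type u := {i : P.J // d.i₀ ≤ i}

/-- The intersection at a stage. -/
noncomputable def W (i : d.Idx) : (P.D.obj (op i.1)).Opens := P.D.map (homOfLE i.2).op ⁻¹ᵁ d.W₀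

/-- The transition map in the system. -/
noncomputable abbrev tr {i j : d.Idx} (h : i ≤ j) : P.D.obj (op j.1) ⟶ P.D.obj (op i.1) :=
  P.D.map (homOfLE (show i.1 ≤ j.1 from h)).op

lemma map_preimage_W {i j : d.Idx} (h : i ≤ j) : d.tr h ⁻¹ᵁ d.W i = d.W j := by
  show d.tr h ⁻¹ᵁ (P.D.map (homOfLE i.2).op ⁻¹ᵁ d.W₀) = _
  rw [← Scheme.Hom.comp_preimage, ← P.D.map_comp]
  rfl

lemma π_preimage_W (i : d.Idx) : P.π.app (op i.1) ⁻¹ᵁ d.W i = ι ⁻¹ᵁ U := by
  show P.π.app (op i.1) ⁻¹ᵁ (P.D.map (homOfLE i.2).op ⁻¹ᵁ d.W₀) = _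
  rw [← Scheme.Hom.comp_preimage, ← P.π.naturality, ← d.hW]
  simp

/-- Restriction between stages. -/
noncomputable def ρ {i j : d.Idx} (h : i ≤ j) : Γ(P.D.obj (op i.1), d.W i) ⟶ Γ(P.D.obj (op j.1), d.W j) :=
  (d.tr h).appLE (d.W i) (d.W j) (d.map_preimage_W h).ge

/-- Restriction to the limit. -/
noncomputable def σ (i : d.Idx) : Γ(P.D.obj (op i.1), d.W i) ⟶ Γ(V, ι ⁻¹ᵁ U) :=
  (P.π.app (op i.1)).appLE (d.W i) (ι ⁻¹ᵁ U) (d.π_preimage_W i).ge

lemma ρ_refl (i : d.Idx) : d.ρ (le_refl i) = 𝟙 _ := by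
  exact appLE_eq_id (P.D.map_id _) _ _

lemma ρ_trans {i j k : d.Idx} (h : i ≤ j) (h' : j ≤ k) : d.ρ h ≫ d.ρ h' = d.ρ (h.trans h') := by
  simp only [ρ, Scheme.Hom.appLE_comp_appLE, ← P.D.map_comp]
  rfl

lemma ρ_σ {i j : d.Idx} (h : i ≤ j) : d.ρ h ≫ d.σ j = d.σ i := by
  simp only [ρ, σ, Scheme.Hom.appLE_comp_appLE]
  congr 1
  simpa using (P.π.naturality (homOfLE (show i.1 ≤ j.1 from h)).op).symm

/-- The functions at a stage. -/
noncomputable def ghat (i : d.Idx) (m : Fin d.n) : Γ(P.D.obj (op i.1), d.W i) :=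
  (P.D.map (homOfLE i.2).op).appLE d.W₀ (d.W i) le_rfl (d.gh m)

lemma ρ_ghat {i j : d.Idx} (h : i ≤ j) (m : Fin d.n) : d.ρ h (d.ghat i m) = d.ghat j m := by
  simp only [ρ, ghat, ← CommRingCat.comp_apply, Scheme.Hom.appLE_comp_appLE, ← P.D.map_comp]
  rfl

lemma σ_ghat (i : d.Idx) (m : Fin d.n) : d.σ i (d.ghat i m) = ι.app U (d.g m) := by
  rw [← d.hgh m]
  simp only [σ, ghat, ← CommRingCat.comp_apply, Scheme.Hom.appLE_comp_appLE]
  congr 4
  simpa using (P.π.naturality (homOfLE i.2).op).symm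

lemma basicOpen_ghat (i : d.Idx) (m : Fin d.n) :
    (P.D.obj (op i.1)).basicOpen (d.ghat i m) =
      P.D.map (homOfLE i.2).op ⁻¹ᵁ (P.D.obj (op d.i₀)).basicOpen (d.gh m) := by
  rw [ghat, Scheme.basicOpen_appLE]
  exact inf_eq_right.mpr (Scheme.Hom.preimage_mono _ (Scheme.basicOpen_le _ _))

lemma isAffineOpen_ghat (i : d.Idx) (m : Fin d.n) :
    IsAffineOpen ((P.D.obj (op i.1)).basicOpen (d.ghat i m)) := by
  rw [basicOpen_ghat]
  exact (d.haff m).preimage _

lemma iSup_ghat (i : d.Idx) : ⨆ m, (P.D.obj (op i.1)).basicOpen (d.ghat i m) = d.W i := by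
  simp only [basicOpen_ghat, ← Scheme.Hom.preimage_iSup, d.hcov]
  rfl

lemma isCompact_W (i : d.Idx) : IsCompact (d.W i : Set (P.D.obj (op i.1))) := by
  rw [← d.iSup_ghat i, Opens.coe_iSup]
  exact isCompact_iUnion fun m => (d.isAffineOpen_ghat i m).isCompact

/-- `A ×_{O(W)} O(W_i)`. -/
noncomputable def fp (i : d.Idx) : Subring (Γ(S, U) × Γ(P.D.obj (op i.1), d.W i)) :=
  ((ι.app U).hom.comp (RingHom.fst _ _)).eqLocus ((d.σ i).hom.comp (RingHom.snd _ _))

lemma mem_fp {i : d.Idx} {x : Γ(S, U) × Γ(P.D.obj (op i.1), d.W i)} :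
    x ∈ d.fp i ↔ ι.app U x.1 = d.σ i x.2 := Iff.rfl

/-- The pair `(gₘ, ĝₘ)`. -/
noncomputable def pair (i : d.Idx) (m : Fin d.n) : Γ(S, U) × Γ(P.D.obj (op i.1), d.W i) :=
  (d.g m, d.ghat i m)

lemma pair_mem (i : d.Idx) (m : Fin d.n) : d.pair i m ∈ d.fp i :=
  (d.σ_ghat i m).symm

/-- The induced map on the fibre products. -/
noncomputable def mapFp {i j : d.Idx} (h : i ≤ j) :
    Γ(S, U) × Γ(P.D.obj (op i.1), d.W i) →+* Γ(S, U) × Γ(P.D.obj (op j.1), d.W j) :=
  RingHom.prodMap (RingHom.id _) (d.ρ h).hom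

lemma mapFp_mem {i j : d.Idx} (h : i ≤ j) {x} (hx : x ∈ d.fp i) : d.mapFp h x ∈ d.fp j := by
  rw [mem_fp] at hx ⊢
  show ι.app U x.1 = (d.ρ h ≫ d.σ j) x.2
  rw [d.ρ_σ h]; exact hx

lemma mapFp_pair {i j : d.Idx} (h : i ≤ j) (m : Fin d.n) : d.mapFp h (d.pair i m) = d.pair j m :=
  Prod.ext rfl (d.ρ_ghat h m)

/-- Finitely generated subrings of the fibre product large enough to contain the intersection as an
open subscheme of their spectrum. -/
structure IsGood (i : d.Idx) (B : Subring (Γ(S, U) × Γ(P.D.obj (op i.1), d.W i))) : Prop where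
  le : B ≤ d.fp i
  fg : ∃ F : Finset _, Subring.closure (SetLike.coe F) = B
  pair_mem : ∀ m, d.pair i m ∈ B
  surj : ∀ m (y : Γ(P.D.obj (op i.1), (P.D.obj (op i.1)).basicOpen (d.ghat i m))),
    ∃ (N : ℕ), ∃ b ∈ B, b.2 |_ (P.D.obj (op i.1)).basicOpen (d.ghat i m) =
      ((d.ghat i m) |_ (P.D.obj (op i.1)).basicOpen (d.ghat i m)) ^ N * y

lemma IsGood.mono {i : d.Idx} {B B'} (h : d.IsGood i B) (hle : B ≤ B') (hB' : B' ≤ d.fp i)
    (hfg : ∃ F : Finset _, Subring.closure (SetLike.coe F) = B') : d.IsGood i B' :=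
  ⟨hB', hfg, fun m => hle (h.pair_mem m), fun m y => by
    obtain ⟨N, b, hb, e⟩ := h.surj m y
    exact ⟨N, b, hle hb, e⟩⟩

variable [IsOpenImmersion ι]

lemma app_eq_zero (hU : IsAffineOpen U) (m : Fin d.n) {a : Γ(S, U)}
    (h : (ι.app U a) |_ V.basicOpen (ι.app U (d.g m)) = 0) : ∃ N : ℕ, d.g m ^ N * a = 0 := by
  refine exists_pow_mul_eq_zero_of_res_basicOpen_eq_zero_of_isAffineOpen _ hU a (d.g m) ?_
  have : IsIso (ι.app (S.basicOpen (d.g m))) := ι.isIso_app _ (fun x hx => d.hgS m x hx)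
  apply (ConcreteCategory.bijective_of_isIso (ι.app (S.basicOpen (d.g m)))).1
  rw [map_zero, ← map_zero (V.presheaf.map (eqToHom (Scheme.preimage_basicOpen ι (d.g m))).op).hom,
    ← h]
  simp only [TopCat.Presheaf.restrictOpenCommRingCat_apply, ← CommRingCat.comp_apply,
    Scheme.Hom.naturality, Category.assoc, ← V.presheaf.map_comp]
  rfl

variable [CompactSpace V]

lemma exists_lift (hU : IsAffineOpen U) (i : d.Idx) (m : Fin d.n)
    (y : Γ(P.D.obj (op i.1), (P.D.obj (op i.1)).basicOpen (d.ghat i m))) :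
    ∃ (N : ℕ), ∃ b ∈ d.fp i, b.2 |_ (P.D.obj (op i.1)).basicOpen (d.ghat i m) =
      ((d.ghat i m) |_ (P.D.obj (op i.1)).basicOpen (d.ghat i m)) ^ N * y := by
  obtain ⟨N, x, hx⟩ := exists_eq_pow_mul_of_isCompact_of_isQuasiSeparated _ (d.W i)
    (d.isCompact_W i) (IsQuasiSeparated.of_quasiSeparatedSpace _) (d.ghat i m) y
  let t : Γ(V, ι ⁻¹ᵁ U) := d.σ i x
  have : IsIso (ι.app (S.basicOpen (d.g m))) := ι.isIso_app _ (fun x hx => d.hgS m x hx)
  obtain ⟨s, hs⟩ := (ConcreteCategory.bijective_of_isIso (ι.app (S.basicOpen (d.g m)))).2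
    (V.presheaf.map (eqToHom (Scheme.preimage_basicOpen ι (d.g m))).op
      (t |_ V.basicOpen (ι.app U (d.g m))))
  obtain ⟨k, a, ha⟩ := exists_eq_pow_mul_of_isCompact_of_isQuasiSeparated _ U hU.isCompact
    hU.isQuasiSeparated (d.g m) s
  have hW : IsCompact ((ι ⁻¹ᵁ U : V.Opens) : Set V) := by
    rw [← d.π_preimage_W i]
    have := isAffineHom_π_app _ _ P.isLimit.some (op i.1)
    exact QuasiCompact.isCompact_preimage (f := P.π.app (op i.1)) _ (d.W i).2 (d.isCompact_W i)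
  obtain ⟨l, hl⟩ := exists_pow_mul_eq_zero_of_res_basicOpen_eq_zero_of_isCompact V hW
    (ι.app U a - ι.app U (d.g m) ^ k * t) (ι.app U (d.g m)) (by
      apply (ConcreteCategory.bijective_of_isIso
        (V.presheaf.map (eqToHom (Scheme.preimage_basicOpen ι (d.g m))).op)).1
      simp only [TopCat.Presheaf.restrictOpenCommRingCat_apply] at ha hs ⊢
      rw [map_sub, map_mul, map_pow, map_sub, map_mul, map_pow, map_zero, ← hs, sub_eq_zero]
      have := congrArg (ι.app (S.basicOpen (d.g m))) ha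
      rw [map_mul, map_pow] at this
      convert this using 2 <;>
        simp only [← CommRingCat.comp_apply, Scheme.Hom.naturality, Category.assoc,
          ← V.presheaf.map_comp] <;> rfl)
  refine ⟨l + k + N, (d.g m ^ l * a, d.ghat i m ^ (l + k) * x), ?_, ?_⟩
  · rw [mem_fp, map_mul, map_mul, map_pow, map_pow, d.σ_ghat, pow_add, mul_assoc, ← sub_eq_zero,
      ← mul_sub]
    exact hl
  · simp only [TopCat.Presheaf.restrictOpenCommRingCat_apply] at hx ⊢
    rw [map_mul, map_pow, hx, pow_add _ (l + k) N, mul_assoc]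

lemma surj_of_generators (i : d.Idx) (B : Subring (Γ(S, U) × Γ(P.D.obj (op i.1), d.W i)))
    (m : Fin d.n) (hp : d.pair i m ∈ B)
    (G : Finset Γ(P.D.obj (op i.1), (P.D.obj (op i.1)).basicOpen (d.ghat i m)))
    (hG : Subring.closure (SetLike.coe G) = ⊤)
    (hgen : ∀ y ∈ G, ∃ (N : ℕ), ∃ b ∈ B, b.2 |_ (P.D.obj (op i.1)).basicOpen (d.ghat i m) =
      ((d.ghat i m) |_ (P.D.obj (op i.1)).basicOpen (d.ghat i m)) ^ N * y)
    (y : Γ(P.D.obj (op i.1), (P.D.obj (op i.1)).basicOpen (d.ghat i m))) :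
    ∃ (N : ℕ), ∃ b ∈ B, b.2 |_ (P.D.obj (op i.1)).basicOpen (d.ghat i m) =
      ((d.ghat i m) |_ (P.D.obj (op i.1)).basicOpen (d.ghat i m)) ^ N * y := by
  induction hG.ge (Subring.mem_top y) using Subring.closure_induction with
  | mem z hz => exact hgen z hz
  | zero => exact ⟨0, 0, zero_mem _, by simp⟩
  | one => exact ⟨0, 1, one_mem _, by simp [TopCat.Presheaf.restrictOpenCommRingCat_apply]⟩
  | add y z _ _ hy hz =>
    obtain ⟨n₁, b₁, h₁, e₁⟩ := hy
    obtain ⟨n₂, b₂, h₂, e₂⟩ := hz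
    refine ⟨n₁ + n₂, d.pair i m ^ n₂ * b₁ + d.pair i m ^ n₁ * b₂,
      add_mem (mul_mem (pow_mem hp _) h₁) (mul_mem (pow_mem hp _) h₂), ?_⟩
    simp only [TopCat.Presheaf.restrictOpenCommRingCat_apply, pair, Prod.snd_add, Prod.snd_mul,
      Prod.pow_snd, map_add, map_mul, map_pow] at e₁ e₂ ⊢
    rw [e₁, e₂]; ring
  | neg y _ hy =>
    obtain ⟨n₁, b₁, h₁, e₁⟩ := hy
    refine ⟨n₁, -b₁, neg_mem h₁, ?_⟩
    simp only [TopCat.Presheaf.restrictOpenCommRingCat_apply, Prod.snd_neg, map_neg] at e₁ ⊢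
    rw [e₁]; ring
  | mul y z _ _ hy hz =>
    obtain ⟨n₁, b₁, h₁, e₁⟩ := hy
    obtain ⟨n₂, b₂, h₂, e₂⟩ := hz
    refine ⟨n₁ + n₂, b₁ * b₂, mul_mem h₁ h₂, ?_⟩
    simp only [TopCat.Presheaf.restrictOpenCommRingCat_apply, Prod.snd_mul, map_mul] at e₁ e₂ ⊢
    rw [e₁, e₂]; ring

lemma exists_isGood (hU : IsAffineOpen U) (i : d.Idx)
    (F : Finset (Γ(S, U) × Γ(P.D.obj (op i.1), d.W i))) (hF : ∀ x ∈ F, x ∈ d.fp i) :
    ∃ B, d.IsGood i B ∧ ∀ x ∈ F, x ∈ B := by
  classical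
  have hgen : ∀ m, ∃ G : Finset Γ(P.D.obj (op i.1), (P.D.obj (op i.1)).basicOpen (d.ghat i m)),
      Subring.closure (SetLike.coe G) = ⊤ := fun m =>
    exists_finset_closure_sections (P.D.obj (op i.1)) (d.isAffineOpen_ghat i m)
  choose G hG using hgen
  choose N b hb hbe using fun (m : Fin d.n) (y : G m) => d.exists_lift hU i m y
  let T : Finset (Γ(S, U) × Γ(P.D.obj (op i.1), d.W i)) :=
    (Finset.univ : Finset (Σ m : Fin d.n, G m)).image fun q => b q.1 q.2
  let Q : Finset (Γ(S, U) × Γ(P.D.obj (op i.1), d.W i)) := Finset.univ.image (d.pair i)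
  have hle : Subring.closure (SetLike.coe (F ∪ Q ∪ T)) ≤ d.fp i := by
    rw [Subring.closure_le]
    intro x hx
    rcases Finset.mem_union.mp hx with hx | hx
    · rcases Finset.mem_union.mp hx with hx | hx
      · exact hF x hx
      · obtain ⟨m, -, rfl⟩ := Finset.mem_image.mp hx
        exact d.pair_mem i m
    · obtain ⟨⟨m, y⟩, -, rfl⟩ := Finset.mem_image.mp hx
      exact hb m y
  have hQ : ∀ m, d.pair i m ∈ Subring.closure (SetLike.coe (F ∪ Q ∪ T)) := fun m =>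
    Subring.subset_closure (Finset.mem_union_left _ (Finset.mem_union_right _
      (Finset.mem_image_of_mem _ (Finset.mem_univ m))))
  refine ⟨_, ⟨hle, ⟨_, rfl⟩, hQ, fun m y => d.surj_of_generators i _ m (hQ m) (G m) (hG m)
    (fun z hz => ⟨N m ⟨z, hz⟩, b m ⟨z, hz⟩, Subring.subset_closure (Finset.mem_union_right _
      (Finset.mem_image.mpr ⟨⟨m, ⟨z, hz⟩⟩, Finset.mem_univ _, rfl⟩)), hbe m ⟨z, hz⟩⟩) y⟩,
    fun x hx => Subring.subset_closure (Finset.mem_union_left _ (Finset.mem_union_left _ hx))⟩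

/-- The indices of the extended system. -/
def Stage : Type u := Σ i : d.Idx, {B : Subring (Γ(S, U) × Γ(P.D.obj (op i.1), d.W i)) // d.IsGood i B}

omit [CompactSpace V] [IsOpenImmersion ι] in
lemma mapFp_refl (i : d.Idx) (b : Γ(S, U) × Γ(P.D.obj (op i.1), d.W i)) :
    d.mapFp (le_refl i) b = b :=
  Prod.ext rfl (by
    show (d.ρ (le_refl i)) b.2 = b.2
    rw [d.ρ_refl]; rfl)

omit [CompactSpace V] [IsOpenImmersion ι] in
lemma mapFp_trans {i j k : d.Idx} (h : i ≤ j) (h' : j ≤ k)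
    (b : Γ(S, U) × Γ(P.D.obj (op i.1), d.W i)) :
    d.mapFp (h.trans h') b = d.mapFp h' (d.mapFp h b) :=
  Prod.ext rfl (by
    show (d.ρ (h.trans h')) b.2 = (d.ρ h') ((d.ρ h) b.2)
    rw [← CommRingCat.comp_apply, d.ρ_trans])

/-- The order of the stages. -/
def StageLE (s t : d.Stage) : Prop := ∃ h : s.1 ≤ t.1, ∀ b ∈ s.2.1, d.mapFp h b ∈ t.2.1

omit [CompactSpace V] [IsOpenImmersion ι] in
lemma stageLE_refl (s : d.Stage) : d.StageLE s s :=
  ⟨le_refl _, fun b hb => (d.mapFp_refl s.1 b).symm ▸ hb⟩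

omit [CompactSpace V] [IsOpenImmersion ι] in
lemma stageLE_trans {s t r : d.Stage} (h₁ : d.StageLE s t) (h₂ : d.StageLE t r) : d.StageLE s r := by
  obtain ⟨h, hst⟩ := h₁
  obtain ⟨h', htr⟩ := h₂
  exact ⟨h.trans h', fun b hb => (d.mapFp_trans h h' b).symm ▸ htr _ (hst b hb)⟩

instance : Preorder d.Stage where
  le := d.StageLE
  le_refl := d.stageLE_refl
  le_trans _ _ _ := d.stageLE_trans

lemma exists_stage_ge (hU : IsAffineOpen U) (i : d.Idx)
    (s : List {s : d.Stage // s.1 ≤ i})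
    (F : Finset (Γ(S, U) × Γ(P.D.obj (op i.1), d.W i))) (hF : ∀ x ∈ F, x ∈ d.fp i) :
    ∃ (B : Subring (Γ(S, U) × Γ(P.D.obj (op i.1), d.W i))) (hB : d.IsGood i B),
      (∀ s' ∈ s, s'.1 ≤ (⟨i, B, hB⟩ : d.Stage)) ∧ ∀ x ∈ F, x ∈ B := by
  classical
  have hG : ∀ s' : {s : d.Stage // s.1 ≤ i},
      ∃ G : Finset (Γ(S, U) × Γ(P.D.obj (op i.1), d.W i)), (∀ x ∈ G, x ∈ d.fp i) ∧
        ∀ b ∈ s'.1.2.1, d.mapFp s'.2 b ∈ Subring.closure (SetLike.coe G) := by
    rintro ⟨⟨k, C, hC⟩, hk⟩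
    obtain ⟨G, hG⟩ := hC.fg
    refine ⟨G.image (d.mapFp hk), fun x hx => ?_, fun b hb => ?_⟩
    · obtain ⟨z, hz, rfl⟩ := Finset.mem_image.mp hx
      exact d.mapFp_mem _ (hC.le (hG ▸ Subring.subset_closure hz))
    · rw [Finset.coe_image, ← RingHom.map_closure]
      exact Subring.mem_map.mpr ⟨b, hG.ge hb, rfl⟩
  choose G hGmem hGcl using hG
  obtain ⟨B, hB, hFB⟩ := d.exists_isGood hU i (F ∪ s.toFinset.biUnion G) (fun x hx => by
    rcases Finset.mem_union.mp hx with hx | hx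
    · exact hF x hx
    · obtain ⟨s', -, hx⟩ := Finset.mem_biUnion.mp hx
      exact hGmem s' x hx)
  refine ⟨B, hB, fun s' hs' => ⟨s'.2, fun b hb => ?_⟩,
    fun x hx => hFB x (Finset.mem_union_left _ hx)⟩
  exact Subring.closure_le.mpr (fun x hx => hFB x (Finset.mem_union_right _
    (Finset.mem_biUnion.mpr ⟨s', List.mem_toFinset.mpr hs', hx⟩))) (hGcl s' b hb)

lemma directed (hU : IsAffineOpen U) : IsDirectedOrder d.Stage := ⟨fun s t => by
  obtain ⟨i, hi, hi'⟩ := exists_ge_ge s.1.1 t.1.1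
  obtain ⟨B, hB, hr, -⟩ := d.exists_stage_ge hU ⟨i, s.1.2.trans hi⟩ [⟨s, hi⟩, ⟨t, hi'⟩] ∅ (by simp)
  exact ⟨⟨_, B, hB⟩, hr ⟨s, hi⟩ (List.mem_cons_self ..),
    hr ⟨t, hi'⟩ (List.mem_cons_of_mem _ (List.mem_cons_self ..))⟩⟩

lemma nonempty_stage (hU : IsAffineOpen U) : Nonempty d.Stage := by
  obtain ⟨B, hB, -⟩ := d.exists_stage_ge hU ⟨d.i₀, le_rfl⟩ [] ∅ (by simp)
  exact ⟨⟨_, B, hB⟩⟩

/-- The underlying index. -/
def idx : d.Stage →o P.J := ⟨fun s => s.1.1, fun _ _ h => h.fst⟩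

/-- The rings of the affine pieces. -/
noncomputable def rings : d.Stage ⥤ CommRingCat.{u} where
  obj s := CommRingCat.of s.2.1
  map {s t} h := CommRingCat.ofHom
    (((d.mapFp h.le.fst).comp s.2.1.subtype).codRestrict t.2.1 fun b => h.le.snd b b.2)
  map_id s := CommRingCat.hom_ext (RingHom.ext fun b => Subtype.ext (d.mapFp_refl s.1 b.1))
  map_comp {s t r} f g := CommRingCat.hom_ext (RingHom.ext fun b => Subtype.ext (d.mapFp_trans f.le.fst g.le.fst b.1))

/-- The second projection. -/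
noncomputable def snd (s : d.Stage) : d.rings.obj s ⟶ Γ(P.D.obj (op s.1.1), d.W s.1) :=
  CommRingCat.ofHom ((RingHom.snd _ _).comp s.2.1.subtype)

/-- The first projection. -/
noncomputable def fst (s : d.Stage) : d.rings.obj s ⟶ Γ(S, U) :=
  CommRingCat.ofHom ((RingHom.fst _ _).comp s.2.1.subtype)

lemma snd_naturality {s t : d.Stage} (h : s ⟶ t) :
    d.rings.map h ≫ d.snd t = d.snd s ≫ d.ρ h.le.fst := rfl

/-- The open immersion of the intersection into the affine piece. -/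
noncomputable def ψ (s : d.Stage) : (d.W s.1 : Scheme.{u}) ⟶ Spec (d.rings.obj s) :=
  (d.W s.1).toSpecΓ ≫ Spec.map (d.snd s)

/-- The pair `(gₘ, ĝₘ)` as an element of a stage ring. -/
noncomputable def pairMem (s : d.Stage) (m : Fin d.n) : d.rings.obj s :=
  ⟨d.pair s.1 m, s.2.2.pair_mem m⟩

lemma ψ_spec (hU : IsAffineOpen U) (s : d.Stage) : IsOpenImmersion (d.ψ s) ∧
    Set.range (d.ψ s) = ⋃ m, (bOpen (d.pairMem s m) : Set (Spec (d.rings.obj s))) := by
  refine isOpenImmersion_toSpecΓ_map (d.W s.1) (d.snd s) (d.pairMem s)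
    (fun m => d.isAffineOpen_ghat _ m) (d.iSup_ghat s.1) (fun m y => ?_) fun m r hr => ?_
  · obtain ⟨N, b, hb, e⟩ := s.2.2.surj m y
    exact ⟨N, ⟨b, hb⟩, e⟩
  · obtain ⟨⟨a, x⟩, hax⟩ := r
    have hmem : ι.app U a = d.σ s.1 x := s.2.2.le hax
    obtain ⟨M, hM⟩ := exists_pow_mul_eq_zero_of_res_basicOpen_eq_zero_of_isCompact _
      (d.isCompact_W s.1) x (d.ghat s.1 m) hr
    obtain ⟨L, hL⟩ := d.app_eq_zero hU m (a := d.g m ^ M * a) (by
      rw [map_mul, map_pow, hmem, ← d.σ_ghat s.1 m, ← map_pow, ← map_mul, hM, map_zero]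
      simp)
    refine ⟨L + M, Subtype.ext (Prod.ext ?_ ?_)⟩
    · show d.g m ^ (L + M) * a = 0
      rw [pow_add, mul_assoc, hL]
    · show d.ghat s.1 m ^ (L + M) * x = 0
      rw [pow_add, mul_assoc, hM, mul_zero]

end StepData

end Groth.Agent.LimLib
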