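import Mathlib

/-!
# A family of field extensions embeds into one extension
-/

universe u

namespace Groth.Agent.LimLib

open MvPolynomial in
/-- Any family of extensions of a field embeds into a common extension. -/
theorem exists_common_extension (k : Type u) [Field k] {ι : Type u} (L : ι → Type u)
    [∀ i, Field (L i)] [∀ i, Algebra k (L i)] :
    ∃ (Ω : Type u) (_ : Field Ω) (_ : Algebra k Ω), ∀ i, Nonempty (L i →ₐ[k] Ω) := by
  let σ := Σ i, L i
  let Ω := AlgebraicClosure (FractionRing (MvPolynomial σ k))
  let z : σ → Ω := fun a => algebraMap (FractionRing (MvPolynomial σ k)) Ω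
    (algebraMap (MvPolynomial σ k) (FractionRing (MvPolynomial σ k)) (X a))
  have hz : AlgebraicIndependent k z := by
    refine (AlgebraicIndependent.map' (algebraicIndependent_X σ k)
      (f := ((IsScalarTower.toAlgHom k (FractionRing (MvPolynomial σ k)) Ω).comp
        (IsScalarTower.toAlgHom k (MvPolynomial σ k) (FractionRing (MvPolynomial σ k))))) ?_ :)
    exact (algebraMap (FractionRing (MvPolynomial σ k)) Ω).injective.comp
      (IsFractionRing.injective _ _)
  refine ⟨Ω, inferInstance, inferInstance, fun i => ?_⟩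
  obtain ⟨b, hb⟩ := exists_isTranscendenceBasis k (L i)
  let R := Algebra.adjoin k (Set.range (Subtype.val : b → L i))
  have hR : Algebra.IsAlgebraic R (L i) := hb.isAlgebraic
  let ψ : R →ₐ[k] Ω := (aeval fun x : b => z ⟨i, x.1⟩).comp hb.1.aevalEquiv.symm.toAlgHom
  have hinj : AlgebraicIndependent k fun x : b => z ⟨i, x.1⟩ :=
    hz.comp (fun x : b => (⟨i, x.1⟩ : σ)) (fun x y h => Subtype.ext (sigma_mk_injective h))
  have hψ : Function.Injective ψ :=
    (show Function.Injective (aeval fun x : b => z ⟨i, x.1⟩) from hinj).comp hb.1.aevalEquiv.symm.injective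
  letI : Algebra R Ω := ψ.toRingHom.toAlgebra
  haveI : Module.IsTorsionFree R Ω := by
    rw [Module.isTorsionFree_iff_algebraMap_injective]
    exact hψ
  haveI : IsScalarTower k R Ω := IsScalarTower.of_algebraMap_eq fun x => (ψ.commutes x).symm
  exact ⟨((IsAlgClosed.lift : L i →ₐ[R] Ω)).restrictScalars k⟩

end Groth.Agent.LimLib
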