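import Groth.Agent.DVRCrit.Basic
import Groth.Agent.Dim.LocClosedPoint
import Groth.Agent.Nagata.FiniteType
import Groth.Agent.S9332

/-!
# Specializations along curves over a Nagata base

If a morphism of schemes of finite type over a Nagata scheme lifts every germ of a normal curve,
then images of closed subsets are closed.
-/

set_option autoImplicit false
set_option backward.isDefEq.respectTransparency false
set_option linter.style.haveILetI false

universe u

open CategoryTheory Limits AlgebraicGeometry TopologicalSpace IsLocalRing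

namespace Groth.Agent.LimLib.NagataCurve

/-- The lifting property for germs of normal curves of finite type over the base. -/
def HasCurveLifts {S X Y : Scheme.{u}} (q : Y ⟶ S) (f : X ⟶ Y) : Prop :=
  ∀ (C : Scheme.{u}) (r : C ⟶ S) [IsIntegral C] [LocallyOfFiniteType r] [QuasiCompact r],
    (∀ x : C, IsIntegrallyClosed (C.presheaf.stalk x)) →
    ∀ (c : C), IsClosed ({c} : Set C) → ringKrullDim (C.presheaf.stalk c) = 1 →
    ∀ (U : C.Opens), (U : Set C) = {c}ᶜ →
    ∀ (u : (U : Scheme.{u}) ⟶ X) (g : C ⟶ Y), g ≫ q = r → u ≫ f = U.ι ≫ g →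
    ∀ (k : Spec (CommRingCat.of (FractionRing (C.presheaf.stalk c))) ⟶ (U : Scheme.{u})),
      k ≫ U.ι = Spec.map (CommRingCat.ofHom (algebraMap (C.presheaf.stalk c)
        (FractionRing (C.presheaf.stalk c)))) ≫ C.fromSpecStalk c →
    ∃ l : Spec (C.presheaf.stalk c) ⟶ X, l ≫ f = C.fromSpecStalk c ≫ g ∧
      Spec.map (CommRingCat.ofHom (algebraMap (C.presheaf.stalk c)
        (FractionRing (C.presheaf.stalk c)))) ≫ l = k ≫ u

section Ring

/-- In the closure of a constructible set of a Noetherian spectrum, a point outside is an immediate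
specialization of a point of the set. -/
theorem exists_immediate {B : Type u} [CommRing B] [IsNoetherianRing B] {s : Set (PrimeSpectrum B)}
    (hs : Topology.IsConstructible s) {m : PrimeSpectrum B} (hm : m ∈ closure s) (hms : m ∉ s) :
    ∃ p ∈ s, p < m ∧ ∀ q : PrimeSpectrum B, p < q → q ≤ m → q = m := by
  have hne : {I : Ideal B | ∃ p ∈ s, p ≤ m ∧ p.asIdeal = I}.Nonempty := by
    obtain ⟨S, _, g, hg⟩ := PrimeSpectrum.exists_range_eq_of_isConstructible hs
    rw [← hg, PrimeSpectrum.closure_range_comap, PrimeSpectrum.mem_zeroLocus] at hm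
    obtain ⟨P, hP, hPm⟩ := Ideal.exists_minimalPrimes_le (J := m.asIdeal) (hm : RingHom.ker g ≤ _)
    obtain ⟨P', hP', -, hPP'⟩ := Ideal.exists_comap_eq_of_mem_minimalPrimes g (I := ⊥) P
      (by rwa [← RingHom.ker_eq_comap_bot])
    refine ⟨P, ⟨P, hP.1.1⟩, hg ▸ ⟨⟨P', hP'⟩, PrimeSpectrum.ext hPP'⟩, hPm, rfl⟩
  obtain ⟨_, ⟨p, hp, hpm, rfl⟩, hmax⟩ := set_has_maximal_iff_noetherian.mpr ‹_› _ hne
  have hlt : p < m := lt_of_le_of_ne hpm fun e => hms (e ▸ hp)
  refine ⟨p, hp, hlt, fun q hpq hqm => ?_⟩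
  by_contra hne'
  obtain ⟨D, hD⟩ := PrimeSpectrum.exists_constructibleSetData_iff.mpr hs
  rw [← hD, PrimeSpectrum.ConstructibleSetData.toSet, Set.mem_iUnion₂] at hp
  obtain ⟨C, hC, hpC⟩ := hp
  have hbig : ∀ T : PrimeSpectrum B, p < T → T ≤ m → C.f ∈ T.asIdeal := by
    intro T hpT hTm
    by_contra hfT
    refine hmax T.asIdeal ⟨T, ?_, hTm, rfl⟩ hpT
    rw [← hD, PrimeSpectrum.ConstructibleSetData.toSet, Set.mem_iUnion₂]
    exact ⟨C, hC, fun x hx => hpT.le (hpC.1 hx), by simpa using hfT⟩
  have hfp : C.f ∉ p.asIdeal := by simpa using hpC.2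
  let π := Ideal.Quotient.mk p.asIdeal
  let M : Ideal (B ⧸ p.asIdeal) := m.asIdeal.map π
  let Q : Ideal (B ⧸ p.asIdeal) := q.asIdeal.map π
  haveI hMp : M.IsPrime := Ideal.map_isPrime_of_surjective Ideal.Quotient.mk_surjective
    (by rw [Ideal.mk_ker]; exact hpm)
  haveI hQp : Q.IsPrime := Ideal.map_isPrime_of_surjective Ideal.Quotient.mk_surjective
    (by rw [Ideal.mk_ker]; exact hpq.le)
  have hcM : M.comap π = m.asIdeal := by
    rw [Ideal.comap_map_of_surjective' _ Ideal.Quotient.mk_surjective, Ideal.mk_ker, sup_eq_left]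
    exact hpm
  have hcQ : Q.comap π = q.asIdeal := by
    rw [Ideal.comap_map_of_surjective' _ Ideal.Quotient.mk_surjective, Ideal.mk_ker, sup_eq_left]
    exact hpq.le
  let L := Localization.AtPrime M
  have hQM : Q ≤ M := Ideal.map_mono hqm
  let e := IsLocalization.AtPrime.orderIsoOfPrime L M
  let QL := e.symm ⟨Q, hQp, hQM⟩
  haveI := QL.2
  have hback : QL.1.comap (algebraMap (B ⧸ p.asIdeal) L) = Q :=
    congrArg Subtype.val (e.apply_symm_apply ⟨Q, hQp, hQM⟩)
  have hinj : Function.Injective (algebraMap (B ⧸ p.asIdeal) L) :=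
    IsLocalization.injective L M.primeCompl_le_nonZeroDivisors
  haveI : IsDomain L := IsLocalization.isDomain_localization M.primeCompl_le_nonZeroDivisors
  haveI : IsNoetherianRing L := IsLocalization.isNoetherianRing M.primeCompl L inferInstance
  have hQ0 : QL.1 ≠ ⊥ := by
    intro h0
    rw [h0, ← RingHom.ker_eq_comap_bot, (RingHom.injective_iff_ker_eq_bot _).mp hinj] at hback
    rw [← hback, ← RingHom.ker_eq_comap_bot, Ideal.mk_ker] at hcQ
    exact hpq.ne (PrimeSpectrum.ext hcQ)
  haveI := Dim.isMaximal_of_forall_prime_mem (f := algebraMap _ L (π C.f))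
    (by
      rw [map_ne_zero_iff _ hinj]
      exact fun h => hfp (Ideal.Quotient.eq_zero_iff_mem.mp h))
    (by
      intro T hT hT0
      let T' := e ⟨T, hT⟩
      haveI := T'.2.1
      refine (hbig ⟨T'.1.comap π, inferInstance⟩ (lt_of_le_of_ne (fun x hx => ?_) fun h => ?_) ?_ :
        C.f ∈ T'.1.comap π)
      · show π x ∈ T'.1
        rw [Ideal.Quotient.eq_zero_iff_mem.mpr hx]
        exact zero_mem _
      · have h1 : T'.1 = ⊥ := by
          rw [← Ideal.map_comap_of_surjective π Ideal.Quotient.mk_surjective T'.1,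
            show T'.1.comap π = p.asIdeal from (congrArg PrimeSpectrum.asIdeal h).symm,
            Ideal.map_quotient_self]
        refine hT0 ?_
        have h2 : T.comap (algebraMap (B ⧸ p.asIdeal) L) = ⊥ := h1
        exact (IsLocalization.map_comap M.primeCompl L T).symm.trans
          ((congrArg (Ideal.map (algebraMap (B ⧸ p.asIdeal) L)) h2).trans Ideal.map_bot)
      · show T'.1.comap π ≤ m.asIdeal
        rw [← hcM]
        exact Ideal.comap_mono T'.2.2)
    QL.1 hQ0
  have hQL : QL.1 = maximalIdeal L := eq_maximalIdeal this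
  rw [hQL] at hback
  have hMQ : M = Q := (IsLocalization.AtPrime.under_maximalIdeal L M).symm.trans hback
  exact hne' (PrimeSpectrum.ext (by rw [← hcQ, ← hMQ, hcM]))

/-- The localization of the normalization: a normal domain with a height one prime cut out by one
element. -/
theorem exists_normal_curve {B : Type u} [CommRing B] (hB : CAlg.IsNagata B) (K : Type u) [Field K]
    (φ : B →+* K) (p m : PrimeSpectrum B) (hker : RingHom.ker φ = p.asIdeal)
    (hfin : Module.Finite (Subfield.closure (Set.range φ)) K)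
    (G : Finset K) (hmax : m.asIdeal.IsMaximal) (hpm : p < m)
    (himm : ∀ q : PrimeSpectrum B, p < q → q ≤ m → q = m) :
    ∃ (E : Type u) (_ : CommRing E) (_ : IsDomain E) (_ : Algebra B E) (_ : Algebra E K)
      (_ : IsFractionRing E K) (c : PrimeSpectrum E) (d : E),
      (∀ b : B, algebraMap E K (algebraMap B E b) = φ b) ∧ Algebra.FiniteType B E ∧
        IsIntegrallyClosed E ∧ c.asIdeal.IsMaximal ∧ c.asIdeal.height = 1 ∧
        c.asIdeal.comap (algebraMap B E) = m.asIdeal ∧
        d ≠ 0 ∧ (∀ P : PrimeSpectrum E, d ∈ P.asIdeal ↔ P = c) ∧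
        ∀ g ∈ G, ∃ e : E, g * algebraMap E K d = algebraMap E K e := by
  haveI := hB.1
  let R := B ⧸ RingHom.ker φ
  haveI : (RingHom.ker φ).IsPrime := RingHom.ker_isPrime φ
  letI : Algebra R K := φ.kerLift.toAlgebra
  have hinj : Function.Injective (algebraMap R K) := φ.kerLift_injective
  letI : Algebra (FractionRing R) K := (IsFractionRing.lift hinj).toAlgebra
  haveI : IsScalarTower R (FractionRing R) K :=
    IsScalarTower.of_algebraMap_eq fun x => (IsFractionRing.lift_algebraMap hinj x).symm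
  haveI : FiniteDimensional (FractionRing R) K := by
    let F := Subfield.closure (Set.range φ)
    have hrange : F = (algebraMap (FractionRing R) K).fieldRange := by
      refine le_antisymm (Subfield.closure_le.mpr ?_) ?_
      · rintro _ ⟨b, rfl⟩
        refine ⟨algebraMap R _ (Ideal.Quotient.mk _ b), ?_⟩
        rw [← IsScalarTower.algebraMap_apply]
        exact φ.kerLift_mk b
      · rintro _ ⟨z, rfl⟩
        obtain ⟨a, b, -, rfl⟩ := IsFractionRing.div_surjective (A := R) z
        obtain ⟨a, rfl⟩ := Ideal.Quotient.mk_surjective a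
        obtain ⟨b, rfl⟩ := Ideal.Quotient.mk_surjective b
        rw [map_div₀, ← IsScalarTower.algebraMap_apply, ← IsScalarTower.algebraMap_apply]
        exact div_mem (Subfield.subset_closure ⟨a, (φ.kerLift_mk a).symm⟩)
          (Subfield.subset_closure ⟨b, (φ.kerLift_mk b).symm⟩)
    let e : FractionRing R →+* F :=
      (algebraMap (FractionRing R) K).codRestrict F fun z => hrange.ge ⟨z, rfl⟩
    letI := e.toAlgebra
    haveI : IsScalarTower (FractionRing R) F K := IsScalarTower.of_algebraMap_eq fun _ => rfl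
    haveI : Module.Finite (FractionRing R) F := Module.Finite.of_surjective
      (Algebra.linearMap (FractionRing R) F) fun y => by
        obtain ⟨z, hz⟩ := hrange.le y.2
        exact ⟨z, Subtype.ext hz⟩
    haveI : Module.Finite F K := hfin
    exact Module.Finite.trans F K
  let D := integralClosure R K
  haveI : Module.Finite R D := hB.2 (RingHom.ker φ) K ‹_›
  haveI : IsFractionRing D K := integralClosure.isFractionRing_of_finite_extension (FractionRing R) K
  haveI : IsIntegrallyClosed D := integralClosure.isIntegrallyClosedOfFiniteExtension (FractionRing R)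
  haveI : IsNoetherianRing D := IsNoetherianRing.of_finite R D
  have hRD : Function.Injective (algebraMap R D) := fun a b e =>
    hinj (congrArg Subtype.val e)
  haveI hM : (m.asIdeal.map (Ideal.Quotient.mk (RingHom.ker φ))).IsMaximal :=
    Ideal.IsMaximal.map_of_surjective_of_ker_le Ideal.Quotient.mk_surjective
      (by rw [Ideal.mk_ker, hker]; exact hpm.le)
  obtain ⟨c₀, hc₀, hc₀m⟩ := Ideal.exists_ideal_over_maximal_of_isIntegral (S := D)
    (m.asIdeal.map (Ideal.Quotient.mk (RingHom.ker φ)))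
    (by rw [(RingHom.injective_iff_ker_eq_bot _).mp hRD]; exact bot_le)
  have hcm : c₀.comap ((algebraMap R D).comp (Ideal.Quotient.mk (RingHom.ker φ))) = m.asIdeal := by
    rw [← Ideal.comap_comap, hc₀m, Ideal.comap_map_of_surjective' _ Ideal.Quotient.mk_surjective,
      Ideal.mk_ker, sup_eq_left, hker]
    exact hpm.le
  have hmR : m.asIdeal.map (Ideal.Quotient.mk (RingHom.ker φ)) ≠ ⊥ := by
    rw [Ne, Ideal.map_eq_bot_iff_le_ker, Ideal.mk_ker, hker]
    exact hpm.not_ge
  have hc₀0 : c₀ ≠ ⊥ := by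
    rintro rfl
    rw [← RingHom.ker_eq_comap_bot, (RingHom.injective_iff_ker_eq_bot _).mp hRD] at hc₀m
    exact hmR hc₀m.symm
  have hht : ∀ P : Ideal D, P.IsPrime → P ≤ c₀ → P ≠ ⊥ → P = c₀ := by
    intro P hP hPc hP0
    by_contra hne
    obtain ⟨x, hxc, hxP⟩ := SetLike.exists_of_lt (lt_of_le_of_ne hPc hne)
    have hlt := Ideal.comap_lt_comap_of_integral_mem_sdiff (R := R) hPc ⟨hxc, hxP⟩
      (Algebra.IsIntegral.isIntegral x)
    let T : PrimeSpectrum B := ⟨(P.comap (algebraMap R D)).comap (Ideal.Quotient.mk _), inferInstance⟩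
    have hTm : T ≤ m := by
      show T.asIdeal ≤ m.asIdeal
      rw [← hcm, ← Ideal.comap_comap]
      exact Ideal.comap_mono (Ideal.comap_mono hPc)
    have hpT : p < T := by
      refine lt_of_le_of_ne (fun x hx => ?_) fun h => hP0 ?_
      · show Ideal.Quotient.mk _ x ∈ P.comap (algebraMap R D)
        rw [Ideal.Quotient.eq_zero_iff_mem.mpr (hker.ge hx)]
        exact zero_mem _
      · refine Ideal.eq_bot_of_comap_eq_bot (R := R) ?_
        rw [← Ideal.map_comap_of_surjective (Ideal.Quotient.mk (RingHom.ker φ))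
          Ideal.Quotient.mk_surjective (P.comap (algebraMap R D)),
          show (P.comap (algebraMap R D)).comap (Ideal.Quotient.mk (RingHom.ker φ)) = RingHom.ker φ from
            (congrArg PrimeSpectrum.asIdeal h).symm.trans hker.symm, Ideal.map_quotient_self]
    have := congrArg PrimeSpectrum.asIdeal (himm T hpT hTm)
    rw [← hcm, ← Ideal.comap_comap] at this
    exact hlt.ne (Ideal.comap_injective_of_surjective _ Ideal.Quotient.mk_surjective this)
  obtain ⟨d₁, hd₁c, hd₁⟩ := Submodule.exists_mem_ne_zero_of_ne_bot hc₀0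
  obtain ⟨b, hb⟩ := IsLocalization.exist_integer_multiples_of_finset (nonZeroDivisors D) G
  let d₀ : D := d₁ * b.1
  have hd₀c : d₀ ∈ c₀ := Ideal.mul_mem_right _ _ hd₁c
  have hd₀ : d₀ ≠ 0 := mul_ne_zero hd₁ (nonZeroDivisors.ne_zero b.2)
  -- the other components of the zero locus of `d₀`
  obtain ⟨h₀, hh₀c, hh₀⟩ : ∃ h ∉ c₀, ∀ P ∈ (Ideal.span {d₀}).minimalPrimes, P ≠ c₀ → h ∈ P := by
    let s := (Ideal.finite_minimalPrimes_of_isNoetherianRing D (Ideal.span {d₀})).toFinset.filter
      fun P => P ≠ c₀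
    have hs : ∀ P : s, ∃ h ∈ P.1, h ∉ c₀ := fun P => by
      obtain ⟨hP, hne⟩ := Finset.mem_filter.mp P.2
      rw [Set.Finite.mem_toFinset] at hP
      refine SetLike.not_le_iff_exists.mp fun hle => hne (hht P.1 hP.1.1 hle fun h0 => hd₀ ?_)
      have := hP.1.2 (Ideal.mem_span_singleton_self d₀)
      rwa [h0, Ideal.mem_bot] at this
    choose h hh hhc using hs
    refine ⟨∏ P : s, h P, fun hmem => ?_, fun P hP hne => ?_⟩
    · obtain ⟨P, -, hP⟩ := hc₀.isPrime.prod_mem_iff.mp hmem
      exact hhc P hP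
    · have hPs : P ∈ s := Finset.mem_filter.mpr ⟨(Set.Finite.mem_toFinset _).mpr hP, hne⟩
      exact Ideal.mem_of_dvd _ (Finset.dvd_prod_of_mem _ (Finset.mem_univ ⟨P, hPs⟩)) (hh ⟨P, hPs⟩)
  have hh0 : h₀ ≠ 0 := fun h => hh₀c (h ▸ zero_mem _)
  let E := Localization.Away h₀
  have hMz : Submonoid.powers h₀ ≤ nonZeroDivisors D := powers_le_nonZeroDivisors_of_noZeroDivisors hh0
  haveI : IsDomain E := IsLocalization.isDomain_localization hMz
  haveI : IsIntegrallyClosed E := isIntegrallyClosed_of_isLocalization E _ hMz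
  have hu : ∀ y : Submonoid.powers h₀, IsUnit (algebraMap D K y) := fun y =>
    (IsFractionRing.to_map_ne_zero_of_mem_nonZeroDivisors (hMz y.2)).isUnit
  letI : Algebra E K := (IsLocalization.lift hu).toAlgebra
  haveI : IsScalarTower D E K := IsScalarTower.of_algebraMap_eq fun x => (IsLocalization.lift_eq hu x).symm
  haveI : IsFractionRing E K :=
    IsFractionRing.isFractionRing_of_isDomain_of_isLocalization (Submonoid.powers h₀) E K
  letI : Algebra B E := ((algebraMap D E).comp
    ((algebraMap R D).comp (Ideal.Quotient.mk (RingHom.ker φ)))).toAlgebra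
  have hcd : Disjoint (Submonoid.powers h₀ : Set D) (c₀ : Set D) := by
    rw [Set.disjoint_left]
    rintro _ ⟨n, rfl⟩ hn
    exact hh₀c (hc₀.isPrime.mem_of_pow_mem n hn)
  haveI hcE : (c₀.map (algebraMap D E)).IsPrime :=
    IsLocalization.isPrime_of_isPrime_disjoint (Submonoid.powers h₀) E c₀ hc₀.isPrime hcd
  have hcc : (c₀.map (algebraMap D E)).comap (algebraMap D E) = c₀ :=
    IsLocalization.comap_map_of_isPrime_disjoint (Submonoid.powers h₀) E hc₀.isPrime hcd
  let c : PrimeSpectrum E := ⟨c₀.map (algebraMap D E), hcE⟩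
  have hkey : ∀ P : PrimeSpectrum E, algebraMap D E d₀ ∈ P.asIdeal ↔ P = c := by
    intro P
    refine ⟨fun hP => ?_, fun h => h ▸ Ideal.mem_map_of_mem _ hd₀c⟩
    obtain ⟨P₀, hP₀, hle⟩ := Ideal.exists_minimalPrimes_le (J := P.asIdeal.comap (algebraMap D E))
      ((Ideal.span_singleton_le_iff_mem _).mpr hP : Ideal.span {d₀} ≤ _)
    have hP₀c : P₀ = c₀ := by
      by_contra hne
      exact P.2.ne_top (Ideal.eq_top_of_isUnit_mem _ (hle (hh₀ _ hP₀ hne))
        (IsLocalization.Away.algebraMap_isUnit h₀))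
    subst hP₀c
    have := hc₀.eq_of_le (by exact (Ideal.IsPrime.comap (algebraMap D E)).ne_top) hle
    refine PrimeSpectrum.ext ?_
    show P.asIdeal = P₀.map (algebraMap D E)
    exact (IsLocalization.map_comap (Submonoid.powers h₀) E P.asIdeal).symm.trans
      (congrArg (Ideal.map (algebraMap D E)) this.symm)
  have hcmax : c.asIdeal.IsMaximal := by
    obtain ⟨T, hT, hcT⟩ := c.asIdeal.exists_le_maximal c.2.ne_top
    have := (hkey ⟨T, hT.isPrime⟩).mp (hcT (Ideal.mem_map_of_mem _ hd₀c))
    exact (congrArg PrimeSpectrum.asIdeal this) ▸ hT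
  have hch : c.asIdeal.height = 1 := by
    rw [← IsLocalization.height_under (Submonoid.powers h₀), show c.asIdeal.under D = c₀ from hcc]
    refine le_antisymm (Ideal.height_le_iff.mpr fun q hq hqc => ?_) ?_
    · have : q = ⊥ := by
        by_contra h0
        exact hqc.ne (hht q hq hqc.le h0)
      subst this
      rw [Ideal.height_bot]
      exact one_pos
    · exact Order.one_le_iff_pos.mpr (pos_iff_ne_zero.mpr fun h => hc₀0 (Ideal.height_eq_zero_iff_eq_bot.mp h))
  refine ⟨E, inferInstance, inferInstance, inferInstance, inferInstance, inferInstance, c,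
    algebraMap D E d₀, fun b => ?_, ?_, inferInstance, hcmax, hch, ?_, ?_, hkey,
    fun g hg => ?_⟩
  · show algebraMap E K (algebraMap D E _) = _
    rw [← IsScalarTower.algebraMap_apply D E K]
    exact φ.kerLift_mk b
  · refine RingHom.finiteType_algebraMap.mp ?_
    refine RingHom.FiniteType.comp (RingHom.finiteType_algebraMap.mpr inferInstance)
      (RingHom.FiniteType.comp ?_ (RingHom.FiniteType.of_surjective _ Ideal.Quotient.mk_surjective))
    exact RingHom.finiteType_algebraMap.mpr inferInstance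
  · show c.asIdeal.comap ((algebraMap D E).comp _) = _
    rw [← Ideal.comap_comap, hcc, hcm]
  · rw [map_ne_zero_iff _ (IsLocalization.injective E hMz)]
    exact hd₀
  · obtain ⟨a, ha⟩ := hb g hg
    refine ⟨algebraMap D E (d₁ * a), ?_⟩
    rw [← IsScalarTower.algebraMap_apply D E K, ← IsScalarTower.algebraMap_apply D E K, map_mul,
      map_mul, ha]
    show _ = algebraMap D K d₁ * (algebraMap D K b.1 * g)
    ring

end Ring

section Scheme

variable {X Y : Scheme.{u}}

lemma isConstructible_preimage_image (f : X ⟶ Y) [LocallyOfFiniteType f] [QuasiCompact f]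
    [IsLocallyNoetherian Y] {Z : Set X} (hZ : IsClosed Z) {V : Y.Opens} (hV : IsAffineOpen V) :
    Topology.IsConstructible (hV.fromSpec ⁻¹' (f '' Z)) := by
  let I := Scheme.IdealSheafData.vanishingIdeal ⟨Z, hZ⟩
  let g : I.subscheme ⟶ Y := I.subschemeι ≫ f
  have hg : f '' Z = Set.range g := by
    show _ = Set.range (f ∘ I.subschemeι)
    rw [Set.range_comp, Scheme.IdealSheafData.range_subschemeι]
    rfl
  haveI : IsNoetherianRing Γ(Y, V) := IsLocallyNoetherian.component_noetherian ⟨V, hV⟩
  rw [hg, ← Scheme.Pullback.range_snd g hV.fromSpec, ← Set.image_univ]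
  exact (pullback.snd g hV.fromSpec).isConstructible_image Topology.IsConstructible.univ

lemma exists_fiber_point (f : X ⟶ Y) [QuasiCompact f] {Z : Set X} (hZ : IsClosed Z) {η : Y}
    (hη : η ∈ f '' Z) :
    ∃ z ∈ Z, f z = η ∧ IsClosed ({f.asFiber z} : Set ↑(f.fiber (f z))) := by
  have key : ∀ (η : Y) (z : X) (pt : ↑(f.fiber η)), f z = η → f.fiberι η pt = z →
      IsClosed ({pt} : Set ↑(f.fiber η)) → IsClosed ({f.asFiber z} : Set ↑(f.fiber (f z))) := by
    rintro η z pt rfl e hc
    rwa [show f.asFiber z = pt from (f.fiberι (f z)).isEmbedding.injective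
      ((f.fiberι_asFiber z).trans e.symm)]
  haveI : CompactSpace ↑(f.fiber η) :=
    QuasiCompact.compactSpace_of_compactSpace (f.fiberToSpecResidueField η)
  obtain ⟨z₀, hz₀, rfl⟩ := hη
  obtain ⟨pt, hpt, hc⟩ := (hZ.preimage (f.fiberι (f z₀)).continuous).exists_closed_singleton
    ⟨f.asFiber z₀, by simpa using hz₀⟩
  have hf : f (f.fiberι (f z₀) pt) = f z₀ := by
    have := f.range_fiberι (f z₀) |>.le (Set.mem_range_self pt)
    exact this
  exact ⟨_, hpt, hf, key _ _ pt hf rfl hc⟩

open DVRCrit in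
/-- Images of closed sets are closed for morphisms lifting germs of normal curves. -/
theorem isClosed_image {S : Scheme.{u}} (hS : ∀ W : S.affineOpens, CAlg.IsNagata Γ(S, W))
    (q : Y ⟶ S) [LocallyOfFiniteType q] (f : X ⟶ Y) [LocallyOfFiniteType f] [QuasiCompact f]
    (H : HasCurveLifts q f) {Z : Set X} (hZ : IsClosed Z) : IsClosed (f '' Z) := by
  haveI : IsLocallyNoetherian S := ⟨fun W => (hS W).1⟩
  haveI : IsLocallyNoetherian Y := LocallyOfFiniteType.isLocallyNoetherian q
  refine isClosed_of_closure_subset fun y₀ hy₀ => ?_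
  by_contra hy₀T
  -- a locally closed bad point
  obtain ⟨y, ⟨hyc, hyT⟩, hy⟩ : ∃ y ∈ closure (f '' Z) \ (f '' Z), IsLocallyClosed ({y} : Set Y) := by
    obtain ⟨V, hV, hyV, -⟩ := exists_isAffineOpen_mem_and_subset (X := Y) (x := y₀) (U := ⊤) trivial
    obtain ⟨L, hL, hyL, hL'⟩ := Dim.exists_isLocallyClosed_subset_or
      (isConstructible_preimage_image f hZ hV) (hV.primeIdealOf ⟨y₀, hyV⟩)
    have e := hV.fromSpec_primeIdealOf ⟨y₀, hyV⟩
    have hLT : L ⊆ (hV.fromSpec ⁻¹' (f '' Z))ᶜ :=
      hL'.resolve_left fun h => hy₀T (by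
        have := h hyL
        rw [Set.mem_preimage, e] at this
        exact this)
    obtain ⟨y, ⟨⟨T, hT, rfl⟩, hyc⟩, hy⟩ := Dim.exists_isLocallyClosed_singleton
      ((hL.image hV.fromSpec.isOpenEmbedding.isInducing
        hV.fromSpec.isOpenEmbedding.isOpen_range.isLocallyClosed).inter isClosed_closure.isLocallyClosed)
      ⟨y₀, ⟨_, hyL, e⟩, hy₀⟩
    exact ⟨_, ⟨hyc, hLT hT⟩, hy⟩
  -- an affine chart in which it is closed
  obtain ⟨O, C, hO, hC, hOC⟩ := hy
  have hyO : y ∈ O := (hOC ▸ Set.mem_singleton y : y ∈ O ∩ C).1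
  obtain ⟨W, hW, hyW, -⟩ := exists_isAffineOpen_mem_and_subset (X := S) (x := q y) (U := ⊤) trivial
  obtain ⟨V, hV, hyV, hVle⟩ := exists_isAffineOpen_mem_and_subset (X := Y) (x := y)
    (U := ⟨O, hO⟩ ⊓ q ⁻¹ᵁ W) ⟨hyO, hyW⟩
  have hVW : V ≤ q ⁻¹ᵁ W := fun t ht => (hVle ht).2
  have hB : CAlg.IsNagata Γ(Y, V) := by
    letI := (q.appLE W V hVW).hom.toAlgebra
    haveI : Algebra.FiniteType Γ(S, W) Γ(Y, V) := q.finiteType_appLE hW hV hVW
    exact Nagata.FiniteType.isNagata (hS ⟨W, hW⟩) Γ(Y, V)
  haveI := hB.1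
  let m := hV.primeIdealOf ⟨y, hyV⟩
  have em : hV.fromSpec m = y := hV.fromSpec_primeIdealOf ⟨y, hyV⟩
  have hmax : m.asIdeal.IsMaximal := by
    refine (PrimeSpectrum.isClosed_singleton_iff_isMaximal m).mp ?_
    have : ({m} : Set (PrimeSpectrum Γ(Y, V))) = hV.fromSpec ⁻¹' C := by
      ext t
      refine ⟨fun h => ?_, fun h => ?_⟩
      · rw [Set.mem_singleton_iff.mp h, Set.mem_preimage, em]
        exact (hOC ▸ Set.mem_singleton y : y ∈ O ∩ C).2
      · refine hV.fromSpec.isOpenEmbedding.injective ?_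
        rw [em]
        have htV : hV.fromSpec t ∈ V := hV.range_fromSpec.le ⟨t, rfl⟩
        exact (hOC.ge ⟨(hVle htV).1, h⟩ : hV.fromSpec t ∈ ({y} : Set Y))
    rw [this]
    exact hC.preimage hV.fromSpec.continuous
  have hmc : m ∈ closure (hV.fromSpec ⁻¹' (f '' Z)) := by
    rw [← hV.fromSpec.isOpenEmbedding.isOpenMap.preimage_closure_eq_closure_preimage
      hV.fromSpec.continuous, Set.mem_preimage, em]
    exact hyc
  obtain ⟨p, hpT, hpm, himm⟩ := exists_immediate (isConstructible_preimage_image f hZ hV) hmc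
    (by rwa [Set.mem_preimage, em])
  -- a closed point of the fibre over `p`
  obtain ⟨z₁, hz₁, hfz, hzc⟩ := exists_fiber_point f hZ hpT
  have hηV : f z₁ ∈ V := hfz ▸ hV.range_fromSpec.le ⟨p, rfl⟩
  have hfin : (f.residueFieldMap z₁).hom.Finite := (Groth.Agent.S9332.result f z₁).mp hzc
  let K := X.residueField z₁
  let φ : Γ(Y, V) ⟶ K :=
    (Y.presheaf.germ V (f z₁) hηV ≫ Y.residue (f z₁)) ≫ f.residueFieldMap z₁
  obtain ⟨UX, hUX, hzUX, hUXV⟩ := exists_isAffineOpen_mem_and_subset (X := X) (x := z₁)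
    (U := f ⁻¹ᵁ V) hηV
  have hall : ∀ t, X.fromSpecResidueField z₁ t ∈ UX := fun t => by simpa using hzUX
  let ψ := ev (X.fromSpecResidueField z₁) UX hall
  have hφψ : f.appLE V UX hUXV ≫ ψ = φ := by
    have hη : ∀ t, Y.fromSpecResidueField (f z₁) t ∈ V := fun t => by simpa using hηV
    rw [← ev_comp_right f (X.fromSpecResidueField z₁) hUXV hall,
      ev_congr (f.SpecMap_residueFieldMap_fromSpecResidueField z₁).symm V _
        (fun t => hη (Spec.map (f.residueFieldMap z₁) t)),
      ev_comp _ _ V hη, ev_fromSpecResidueField hV _ hηV hη]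
  have hker : RingHom.ker φ.hom = p.asIdeal := by
    have hp : hV.primeIdealOf ⟨f z₁, hηV⟩ = p :=
      hV.fromSpec.isOpenEmbedding.injective ((hV.fromSpec_primeIdealOf _).trans hfz)
    rw [← hp]
    letI := Y.presheaf.algebra_section_stalk ⟨f z₁, hηV⟩
    haveI := hV.isLocalization_stalk ⟨f z₁, hηV⟩
    rw [← IsLocalization.AtPrime.under_maximalIdeal (Y.presheaf.stalk (f z₁))
      (hV.primeIdealOf ⟨f z₁, hηV⟩).asIdeal]
    ext b
    show (f.residueFieldMap z₁).hom (Y.residue (f z₁) (Y.presheaf.germ V (f z₁) hηV b)) = 0 ↔ _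
    rw [map_eq_zero_iff _ (RingHom.injective _)]
    exact IsLocalRing.residue_eq_zero_iff _
  have hFfin : Module.Finite (Subfield.closure (Set.range φ.hom)) K := by
    have hη : ∀ t, Y.fromSpecResidueField (f z₁) t ∈ V := fun t => by simpa using hηV
    have hcl := closure_range_ev_residueField (f z₁) hV hη
    rw [ev_fromSpecResidueField hV _ hηV hη] at hcl
    have himg : (f.residueFieldMap z₁).hom.fieldRange ≤ Subfield.closure (Set.range φ.hom) := by
      rw [RingHom.fieldRange_eq_map, ← hcl, RingHom.map_field_closure]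
      refine Subfield.closure_mono ?_
      rintro _ ⟨_, ⟨b, rfl⟩, rfl⟩
      exact ⟨b, rfl⟩
    let F := Subfield.closure (Set.range φ.hom)
    letI := ((f.residueFieldMap z₁).hom.codRestrict F fun t => himg ⟨t, rfl⟩).toAlgebra
    letI := (f.residueFieldMap z₁).hom.toAlgebra
    haveI : IsScalarTower (Y.residueField (f z₁)) F K := IsScalarTower.of_algebraMap_eq fun _ => rfl
    haveI : Module.Finite (Y.residueField (f z₁)) K := hfin
    exact Module.Finite.of_restrictScalars_finite (Y.residueField (f z₁)) F K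
  -- generators of the chart upstairs
  letI := (f.appLE V UX hUXV).hom.toAlgebra
  obtain ⟨G, hG⟩ := (f.finiteType_appLE hV hUX hUXV : Algebra.FiniteType Γ(Y, V) Γ(X, UX)).out
  classical
  obtain ⟨E, _, _, _, _, _, c, d, hE, hEft, hEn, hcmax, hch, hcm, hd, hdc, hGE⟩ :=
    exists_normal_curve hB K φ.hom p m hker hFfin (G.image ψ.hom) hmax hpm himm
  let L := Localization.Away d
  have hd' : ∀ t : Submonoid.powers d, IsUnit (algebraMap E K t) := fun t => by
    obtain ⟨n, hn⟩ := t.2
    rw [← hn]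
    exact (map_pow (algebraMap E K) d n) ▸ (IsUnit.mk0 _ fun h0 =>
      hd (IsFractionRing.injective E K (h0.trans (map_zero _).symm))).pow n
  let i : L →+* K := IsLocalization.lift hd'
  have hMd : Submonoid.powers d ≤ nonZeroDivisors E := powers_le_nonZeroDivisors_of_noZeroDivisors hd
  haveI : IsDomain L := IsLocalization.isDomain_localization hMd
  have hi : Function.Injective i := by
    rw [IsLocalization.lift_injective_iff]
    exact fun a b => ⟨fun h => congrArg _ (IsLocalization.injective L hMd h),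
      fun h => congrArg _ (IsFractionRing.injective E K h)⟩
  have hψL : ∀ t, ψ.hom t ∈ i.range := by
    intro t
    have ht : t ∈ Algebra.adjoin Γ(Y, V) (G : Set Γ(X, UX)) := hG ▸ trivial
    induction ht using Algebra.adjoin_induction with
    | mem g hg =>
      obtain ⟨e, he⟩ := hGE _ (Finset.mem_image_of_mem _ hg)
      refine ⟨IsLocalization.mk' L e (⟨d, Submonoid.mem_powers d⟩ : Submonoid.powers d), ?_⟩
      rw [IsLocalization.lift_mk'_spec, ← he]
      exact mul_comm _ _
    | algebraMap b =>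
      refine ⟨algebraMap E L (algebraMap _ E b), ?_⟩
      rw [IsLocalization.lift_eq, hE]
      exact ConcreteCategory.congr_hom hφψ.symm b
    | add a b _ _ ha hb => rw [map_add]; exact add_mem ha hb
    | mul a b _ _ ha hb => rw [map_mul]; exact mul_mem ha hb
  let eL : L ≃+* i.range := RingEquiv.ofBijective i.rangeRestrict
    ⟨fun a b h => hi (congrArg Subtype.val h), i.rangeRestrict_surjective⟩
  let ψd : Γ(X, UX) →+* L := eL.symm.toRingHom.comp (ψ.hom.codRestrict i.range hψL)
  have hψd : ∀ t, i (ψd t) = ψ.hom t := fun t =>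
    congrArg Subtype.val (eL.apply_symm_apply ⟨ψ.hom t, hψL t⟩)
  let CE := Spec (CommRingCat.of E)
  let g : CE ⟶ Y := Spec.map (CommRingCat.ofHom (algebraMap Γ(Y, V) E)) ≫ hV.fromSpec
  haveI : LocallyOfFiniteType (Spec.map (CommRingCat.ofHom (algebraMap Γ(Y, V) E))) :=
    (HasRingHomProperty.Spec_iff (P := @LocallyOfFiniteType)).mpr
      (RingHom.finiteType_algebraMap.mpr hEft)
  let U : CE.Opens := PrimeSpectrum.basicOpen d
  let u : (U : Scheme.{u}) ⟶ X :=
    (basicOpenIsoSpecAway (R := CommRingCat.of E) d).hom ≫ Spec.map (CommRingCat.ofHom ψd) ≫ hUX.fromSpec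
  have hUι : U.ι = (basicOpenIsoSpecAway (R := CommRingCat.of E) d).hom ≫
      Spec.map (CommRingCat.ofHom (algebraMap E L)) := (basicOpenIsoSpecAway_hom_SpecMap _).symm
  have huf : u ≫ f = U.ι ≫ g := by
    rw [hUι]
    simp only [u, g, Category.assoc]
    rw [← hV.SpecMap_appLE_fromSpec f hUX hUXV, ← Spec.map_comp_assoc, ← Spec.map_comp_assoc]
    congr 2
    refine congrArg Spec.map ?_
    ext b
    apply hi
    show i (ψd (f.appLE V UX hUXV b)) = i (algebraMap E L (algebraMap _ E b))
    rw [hψd, IsLocalization.lift_eq, hE]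
    exact ConcreteCategory.congr_hom hφψ b
  have hst : ∀ t : CE, IsIntegrallyClosed (CE.presheaf.stalk t) := fun t => by
    letI : Algebra E (CE.presheaf.stalk t) := StructureSheaf.stalkAlgebra E t
    haveI : IsLocalization.AtPrime (CE.presheaf.stalk t) t.asIdeal :=
      StructureSheaf.IsLocalization.to_stalk E t
    exact isIntegrallyClosed_of_isLocalization _ _ t.asIdeal.primeCompl_le_nonZeroDivisors
  let A := CE.presheaf.stalk c
  letI : Algebra E A := StructureSheaf.stalkAlgebra E c
  haveI : IsLocalization.AtPrime A c.asIdeal := StructureSheaf.IsLocalization.to_stalk E c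
  have hU : (U : Set CE) = {c}ᶜ := by
    ext t
    exact (not_congr (hdc t))
  have hgen : ∀ t, (Spec.map (CommRingCat.ofHom (algebraMap A (FractionRing A))) ≫
      CE.fromSpecStalk c) t = (⊥ : PrimeSpectrum E) := by
    intro t
    rw [Spec.fromSpecStalk_eq', ← Spec.map_comp, Spec.map_apply]
    refine PrimeSpectrum.ext ?_
    show Ideal.comap ((algebraMap A (FractionRing A)).comp (algebraMap E A)) t.asIdeal = ⊥
    rw [(show t.asIdeal = ⊥ from Ideal.eq_bot_of_prime _), ← RingHom.ker_eq_comap_bot,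
      ← RingHom.injective_iff_ker_eq_bot]
    exact (IsFractionRing.injective A (FractionRing A)).comp
      (IsLocalization.injective A c.asIdeal.primeCompl_le_nonZeroDivisors)
  let k := IsOpenImmersion.lift U.ι (Spec.map (CommRingCat.ofHom (algebraMap A (FractionRing A))) ≫
      CE.fromSpecStalk c) (by
    rintro _ ⟨t, rfl⟩
    rw [Scheme.Opens.range_ι, hgen]
    exact fun h => hd (Ideal.mem_bot.mp h))
  obtain ⟨l, hl, hl'⟩ := H CE (g ≫ q) hst c
    ((PrimeSpectrum.isClosed_singleton_iff_isMaximal c).mpr hcmax)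
    (by rw [IsLocalization.AtPrime.ringKrullDim_eq_height c.asIdeal A, hch]; rfl)
    U hU u g rfl huf k (IsOpenImmersion.lift_fac _ _ _)
  let t₀ : Spec (CommRingCat.of (FractionRing A)) := closedPoint (FractionRing A)
  have hku : (k ≫ u) t₀ = z₁ := by
    have hx : Spec.map (CommRingCat.ofHom i) ≫ Spec.map (CommRingCat.ofHom ψd) ≫ hUX.fromSpec =
        X.fromSpecResidueField z₁ := by
      rw [← Spec.map_comp_assoc, show CommRingCat.ofHom ψd ≫ CommRingCat.ofHom i = ψ from
        CommRingCat.hom_ext (RingHom.ext hψd)]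
      exact eq_map_ev_fromSpec _ hUX hall
    let t₁ : Spec K := closedPoint K
    rw [← X.fromSpecResidueField_apply z₁ t₁, ← hx]
    simp only [u, Scheme.Hom.comp_apply]
    refine congrArg (fun t => hUX.fromSpec (Spec.map (CommRingCat.ofHom ψd) t)) ?_
    refine PrimeSpectrum.localization_comap_injective L (Submonoid.powers d) ?_
    have e1 : Spec.map (CommRingCat.ofHom (algebraMap E L))
        ((basicOpenIsoSpecAway (R := CommRingCat.of E) d).hom (k t₀)) = (⊥ : PrimeSpectrum E) := by
      rw [← Scheme.Hom.comp_apply, ← hUι, ← Scheme.Hom.comp_apply, IsOpenImmersion.lift_fac]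
      exact hgen t₀
    refine e1.trans (PrimeSpectrum.ext ?_)
    show ⊥ = Ideal.comap (algebraMap E L) (Ideal.comap i t₁.asIdeal)
    rw [(show t₁.asIdeal = ⊥ from Ideal.eq_bot_of_prime _), Ideal.comap_comap, ← RingHom.ker_eq_comap_bot,
      eq_comm, ← RingHom.injective_iff_ker_eq_bot]
    exact hi.comp (IsLocalization.injective L hMd)
  have hspec : z₁ ⤳ l (closedPoint A) := by
    rw [← hku, ← hl', Scheme.Hom.comp_apply]
    exact (IsLocalRing.specializes_closedPoint _).map l.continuous
  refine hyT ⟨l (closedPoint A), hspec.mem_closed hZ hz₁, ?_⟩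
  rw [← Scheme.Hom.comp_apply, hl, Scheme.Hom.comp_apply, Scheme.fromSpecStalk_closedPoint]
  show hV.fromSpec (PrimeSpectrum.comap (algebraMap Γ(Y, V) E) c) = y
  rw [show PrimeSpectrum.comap (algebraMap Γ(Y, V) E) c = m from PrimeSpectrum.ext hcm, em]

end Scheme

end Groth.Agent.LimLib.NagataCurve
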